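import Mathlib

/-!
A subgroup with two unfused classes of involutions that contains their centralisers is the whole group.
-/

set_option autoImplicit false

namespace Cfsg.Lib.CoThreeRecog

/-- Two involutions are conjugate or commute with a common involution. -/
theorem conj_or_common {X : Type*} [Group X] [Finite X] {x y : X} (hx : x * x = 1) (hy : y * y = 1)
    (h : ∀ g, g * y * g⁻¹ ≠ x) : ∃ z, z * z = 1 ∧ z ≠ 1 ∧ z * x = x * z ∧ z * y = y * z := by
  have hxi : x⁻¹ = x := inv_eq_of_mul_eq_one_left hx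
  have hyi : y⁻¹ = y := inv_eq_of_mul_eq_one_left hy
  have hix : x * (x * y) * x⁻¹ = (x * y)⁻¹ := by
    rw [mul_inv_rev, hxi, hyi, ← mul_assoc, hx, one_mul]
  have hiy : y * (x * y) * y⁻¹ = (x * y)⁻¹ := by
    rw [mul_inv_rev, hxi, mul_assoc, mul_inv_cancel_right, hyi]
  have hpow : ∀ u, u * (x * y) * u⁻¹ = (x * y)⁻¹ → ∀ k : ℕ, u * (x * y) ^ k * u⁻¹ = ((x * y) ^ k)⁻¹ :=
    fun u hu k => by rw [← conj_pow, hu, inv_pow]
  rcases Nat.even_or_odd' (orderOf (x * y)) with ⟨m, hm | hm⟩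
  · have hpos := orderOf_pos (x * y)
    refine ⟨(x * y) ^ m, ?_, pow_ne_one_of_lt_orderOf (by omega) (by omega), ?_, ?_⟩
    · rw [← pow_add, show m + m = orderOf (x * y) by omega, pow_orderOf_eq_one]
    · have hz : ((x * y) ^ m)⁻¹ = (x * y) ^ m := inv_eq_of_mul_eq_one_left (by
        rw [← pow_add, show m + m = orderOf (x * y) by omega, pow_orderOf_eq_one])
      exact (mul_inv_eq_iff_eq_mul.1 ((hpow x hix m).trans hz)).symm
    · have hz : ((x * y) ^ m)⁻¹ = (x * y) ^ m := inv_eq_of_mul_eq_one_left (by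
        rw [← pow_add, show m + m = orderOf (x * y) by omega, pow_orderOf_eq_one])
      exact (mul_inv_eq_iff_eq_mul.1 ((hpow y hiy m).trans hz)).symm
  · exfalso
    refine h ((x * y) ^ (m + 1)) ?_
    have e1 : y * ((x * y) ^ (m + 1))⁻¹ = (x * y) ^ (m + 1) * y := by
      rw [← hpow y hiy (m + 1), hyi]
      calc y * (y * (x * y) ^ (m + 1) * y) = (y * y) * (x * y) ^ (m + 1) * y := by group
        _ = _ := by rw [hy, one_mul]
    rw [mul_assoc, e1, ← mul_assoc, ← pow_add, show m + 1 + (m + 1) = orderOf (x * y) + 1 by omega, pow_succ,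
      pow_orderOf_eq_one, one_mul, mul_assoc, hy, mul_one]

/-- The criterion. -/
theorem two_class {X : Type*} [Group X] [Finite X] (J : Subgroup X) {a b : X} (ha : a ∈ J) (hb : b ∈ J)
    (ha2 : a * a = 1) (hb2 : b * b = 1) (hb1 : b ≠ 1) (hab : ∀ g, g * a * g⁻¹ ≠ b)
    (hcls : ∀ u ∈ J, u * u = 1 → u ≠ 1 → ∃ j ∈ J, j * a * j⁻¹ = u ∨ j * b * j⁻¹ = u)
    (hCa : ∀ g, g * a = a * g → g ∈ J) (hCb : ∀ g, g * b = b * g → g ∈ J) : J = ⊤ := by
  refine eq_top_iff.2 fun g _ => ?_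
  have hC : ∀ u ∈ J, u * u = 1 → u ≠ 1 → ∀ k, k * u = u * k → k ∈ J := by
    intro u hu h2 h1 k hk
    obtain ⟨j, hj, hju⟩ := hcls u hu h2 h1
    have key : ∀ c, (∀ i, i * c = c * i → i ∈ J) → j * c * j⁻¹ = u → k ∈ J := fun c hc e => by
      have h := hc (j⁻¹ * k * j) (by
        calc j⁻¹ * k * j * c = j⁻¹ * (k * (j * c * j⁻¹)) * j := by group
          _ = j⁻¹ * (j * c * j⁻¹ * k) * j := by rw [e, hk]
          _ = _ := by group)
      have h' := mul_mem (mul_mem hj h) (inv_mem hj)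
      rwa [show j * (j⁻¹ * k * j) * j⁻¹ = k by group] at h'
    exact hju.elim (key a hCa) (key b hCb)
  set y := g * b * g⁻¹ with hy
  have hy2 : y * y = 1 := by
    calc y * y = g * (b * b) * g⁻¹ := by rw [hy]; group
      _ = 1 := by rw [hb2, mul_one, mul_inv_cancel]
  have hne : ∀ k, k * y * k⁻¹ ≠ a := fun k e => hab (k * g)⁻¹ (by rw [← e, hy]; group)
  obtain ⟨z, hz2, hz1, hza, hzy⟩ := conj_or_common ha2 hy2 hne
  have hyJ : y ∈ J := hC z (hCa z hza) hz2 hz1 y hzy.symm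
  have hy1 : y ≠ 1 := fun e => hb1 (conj_eq_one_iff.1 e)
  obtain ⟨j, hj, e | e⟩ := hcls y hyJ hy2 hy1
  · exact absurd (by rw [← e]; group) (hne j⁻¹)
  · have h := hCb (j⁻¹ * g) (by
      calc j⁻¹ * g * b = j⁻¹ * y * g := by rw [hy]; group
        _ = j⁻¹ * (j * b * j⁻¹) * g := by rw [e]
        _ = _ := by group)
    have h' := mul_mem hj h
    rwa [mul_inv_cancel_left] at h'

end Cfsg.Lib.CoThreeRecog
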