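import Cfsg.Agent.CoThreeRecog.Section
import Cfsg.Agent.CoThreeRecog.TwoClass

/-!
In a group containing the model, with the centraliser of the first class inside it and no fusion of the two
classes, the centraliser of the second class lies inside the model.
-/

set_option autoImplicit false
set_option maxRecDepth 20000
set_option linter.style.haveILetI false

namespace Cfsg.Lib.CoThreeRecog

open Cfsg Cfsg.Lib.CosetCert Cfsg.Lib.CosetCert.OutCert
open Cfsg.Lib.CoThreeModel (data valid_data grp_eq)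

/-- The witness of a member of a coset. -/
def witAt (i k : ℕ) : ℕ × List ℕ := (lWit.getD i []).getD k (4, [])

/-- The member of the first class in the coset of the first kind. -/
def dMem : ℕ := ((List.range 4).find? fun k => (witAt dIdx k).1 == 0).getD 4

theorem d_wit : (witOK dIdx && witOK sIdx && Nat.blt dMem 4 && (witAt dIdx dMem).1 == 0 &&
    (List.range 4).all (fun k => k == dMem || (witAt dIdx k).1 != 0) &&
    (List.range 4).all (fun k => (witAt sIdx k).1 != 0)) = true := by decide +kernel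

theorem vE_sq {k : ℕ} (hk : k < 4) : vE k * vE k = 1 := by
  obtain ⟨h0, h1, h2, h3⟩ := vE_facts
  have ha := rep_facts.1.2
  have hqa : qP * aP = aP * qP := (mem_centQ.1 rep_facts.1.1).2.symm
  interval_cases k
  · rw [h0, mul_one]
  · rw [h1, qP_sq]
  · rw [h2, ha]
  · rw [h3, mul_assoc, ← mul_assoc qP, hqa, mul_assoc, qP_sq, mul_one, ha]

attribute [local irreducible] val lt witOK

theorem repP_twelve {j : ℕ} (hj : j < 4) (h0 : j ≠ 0) : repP j ∈ data.grp ∧ nfp (repP j) = 12 := by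
  obtain ⟨-, -, -, -, hk, -, f1, f2, f3⟩ := rep_facts
  refine ⟨(hk j hj).1, ?_⟩
  interval_cases j
  exacts [absurd rfl h0, f1, f2, f3]

theorem member {i k : ℕ} (hw : witOK i = true) (hk : k < 4) :
    ∃ u ∈ data.grp, (witAt i k).1 < 4 ∧ u * (rE i * vE k) * u⁻¹ = repP (witAt i k).1 := by
  rw [witOK, List.all_eq_true] at hw
  have h := hw k (List.mem_range.2 hk)
  simp only [Bool.and_eq_true] at h
  refine ⟨val (witAt i k).2, val_mem h.1.2, Nat.le_of_ble_eq_true h.1.1, ?_⟩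
  rw [rE, vE, repP, ← val_app, witAt, ← val_cj h.1.2]
  exact eqW_sound h.2

/-- A copy of the model containing the centraliser of the first class, without fusion of the two classes. -/
structure Emb (G : Type*) [Group G] where
  /-- The copy. -/
  φ : data.grp →* G
  inj : Function.Injective φ
  cent : ∀ g, g * φ ⟨tP, tP_mem⟩ = φ ⟨tP, tP_mem⟩ * g → g ∈ φ.range
  notT : ∀ (g : G) (u : data.grp), nfp (u : Pm) = 12 → g * φ ⟨tP, tP_mem⟩ * g⁻¹ ≠ φ u

open scoped _root_.Classical in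
/-- The copy as a total function. -/
noncomputable def Emb.F {G : Type*} [Group G] (m : Emb G) (z : Pm) : G :=
  if h : z ∈ data.grp then m.φ ⟨z, h⟩ else 1

namespace Emb

variable {G : Type*} [Group G] (m : Emb G)

theorem F_def {z : Pm} (h : z ∈ data.grp) : m.F z = m.φ ⟨z, h⟩ := dif_pos h

theorem F_mul {a b : Pm} (ha : a ∈ data.grp) (hb : b ∈ data.grp) : m.F (a * b) = m.F a * m.F b := by
  rw [m.F_def ha, m.F_def hb, m.F_def (mul_mem ha hb), ← map_mul]
  rfl

theorem F_one : m.F 1 = 1 := by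
  rw [m.F_def (one_mem _)]
  exact map_one m.φ

theorem F_inv {a : Pm} (ha : a ∈ data.grp) : m.F a⁻¹ = (m.F a)⁻¹ := by
  rw [m.F_def ha, m.F_def (inv_mem ha), ← map_inv]
  rfl

theorem F_inj {a b : Pm} (ha : a ∈ data.grp) (hb : b ∈ data.grp) (h : m.F a = m.F b) : a = b := by
  rw [m.F_def ha, m.F_def hb] at h
  exact congrArg Subtype.val (m.inj h)

theorem F_conj {a b : Pm} (ha : a ∈ data.grp) (hb : b ∈ data.grp) :
    m.F (a * b * a⁻¹) = m.F a * m.F b * (m.F a)⁻¹ := by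
  rw [m.F_mul (mul_mem ha hb) (inv_mem ha), m.F_mul ha hb, m.F_inv ha]

theorem F_range {z : Pm} (h : z ∈ data.grp) : m.F z ∈ m.φ.range := ⟨⟨z, h⟩, (m.F_def h).symm⟩

theorem exists_F {g : G} (h : g ∈ m.φ.range) : ∃ z ∈ data.grp, m.F z = g := by
  obtain ⟨⟨z, hz⟩, rfl⟩ := h
  exact ⟨z, hz, m.F_def hz⟩

theorem cent' {g : G} (h : g * m.F tP = m.F tP * g) : g ∈ m.φ.range := by
  rw [m.F_def tP_mem] at h
  exact m.cent g h

theorem notT' {g : G} {u : Pm} (hu : u ∈ data.grp) (hf : nfp u = 12) : g * m.F tP * g⁻¹ ≠ m.F u := by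
  rw [m.F_def tP_mem, m.F_def hu]
  exact m.notT g ⟨u, hu⟩ hf

theorem cQ {z : Pm} (hz : z ∈ centQ) : z ∈ data.grp := (mem_centQ.1 hz).1

theorem aQ : aP ∈ data.grp := cQ rep_facts.1.1

theorem qQ : qP ∈ data.grp := cQ qP_centQ

theorem F_q_sq : m.F qP * m.F qP = 1 := by rw [← m.F_mul qQ qQ, qP_sq, m.F_one]

theorem F_aq : m.F qP * m.F aP = m.F aP * m.F qP := by
  rw [← m.F_mul qQ aQ, ← m.F_mul aQ qQ, (mem_centQ.1 rep_facts.1.1).2]

theorem F_comm {z : Pm} (hz : z ∈ centQ) : m.F z * m.F qP = m.F qP * m.F z := by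
  rw [← m.F_mul (cQ hz) qQ, ← m.F_mul qQ (cQ hz), (mem_centQ.1 hz).2]

/-- The stabiliser of the pair. -/
def pairStab : Subgroup G where
  carrier := {g | g * m.F qP = m.F qP * g ∧
    (g * m.F aP * g⁻¹ = m.F aP ∨ g * m.F aP * g⁻¹ = m.F aP * m.F qP)}
  one_mem' := ⟨by rw [one_mul, mul_one], Or.inl (by group)⟩
  mul_mem' := by
    rintro g g' ⟨hg, hg2⟩ ⟨hg', hg2'⟩
    refine ⟨by rw [mul_assoc, hg', ← mul_assoc, hg, mul_assoc], ?_⟩
    have hgq : g * m.F qP * g⁻¹ = m.F qP := mul_inv_eq_iff_eq_mul.2 hg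
    have e : g * g' * m.F aP * (g * g')⁻¹ = g * (g' * m.F aP * g'⁻¹) * g⁻¹ := by group
    rw [e]
    rcases hg2' with h | h <;> rw [h]
    · exact hg2
    · rw [show g * (m.F aP * m.F qP) * g⁻¹ = g * m.F aP * g⁻¹ * (g * m.F qP * g⁻¹) by group, hgq]
      rcases hg2 with h2 | h2 <;> rw [h2]
      · exact Or.inr rfl
      · exact Or.inl (by rw [mul_assoc, m.F_q_sq, mul_one])
  inv_mem' := by
    rintro g ⟨hg, hg2⟩
    have hgq : g⁻¹ * m.F qP = m.F qP * g⁻¹ := inv_mul_eq_iff_eq_mul.2 (by rw [← mul_assoc, hg, mul_inv_cancel_right])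
    refine ⟨hgq, ?_⟩
    rw [inv_inv]
    rcases hg2 with h | h
    · left
      conv_lhs => rw [← h]
      group
    · right
      have e : m.F aP = g * m.F aP * g⁻¹ * m.F qP := by rw [h, mul_assoc, m.F_q_sq, mul_one]
      calc g⁻¹ * m.F aP * g = g⁻¹ * (g * m.F aP * g⁻¹ * m.F qP) * g := by rw [← e]
        _ = m.F aP * (g⁻¹ * m.F qP) * g := by group
        _ = m.F aP * (m.F qP * g⁻¹) * g := by rw [hgq]
        _ = _ := by group

/-- The four-group inside it. -/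
def four : Subgroup m.pairStab where
  carrier := {x | ∃ v ∈ Vset, (x : G) = m.F v}
  one_mem' := ⟨1, ⟨0, by norm_num, vE_facts.1.symm⟩, m.F_one.symm⟩
  mul_mem' := by
    rintro a b ⟨u, hu, ea⟩ ⟨v, hv, eb⟩
    refine ⟨u * v, Vset_mul hu hv, ?_⟩
    obtain ⟨k, hk, rfl⟩ := hu
    obtain ⟨l, hl, rfl⟩ := hv
    rw [Subgroup.coe_mul, ea, eb, m.F_mul (cQ (vE_centQ hk).1) (cQ (vE_centQ hl).1)]
  inv_mem' := by
    rintro a ⟨v, hv, ea⟩
    refine ⟨v, hv, ?_⟩
    obtain ⟨k, hk, rfl⟩ := hv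
    rw [Subgroup.coe_inv, ea, ← m.F_inv (cQ (vE_centQ hk).1), inv_eq_of_mul_eq_one_left (vE_sq hk)]

theorem four_move {x : G} (hx : x ∈ m.pairStab) {k : ℕ} (hk : k < 4) :
    ∃ v ∈ Vset, x * m.F (vE k) * x⁻¹ = m.F v := by
  obtain ⟨h0, h1, h2, h3⟩ := vE_facts
  obtain ⟨hq, ha⟩ := hx
  have hq' : x * m.F qP * x⁻¹ = m.F qP := mul_inv_eq_iff_eq_mul.2 hq
  have m3 : aP * qP ∈ data.grp := mul_mem aQ qQ
  have e3 : m.F (aP * qP) = m.F aP * m.F qP := m.F_mul aQ qQ
  have w : ∀ y : Pm, y = 1 ∨ y = qP ∨ y = aP ∨ y = aP * qP → y ∈ Vset := fun y hy => by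
    rcases hy with rfl | rfl | rfl | rfl
    exacts [⟨0, by norm_num, h0.symm⟩, ⟨1, by norm_num, h1.symm⟩, ⟨2, by norm_num, h2.symm⟩, ⟨3, by norm_num, h3.symm⟩]
  interval_cases k
  · exact ⟨1, w _ (by simp), by rw [h0, m.F_one]; group⟩
  · exact ⟨qP, w _ (by simp), by rw [h1, hq']⟩
  · rw [h2]
    rcases ha with ha | ha
    · exact ⟨aP, w _ (by simp), ha⟩
    · exact ⟨aP * qP, w _ (by simp), ha.trans e3.symm⟩
  · rw [h3, e3, show x * (m.F aP * m.F qP) * x⁻¹ = x * m.F aP * x⁻¹ * (x * m.F qP * x⁻¹) by group, hq']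
    rcases ha with ha | ha <;> rw [ha]
    · exact ⟨aP * qP, w _ (by simp), e3.symm⟩
    · exact ⟨aP, w _ (by simp), by rw [mul_assoc, m.F_q_sq, mul_one]⟩

instance four_normal : m.four.Normal where
  conj_mem := by
    rintro a ⟨v, ⟨k, hk, rfl⟩, ea⟩ x
    obtain ⟨v', hv', e⟩ := m.four_move x.2 hk
    exact ⟨v', hv', by rw [Subgroup.coe_mul, Subgroup.coe_mul, Subgroup.coe_inv, ea, e]⟩

theorem rE_pair {i : ℕ} (hi : i < 120) : m.F (rE i) ∈ m.pairStab := by
  obtain ⟨-, hc, ha⟩ := rE_facts hi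
  refine ⟨m.F_comm hc, Or.inl ?_⟩
  rw [← m.F_conj (cQ hc) aQ, ha, mul_inv_cancel_right]

open scoped _root_.Classical in
/-- The section. -/
noncomputable def sec (i : ℕ) : m.pairStab ⧸ m.four :=
  if hi : i < 120 then QuotientGroup.mk ⟨m.F (rE i), m.rE_pair hi⟩ else 1

theorem sec_def {i : ℕ} (hi : i < 120) : m.sec i = QuotientGroup.mk ⟨m.F (rE i), m.rE_pair hi⟩ := dif_pos hi

/-- Conjugation of one coset onto another. -/
theorem move {x : m.pairStab} {i j : ℕ} (hi : i < 120) (hj : j < 120)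
    (h : (QuotientGroup.mk x : m.pairStab ⧸ m.four) * m.sec i * (QuotientGroup.mk x)⁻¹ = m.sec j) {k : ℕ}
    (hk : k < 4) : ∃ k' < 4, (x : G) * m.F (rE i * vE k) * (x : G)⁻¹ = m.F (rE j * vE k') := by
  rw [m.sec_def hi, m.sec_def hj] at h
  obtain ⟨v, ⟨l, hl, rfl⟩, e⟩ := QuotientGroup.eq.1 h.symm
  obtain ⟨v', hv', e'⟩ := m.four_move x.2 hk
  obtain ⟨l', hl', rfl⟩ := hv'
  obtain ⟨k', hk', ek⟩ := Vset_mul ⟨l, hl, rfl⟩ ⟨l', hl', rfl⟩
  have hri := cQ (rE_facts hi).2.1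
  have hrj := cQ (rE_facts hj).2.1
  have e2 : (x : G) * m.F (rE i) * (x : G)⁻¹ = m.F (rE j) * m.F (vE l) := by
    rw [← e]
    simp [Subgroup.coe_mul, mul_assoc]
  refine ⟨k', hk', ?_⟩
  rw [← ek, m.F_mul hri (cQ (vE_centQ hk).1),
    m.F_mul hrj (mul_mem (cQ (vE_centQ hl).1) (cQ (vE_centQ hl').1)),
    m.F_mul (cQ (vE_centQ hl).1) (cQ (vE_centQ hl').1), ← mul_assoc (m.F (rE j)), ← e2, ← e']
  group

variable [Finite G]

omit [Finite G] in
theorem sec_isSect : Sect m.sec where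
  mul i hi j hj := by
    obtain ⟨v, hv, e⟩ := rE_mul (lRank.getD i 0 + 1) i (Nat.lt_succ_self _) hi j hj
    obtain ⟨k, hk, rfl⟩ := hv
    have hm := lm_lt hi hj
    rw [m.sec_def hi, m.sec_def hj, m.sec_def hm, ← QuotientGroup.mk_mul]
    symm
    refine QuotientGroup.eq.2 ⟨vE k, ⟨k, hk, rfl⟩, ?_⟩
    simp only [Subgroup.coe_mul, Subgroup.coe_inv]
    rw [← m.F_mul (cQ (rE_facts hi).2.1) (cQ (rE_facts hj).2.1), e,
      m.F_mul (cQ (rE_facts hm).2.1) (cQ (vE_centQ hk).1)]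
    group
  inj i hi j hj h := by
    rw [m.sec_def hi, m.sec_def hj] at h
    obtain ⟨v, ⟨k, hk, rfl⟩, e⟩ := QuotientGroup.eq.1 h
    simp only [Subgroup.coe_mul, Subgroup.coe_inv] at e
    have e2 : rE j = rE i * vE k := m.F_inj (cQ (rE_facts hj).2.1)
      (mul_mem (cQ (rE_facts hi).2.1) (cQ (vE_centQ hk).1))
      (by rw [m.F_mul (cQ (rE_facts hi).2.1) (cQ (vE_centQ hk).1), ← e, mul_inv_cancel_left])
    have e3 : kE (4 * i + k) = kE (4 * j) := by
      rw [kE_eq, kE_eq, show (4 * i + k) / 4 = i by omega, show (4 * i + k) % 4 = k by omega,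
        show 4 * j / 4 = j by omega, show 4 * j % 4 = 0 by omega, vE_facts.1, mul_one, e2]
    have := kE_inj (by omega) (by omega) e3
    omega
  cent g hg := by
    obtain ⟨x, rfl⟩ := QuotientGroup.mk_surjective g
    have hw := d_wit
    simp only [Bool.and_eq_true, List.all_eq_true, List.mem_range, bne_iff_ne, beq_iff_eq, Bool.or_eq_true] at hw
    obtain ⟨⟨⟨⟨⟨hwd, -⟩, hdm⟩, hd0⟩, hdu⟩, -⟩ := hw
    have hd : dIdx < 120 := by decide
    have hdm' : dMem < 4 := Nat.le_of_ble_eq_true hdm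
    obtain ⟨k', hk', e⟩ := m.move hd hd (mul_inv_eq_iff_eq_mul.2 hg) hdm'
    obtain ⟨u, hu, -, hue⟩ := member hwd hdm'
    rw [hd0, repP_eqs.1] at hue
    set mm := rE dIdx * vE dMem with hmm
    have hmg : mm ∈ data.grp := mul_mem (cQ (rE_facts hd).2.1) (cQ (vE_centQ hdm').1)
    have hk : k' = dMem := by
      by_contra hne
      obtain ⟨u', hu', hlt, hue'⟩ := member hwd hk'
      obtain ⟨hg', hf⟩ := repP_twelve hlt ((hdu k' hk').resolve_left hne)
      refine m.notT' (g := m.F u' * x * (m.F u)⁻¹) hg' hf ?_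
      rw [← hue, ← hue', m.F_conj hu hmg, m.F_conj hu' (mul_mem (cQ (rE_facts hd).2.1) (cQ (vE_centQ hk').1)),
        ← e]
      group
    rw [hk, ← hmm] at e
    have hcomm : m.F u * x * (m.F u)⁻¹ ∈ m.φ.range := m.cent' (by
      rw [← hue, m.F_conj hu hmg]
      calc m.F u * x * (m.F u)⁻¹ * (m.F u * m.F mm * (m.F u)⁻¹)
          = m.F u * ((x : G) * m.F mm * (x : G)⁻¹) * x * (m.F u)⁻¹ := by group
        _ = _ := by rw [e]; group)
    have hxr : (x : G) ∈ m.φ.range := by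
      have := mul_mem (mul_mem (inv_mem (m.F_range hu)) hcomm) (m.F_range hu)
      rwa [show (m.F u)⁻¹ * (m.F u * x * (m.F u)⁻¹) * m.F u = (x : G) by group] at this
    obtain ⟨z, hz, hzx⟩ := m.exists_F hxr
    obtain ⟨hxq, hxa⟩ := x.2
    rw [← hzx] at hxq hxa
    rw [← m.F_conj hz aQ, ← m.F_mul aQ qQ] at hxa
    have hzQ : z ∈ centQ := mem_centQ.2 ⟨hz, m.F_inj (mul_mem hz qQ) (mul_mem qQ hz)
      (by rw [m.F_mul hz qQ, m.F_mul qQ hz, hxq])⟩
    obtain ⟨y, hy, rfl⟩ := cent_pair hzQ (hxa.imp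
      (fun h => m.F_inj (mul_mem (mul_mem hz aQ) (inv_mem hz)) aQ h)
      (fun h => m.F_inj (mul_mem (mul_mem hz aQ) (inv_mem hz)) (mul_mem aQ qQ) h))
    have hy4 : y % 4 < 4 := Nat.mod_lt _ (by norm_num)
    have hy120 : y / 4 < 120 := by omega
    refine ⟨y / 4, hy120, ?_⟩
    rw [m.sec_def hy120]
    symm
    refine QuotientGroup.eq.2 ⟨vE (y % 4), ⟨_, hy4, rfl⟩, ?_⟩
    simp only [Subgroup.coe_mul, Subgroup.coe_inv]
    rw [← hzx, kE_eq, m.F_mul (cQ (rE_facts hy120).2.1) (cQ (vE_centQ hy4).1)]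
    group
  nf g he := by
    obtain ⟨x, rfl⟩ := QuotientGroup.mk_surjective g
    have hw := d_wit
    simp only [Bool.and_eq_true, List.all_eq_true, List.mem_range, bne_iff_ne, beq_iff_eq, Bool.or_eq_true] at hw
    obtain ⟨⟨⟨⟨⟨hwd, hws⟩, hdm⟩, hd0⟩, -⟩, hsu⟩ := hw
    have hd : dIdx < 120 := by decide
    have hs : sIdx < 120 := by decide
    have hdm' : dMem < 4 := Nat.le_of_ble_eq_true hdm
    obtain ⟨k', hk', e⟩ := m.move hd hs he hdm'
    obtain ⟨u, hu, -, hue⟩ := member hwd hdm'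
    obtain ⟨u', hu', hlt, hue'⟩ := member hws hk'
    rw [hd0, repP_eqs.1] at hue
    obtain ⟨hg', hf⟩ := repP_twelve hlt (hsu k' hk')
    refine m.notT' (g := m.F u' * x * (m.F u)⁻¹) hg' hf ?_
    rw [← hue, ← hue', m.F_conj hu (mul_mem (cQ (rE_facts hd).2.1) (cQ (vE_centQ hdm').1)),
      m.F_conj hu' (mul_mem (cQ (rE_facts hs).2.1) (cQ (vE_centQ hk').1)), ← e]
    group

theorem pair_range {g : G} (hg : g ∈ m.pairStab) : g ∈ m.φ.range := by
  obtain ⟨i, hi, e⟩ := m.sec_isSect.top (QuotientGroup.mk ⟨g, hg⟩)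
  rw [m.sec_def hi] at e
  obtain ⟨v, ⟨k, hk, rfl⟩, e'⟩ := QuotientGroup.eq.1 e.symm
  simp only [Subgroup.coe_mul, Subgroup.coe_inv] at e'
  rw [inv_mul_eq_iff_eq_mul] at e'
  rw [e']
  exact mul_mem (m.F_range (cQ (rE_facts hi).2.1)) (m.F_range (cQ (vE_centQ hk).1))

/-- The centraliser. -/
theorem cent_q {g : G} (hg : g * m.F qP = m.F qP * g) : g ∈ m.φ.range := by
  set X := Subgroup.centralizer ({m.F qP} : Set G) with hX
  have memX : ∀ {y : G}, y ∈ X ↔ y * m.F qP = m.F qP * y := Subgroup.mem_centralizer_singleton_iff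
  have hinX : ∀ {z : Pm}, z ∈ centQ → m.F z ∈ X := fun hz => memX.2 (m.F_comm hz)
  let N : Subgroup X :=
    { carrier := {x | (x : G) = 1 ∨ (x : G) = m.F qP}
      one_mem' := Or.inl rfl
      mul_mem' := by
        rintro a b (ha | ha) (hb | hb)
        · exact Or.inl (by rw [Subgroup.coe_mul, ha, hb, one_mul])
        · exact Or.inr (by rw [Subgroup.coe_mul, ha, hb, one_mul])
        · exact Or.inr (by rw [Subgroup.coe_mul, ha, hb, mul_one])
        · exact Or.inl (by rw [Subgroup.coe_mul, ha, hb, m.F_q_sq])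
      inv_mem' := by
        rintro a (ha | ha)
        · exact Or.inl (by rw [Subgroup.coe_inv, ha, inv_one])
        · exact Or.inr (by rw [Subgroup.coe_inv, ha, inv_eq_of_mul_eq_one_left m.F_q_sq]) }
  haveI : N.Normal := ⟨by
    intro n hn y
    rcases hn with h | h
    · exact Or.inl (by rw [Subgroup.coe_mul, Subgroup.coe_mul, Subgroup.coe_inv, h, mul_one, mul_inv_cancel])
    · refine Or.inr ?_
      rw [Subgroup.coe_mul, Subgroup.coe_mul, Subgroup.coe_inv, h, memX.1 y.2, mul_inv_cancel_right]⟩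
  let π := QuotientGroup.mk' N
  have hπ : ∀ {x y : X}, π x = π y → (y : G) = x ∨ (y : G) = x * m.F qP := fun {x y} h => by
    rcases (show x⁻¹ * y ∈ N from QuotientGroup.eq.1 h) with h | h
    · left
      rw [Subgroup.coe_mul, Subgroup.coe_inv] at h
      exact (inv_mul_eq_one.1 h).symm
    · right
      rw [Subgroup.coe_mul, Subgroup.coe_inv] at h
      rw [← h, mul_inv_cancel_left]
  have hπ' : ∀ {x y : X}, (y : G) = x * m.F qP → π x = π y := fun {x y} h => by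
    refine QuotientGroup.eq.2 (Or.inr ?_)
    rw [Subgroup.coe_mul, Subgroup.coe_inv, h, inv_mul_cancel_left]
  set J : Subgroup (X ⧸ N) := (m.φ.range.subgroupOf X).map π with hJ
  let a : X := ⟨m.F tP, hinX rep_facts.2.1⟩
  let b : X := ⟨m.F aP, hinX rep_facts.1.1⟩
  have hJm : ∀ {z : Pm} (hz : z ∈ centQ), π ⟨m.F z, hinX hz⟩ ∈ J := fun {z} hz =>
    ⟨_, m.F_range (cQ hz), rfl⟩
  have sqP : ∀ {z : Pm} (hz : z ∈ centQ), z * z = 1 → π ⟨m.F z, hinX hz⟩ * π ⟨m.F z, hinX hz⟩ = 1 :=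
    fun {z} hz h => by
      rw [← map_mul, ← map_one π]
      exact congrArg π (Subtype.ext (by
        show m.F z * m.F z = 1
        rw [← m.F_mul (cQ hz) (cQ hz), h, m.F_one]))
  obtain ⟨hk1, hkq⟩ := (rep_facts.2.2.2.2.1 2 (by norm_num)).2
  rw [repP_eqs.2.2.1] at hk1 hkq
  have hfa : m.F aP * m.F qP = m.F (aP * qP) := (m.F_mul aQ qQ).symm
  have key : J = ⊤ := by
    refine two_class J (a := π a) (b := π b) (hJm rep_facts.2.1) (hJm rep_facts.1.1)
      (sqP rep_facts.2.1 tP_sq) (sqP rep_facts.1.1 rep_facts.1.2) ?_ ?_ ?_ ?_ ?_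
    · intro h1
      rcases hπ ((map_one π).trans h1.symm) with h | h
      · exact hk1 (m.F_inj aQ (one_mem _) (by rw [m.F_one]; exact h))
      · exact hkq (m.F_inj aQ qQ (h.trans (one_mul _)))
    · intro g' hg'
      obtain ⟨x, rfl⟩ := QuotientGroup.mk'_surjective N g'
      rw [← map_inv, ← map_mul, ← map_mul] at hg'
      rcases hπ hg'.symm with h | h
      · exact m.notT' (g := (x : G)) aQ (repP_eqs.2.2.1 ▸ (repP_twelve (j := 2) (by norm_num) (by norm_num)).2) h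
      · exact m.notT' (g := (x : G)) (mul_mem aQ qQ)
          (repP_eqs.2.2.2 ▸ (repP_twelve (j := 3) (by norm_num) (by norm_num)).2) (h.trans hfa)
    · intro u hu hu2 hu1
      obtain ⟨⟨_, hzX⟩, hzr, rfl⟩ := hu
      obtain ⟨z, hz, rfl⟩ := m.exists_F (Subgroup.mem_subgroupOf.1 hzr)
      have hzQ : z ∈ centQ := mem_centQ.2 ⟨hz, m.F_inj (mul_mem hz qQ) (mul_mem qQ hz)
        (by rw [m.F_mul hz qQ, m.F_mul qQ hz]; exact memX.1 hzX)⟩
      have hz2 : z * z = 1 ∨ z * z = qP := by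
        rw [← map_mul, ← map_one π] at hu2
        rcases hπ hu2.symm with h | h
        · exact Or.inl (m.F_inj (mul_mem hz hz) (one_mem _) (by rw [m.F_mul hz hz, m.F_one]; exact h))
        · exact Or.inr (m.F_inj (mul_mem hz hz) qQ (by rw [m.F_mul hz hz]; exact h.trans (one_mul _)))
      have hz1 : z ≠ 1 := fun h => hu1 (by
        rw [← map_one π]
        exact congrArg π (Subtype.ext ((congrArg m.F h).trans m.F_one)))
      have hzq : z ≠ qP := fun h => hu1 (by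
        rw [← map_one π]
        exact (hπ' (x := 1) ((congrArg m.F h).trans (one_mul _).symm)).symm)
      obtain ⟨w, hw, k, hk, hwe⟩ := centQ_cases hzQ hz2 hz1 hzq
      refine ⟨(π ⟨m.F w, hinX hw⟩)⁻¹, inv_mem (hJm hw), ?_⟩
      have e : ∀ r : X, (r : G) = m.F (repP k) →
          (π ⟨m.F w, hinX hw⟩)⁻¹ * π r * (π ⟨m.F w, hinX hw⟩)⁻¹⁻¹ = π ⟨m.F z, hzX⟩ := fun r hr => by
        rw [inv_inv, ← map_inv, ← map_mul, ← map_mul]
        refine congrArg π (Subtype.ext ?_)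
        simp only [Subgroup.coe_mul, Subgroup.coe_inv, hr]
        rw [← hwe, m.F_conj (cQ hw) hz]
        group
      obtain ⟨e0, e1, e2, e3⟩ := repP_eqs
      interval_cases k
      · exact Or.inl (e a (by rw [e0]))
      · refine Or.inl ?_
        rw [hπ' (x := a) (y := ⟨m.F (tP * qP), hinX (mul_mem rep_facts.2.1 qP_centQ)⟩) (m.F_mul tP_mem qQ)]
        exact e ⟨m.F (tP * qP), hinX (mul_mem rep_facts.2.1 qP_centQ)⟩ (congrArg m.F e1.symm)
      · exact Or.inr (e b (by rw [e2]))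
      · refine Or.inr ?_
        rw [hπ' (x := b) (y := ⟨m.F (aP * qP), hinX (mul_mem rep_facts.1.1 qP_centQ)⟩) (m.F_mul aQ qQ)]
        exact e ⟨m.F (aP * qP), hinX (mul_mem rep_facts.1.1 qP_centQ)⟩ (congrArg m.F e3.symm)
    · intro g' hg'
      obtain ⟨x, rfl⟩ := QuotientGroup.mk'_surjective N g'
      rw [← map_mul, ← map_mul] at hg'
      refine ⟨x, ?_, rfl⟩
      rcases hπ hg'.symm with h | h
      · exact Subgroup.mem_subgroupOf.2 (m.cent' h)
      · exfalso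
        refine m.notT' (g := (x : G)) (mul_mem tP_mem qQ)
          (repP_eqs.2.1 ▸ (repP_twelve (j := 1) (by norm_num) (by norm_num)).2) ?_
        rw [m.F_mul tP_mem qQ]
        have h' : (x : G) * m.F tP = m.F tP * x * m.F qP := h
        rw [h', mul_assoc (m.F tP), memX.1 x.2]
        group
    · intro g' hg'
      obtain ⟨x, rfl⟩ := QuotientGroup.mk'_surjective N g'
      rw [← map_mul, ← map_mul] at hg'
      refine ⟨x, Subgroup.mem_subgroupOf.2 (m.pair_range ⟨memX.1 x.2, ?_⟩), rfl⟩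
      rcases hπ hg'.symm with h | h
      · exact Or.inl (mul_inv_eq_iff_eq_mul.2 h)
      · right
        have h' : (x : G) * m.F aP = m.F aP * x * m.F qP := h
        rw [h', mul_assoc (m.F aP), memX.1 x.2]
        group
  have hmem : π ⟨g, memX.2 hg⟩ ∈ J := key ▸ Subgroup.mem_top _
  obtain ⟨j, hj, hje⟩ := hmem
  rcases hπ hje with h | h
  · rw [show g = (j : G) from h]
    exact Subgroup.mem_subgroupOf.1 hj
  · rw [show g = (j : G) * m.F qP from h]
    exact mul_mem (Subgroup.mem_subgroupOf.1 hj) (m.F_range qQ)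

end Emb

end Cfsg.Lib.CoThreeRecog
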