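import Cfsg.Agent.CoThreeRecog.Iso
import Cfsg.Agent.CoThreeRecog.QCent
import Cfsg.Agent.CoThreeModel.Model
import Cfsg.Agent.InvolCalc.ZStarApps

/-!
Recognition of the third Conway group from the centraliser of an involution.
-/

set_option autoImplicit false
set_option maxRecDepth 20000
set_option linter.style.haveILetI false

namespace Cfsg.Lib.CoThreeRecog

open Cfsg Cfsg.Lib.CosetCert Cfsg.Lib.CosetCert.OutCert
open Cfsg.Lib.CoThreeModel (data valid_data grp_eq)

attribute [local irreducible] val lt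

namespace Ctx

variable {G : Type*} [Group G] [Finite G] (c : Ctx G)

include c in
/-- No larger group. -/
theorem exists_iso : Nonempty (↥data.grp ≃* G) := by
  obtain ⟨φ, hφ, hext⟩ := c.exists_embedding
  have htG : φ ⟨tP, tP_mem⟩ = c.t := by
    rw [hext tP tP_centP, c.f_t]
  have hqG : φ ⟨qP, (mem_centP.1 qP_centP).1⟩ = c.f qP := hext qP qP_centP
  let m : Emb G :=
    { φ := φ
      inj := hφ
      cent := fun g hg => by
        rw [htG] at hg
        obtain ⟨z, hz, rfl⟩ := c.exists_f hg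
        exact ⟨_, hext z hz⟩
      notT := fun g u hu he => by
        rw [htG] at he
        have h2 : (u : Pm) * u = 1 := congrArg Subtype.val (show u * u = 1 from
          hφ (by rw [map_mul, map_one, ← he]; exact c.conj_sq g))
        have h1 : (u : Pm) ≠ 1 := fun e => c.conj_ne g (by
          rw [he, show u = 1 from Subtype.ext e, map_one])
        obtain ⟨d, hd, hde⟩ := class_of_twelve u.2 h2 h1 hu
        refine c.not_Y (g := (φ ⟨d, hd⟩)⁻¹ * g) qP_centP ?_ ⟨1, one_mem _, by group⟩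
        have hu' : u = ⟨d, hd⟩ * ⟨qP, (mem_centP.1 qP_centP).1⟩ * (⟨d, hd⟩ : data.grp)⁻¹ := Subtype.ext hde.symm
        rw [hu', map_mul, map_mul, map_inv, hqG] at he
        calc c.f qP = (φ ⟨d, hd⟩)⁻¹ * (φ ⟨d, hd⟩ * c.f qP * (φ ⟨d, hd⟩)⁻¹) * φ ⟨d, hd⟩ := by group
          _ = _ := by rw [← he]; group }
  have hFq : m.F qP = c.f qP := (m.F_def (mem_centP.1 qP_centP).1).trans hqG
  have hFt : m.F tP = c.t := (m.F_def tP_mem).trans htG
  have hq1 : qP ≠ 1 := rep_facts.2.2.2.1
  have htop : φ.range = ⊤ := by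
    refine two_class φ.range (a := m.F tP) (b := m.F qP) (m.F_range tP_mem) (m.F_range Emb.qQ)
      (by rw [hFt]; exact c.t_sq) m.F_q_sq (fun e => hq1 (m.F_inj Emb.qQ (one_mem _) (e.trans m.F_one.symm)))
      (fun g => m.notT' Emb.qQ nfp_vals.2.2) ?_ (fun g hg => m.cent' hg) (fun g hg => m.cent_q hg)
    intro u hu h2 h1
    obtain ⟨z, hz, rfl⟩ := m.exists_F hu
    obtain ⟨d, hd, h | h⟩ := model_classes hz
      (m.F_inj (mul_mem hz hz) (one_mem _) (by rw [m.F_mul hz hz, h2, m.F_one]))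
      (fun e => h1 (by rw [e, m.F_one]))
    · exact ⟨m.F d, m.F_range hd, Or.inl (by rw [← m.F_conj hd tP_mem, h])⟩
    · exact ⟨m.F d, m.F_range hd, Or.inr (by rw [← m.F_conj hd Emb.qQ, h])⟩
  exact ⟨MulEquiv.ofBijective φ ⟨hφ, MonoidHom.range_eq_top.1 htop⟩⟩

end Ctx

/-- The recognition. -/
theorem main {G : Type*} [Group G] [Finite G] (hO : Cfsg.oddCore G = ⊥) (hZ : Subgroup.center G = ⊥) (t : G)
    (ht : orderOf t = 2)
    (hC : Cfsg.IsNonsplitDoubleCover (Subgroup.centralizer ({t} : Set G)) Cfsg.Lib.SpSixTwo.Sp) :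
    Cfsg.Spor.IsoCo3 G := by
  have ht1 : t ≠ 1 := fun e => by rw [e, orderOf_one] at ht; exact absurd ht (by norm_num)
  have hnoniso : ¬ Cfsg.IsIsolatedInvolution t := fun hiso => by
    refine ht1 (Subgroup.mem_bot.1 (hZ ▸ Subgroup.mem_center_iff.2 fun g => ?_))
    have h : t * g * t⁻¹ * g⁻¹ ∈ Cfsg.oddCore G := Cfsg.Lib.ZStarApps.zstarProp hiso g
    rw [hO, Subgroup.mem_bot] at h
    exact (mul_inv_eq_iff_eq_mul.1 (mul_inv_eq_one.1 h)).symm
  obtain ⟨g₀, hg₀⟩ : ∃ g, Commute t (g * t * g⁻¹) ∧ g * t * g⁻¹ ≠ t := by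
    by_contra hno
    push Not at hno
    exact hnoniso ⟨ht, hno⟩
  obtain ⟨e₁⟩ := exists_iso double_cover
  obtain ⟨e₂⟩ := exists_iso hC
  let e : centP ≃* Subgroup.centralizer ({t} : Set G) := e₁.symm.trans e₂
  have het : e tC = ⟨t, Subgroup.mem_centralizer_singleton_iff.2 rfl⟩ := by
    obtain ⟨z₀, -, huniq⟩ := (Nat.card_eq_two_iff' (1 : Subgroup.center (Subgroup.centralizer ({t} : Set G)))).1 hC.1
    have htc : tC ≠ 1 := fun h => tP_ne (congrArg Subtype.val h)
    have hc1 : e tC ∈ Subgroup.center (Subgroup.centralizer ({t} : Set G)) := Subgroup.mem_center_iff.2 fun g => by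
      obtain ⟨z, rfl⟩ := e.surjective g
      rw [← map_mul, ← map_mul]
      exact congrArg e (Subtype.ext (tP_comm z.2))
    have hc2 : (⟨t, Subgroup.mem_centralizer_singleton_iff.2 rfl⟩ : Subgroup.centralizer ({t} : Set G)) ∈
        Subgroup.center (Subgroup.centralizer ({t} : Set G)) :=
      Subgroup.mem_center_iff.2 fun g => Subtype.ext (Subgroup.mem_centralizer_singleton_iff.1 g.2)
    exact congrArg Subtype.val ((huniq ⟨_, hc1⟩ fun h => htc (e.injective ((congrArg Subtype.val h).trans (map_one e).symm))).trans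
      (huniq ⟨_, hc2⟩ fun h => ht1 (congrArg (fun z : Subgroup.center (Subgroup.centralizer ({t} : Set G)) => (z.1 : G)) h)).symm)
  let c : Ctx G :=
    { t := t
      ι := (Subgroup.centralizer ({t} : Set G)).subtype.comp e.toMonoidHom
      inj := (Subgroup.subtype_injective _).comp e.injective
      range := by
        rw [MonoidHom.range_comp, MonoidHom.range_eq_top.2 e.surjective, ← MonoidHom.range_eq_map,
          Subgroup.range_subtype]
      map_t := congrArg Subtype.val het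
      noniso := ⟨g₀, hg₀⟩ }
  obtain ⟨i⟩ := c.exists_iso
  obtain ⟨j⟩ := Cfsg.Lib.CoThreeModel.exists_equiv
  exact ⟨i.symm.trans j.symm⟩

end Cfsg.Lib.CoThreeRecog
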