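import Cfsg.Agent.SpSixTwo.Mult
import Cfsg.Prelude.Def_SporadicB

/-!
Every non-split double cover of the symplectic group of degree six over two elements is the cover on 240 points.
-/

set_option autoImplicit false
set_option linter.style.haveILetI false

namespace Cfsg.Lib.CoThreeRecog

open Cfsg.Lib.SpSixTwo (Sp cover proj proj_surjective cover_perfect card_cover card_Sp cover_ker_eq_bot)
open scoped commutatorElement

universe u

/-- A stem extension of a quotient of a perfect group without stem extensions is an image of it. -/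
theorem exists_surj {Γ₀ : Type} {Q : Type} {Γ : Type u} [Group Γ₀] [Group Q] [Group Γ] [Finite Γ₀] [Finite Γ]
    (π : Γ₀ →* Q) (hπ : Function.Surjective π) (hperf : commutator Γ₀ = ⊤)
    (htriv : ∀ (Δ : Type u) [Group Δ] [Finite Δ] (τ : Δ →* Γ₀), Cfsg.IsStemExtension τ → τ.ker = ⊥)
    (σ : Γ →* Q) (hσ : Function.Surjective σ) (hσc : σ.ker ≤ Subgroup.center Γ) (hperfΓ : commutator Γ = ⊤) :
    ∃ f : Γ₀ →* Γ, Function.Surjective f := by
  obtain ⟨D, hD⟩ : ∃ D : Subgroup (Γ₀ × Γ),
      D = (π.comp (MonoidHom.fst Γ₀ Γ)).eqLocus (σ.comp (MonoidHom.snd Γ₀ Γ)) := ⟨_, rfl⟩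
  have mem : ∀ p, p ∈ D ↔ π p.1 = σ p.2 := fun p => by subst hD; exact Iff.rfl
  let p₁ : D →* Γ₀ := (MonoidHom.fst Γ₀ Γ).comp D.subtype
  let p₂ : D →* Γ := (MonoidHom.snd Γ₀ Γ).comp D.subtype
  have hs₁ : Function.Surjective p₁ := fun a => by
    obtain ⟨b, hb⟩ := hσ (π a)
    exact ⟨⟨(a, b), (mem _).mpr hb.symm⟩, rfl⟩
  have hs₂ : Function.Surjective p₂ := fun b => by
    obtain ⟨a, ha⟩ := hπ (σ b)
    exact ⟨⟨(a, b), (mem _).mpr ha⟩, rfl⟩
  have hcen : p₁.ker ≤ Subgroup.center D := fun x hx => by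
    have hx' : (x : Γ₀ × Γ).1 = 1 := hx
    have hk : σ (x : Γ₀ × Γ).2 = 1 := by rw [← (mem _).mp x.2, hx', map_one]
    refine Subgroup.mem_center_iff.mpr fun y => Subtype.ext (Prod.ext ?_ ?_)
    · show (y : Γ₀ × Γ).1 * (x : Γ₀ × Γ).1 = (x : Γ₀ × Γ).1 * (y : Γ₀ × Γ).1
      rw [hx', mul_one, one_mul]
    · exact Subgroup.mem_center_iff.mp (hσc hk) _
  have him₁ : (commutator D).map p₁ = ⊤ := by
    rw [commutator_def, Subgroup.map_commutator, Subgroup.map_top_of_surjective p₁ hs₁, ← commutator_def, hperf]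
  have him₂ : (commutator D).map p₂ = ⊤ := by
    rw [commutator_def, Subgroup.map_commutator, Subgroup.map_top_of_surjective p₂ hs₂, ← commutator_def, hperfΓ]
  have hperfD : commutator (commutator D) = ⊤ := by
    have h1 : commutator D ≤ ⁅commutator D, commutator D⁆ := by
      refine Cfsg.Lib.Schur.commutator_eq_of_central hcen fun d => ?_
      obtain ⟨e, he, hed⟩ := (him₁ ▸ Subgroup.mem_top (p₁ d) : p₁ d ∈ (commutator D).map p₁)
      exact ⟨e, he, e⁻¹ * d, by rw [MonoidHom.mem_ker, map_mul, map_inv, hed, inv_mul_cancel],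
        (mul_inv_cancel_left e d).symm⟩
    apply Subgroup.map_injective (commutator D).subtype_injective
    rw [Subgroup.map_subtype_commutator, ← MonoidHom.range_eq_map, Subgroup.range_subtype]
    exact le_antisymm (Subgroup.commutator_le_self _) h1
  let τ : commutator D →* Γ₀ := p₁.comp (commutator D).subtype
  have hτs : Function.Surjective τ := fun a => by
    obtain ⟨e, he, hea⟩ := (him₁ ▸ Subgroup.mem_top a : a ∈ (commutator D).map p₁)
    exact ⟨⟨e, he⟩, hea⟩
  have hτ : Cfsg.IsStemExtension τ := ⟨hτs, fun x hx => Subgroup.mem_center_iff.mpr fun y =>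
    Subtype.ext (Subgroup.mem_center_iff.mp (hcen (show (x : D) ∈ p₁.ker from hx)) y), by
      rw [hperfD]; exact le_top⟩
  have hinj : Function.Injective τ := (MonoidHom.ker_eq_bot_iff τ).mp (htriv _ τ hτ)
  let eτ := MulEquiv.ofBijective τ ⟨hinj, hτs⟩
  refine ⟨(p₂.comp (commutator D).subtype).comp eτ.symm.toMonoidHom, fun b => ?_⟩
  obtain ⟨e, he, heb⟩ := (him₂ ▸ Subgroup.mem_top b : b ∈ (commutator D).map p₂)
  refine ⟨eτ ⟨e, he⟩, ?_⟩
  show p₂ ((eτ.symm (eτ ⟨e, he⟩) : commutator D) : D) = b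
  rw [eτ.symm_apply_apply]
  exact heb

theorem sp_perfect : commutator Sp = ⊤ := by
  rw [commutator_def, ← Subgroup.map_top_of_surjective proj proj_surjective, ← Subgroup.map_commutator,
    ← commutator_def, cover_perfect]

/-- A non-split double cover is the cover. -/
theorem exists_iso {Δ : Type u} [Group Δ] [Finite Δ] (h : Cfsg.IsNonsplitDoubleCover Δ Sp) :
    Nonempty (cover ≃* Δ) := by
  obtain ⟨hc, ⟨q⟩, hsplit⟩ := h
  let σ : Δ →* Sp := q.toMonoidHom.comp (QuotientGroup.mk' (Subgroup.center Δ))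
  have hσ : Function.Surjective σ := q.surjective.comp (QuotientGroup.mk'_surjective _)
  have hker : σ.ker = Subgroup.center Δ := by
    ext g
    simp [σ, MonoidHom.mem_ker]
  have hperf : commutator Δ = ⊤ := by
    have him : (commutator Δ).map σ = ⊤ := by
      rw [commutator_def, Subgroup.map_commutator, Subgroup.map_top_of_surjective σ hσ, ← commutator_def,
        sp_perfect]
    have hdec : ∀ g : Δ, ∃ d ∈ commutator Δ, d⁻¹ * g ∈ Subgroup.center Δ := fun g => by
      obtain ⟨d, hd, e⟩ := (him ▸ Subgroup.mem_top (σ g) : σ g ∈ (commutator Δ).map σ)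
      exact ⟨d, hd, hker ▸ (by rw [MonoidHom.mem_ker, map_mul, map_inv, e, inv_mul_cancel] :
        d⁻¹ * g ∈ σ.ker)⟩
    by_contra hne
    refine hsplit (commutator Δ) (Subgroup.isComplement'_of_disjoint_and_mul_eq_univ ?_ ?_)
    · rw [Subgroup.disjoint_def]
      intro z hz hzd
      by_contra hz1
      refine hne (eq_top_iff.2 fun g _ => ?_)
      obtain ⟨d, hd, hdg⟩ := hdec g
      obtain ⟨z₀, -, huniq⟩ := (Nat.card_eq_two_iff' (1 : Subgroup.center Δ)).1 hc
      have hin : ∀ w ∈ Subgroup.center Δ, w ∈ commutator Δ := fun w hw => by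
        by_cases hw1 : w = 1
        · exact hw1 ▸ one_mem _
        · have e1 := huniq ⟨w, hw⟩ fun e => hw1 (congrArg Subtype.val e)
          have e2 := huniq ⟨z, hz⟩ fun e => hz1 (congrArg Subtype.val e)
          exact (show w = z from congrArg Subtype.val (e1.trans e2.symm)) ▸ hzd
      simpa using mul_mem hd (hin _ hdg)
    · refine Set.eq_univ_of_forall fun g => ?_
      obtain ⟨d, hd, hdg⟩ := hdec g
      exact ⟨d⁻¹ * g, hdg, d, hd, by
        show d⁻¹ * g * d = g
        rw [← Subgroup.mem_center_iff.1 hdg d, mul_inv_cancel_left]⟩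
  haveI : Finite cover := Nat.finite_of_card_ne_zero (by rw [card_cover]; norm_num)
  obtain ⟨f, hf⟩ := exists_surj proj proj_surjective cover_perfect (fun Δ' _ _ τ hτ => cover_ker_eq_bot hτ)
    σ hσ hker.le hperf
  have hcard : Nat.card cover = Nat.card Δ := by
    have := Subgroup.card_eq_card_quotient_mul_card_subgroup (Subgroup.center Δ)
    rw [Nat.card_congr q.toEquiv, hc, card_Sp] at this
    rw [card_cover, this]
  exact ⟨MulEquiv.ofBijective f ((Nat.bijective_iff_surjective_and_card f).2 ⟨hf, hcard⟩)⟩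

end Cfsg.Lib.CoThreeRecog
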