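import Cfsg.Agent.CoThreeRecog.HomChecks
import Cfsg.Agent.CoThreeRecog.CertV1.Tables
import Cfsg.Agent.CoThreeRecog.CertV7.Tables
import Cfsg.Agent.CoThreeRecog.CertX.Tables
import Cfsg.Agent.CoThreeRecog.CertXs.Tables
import Cfsg.Agent.CoThreeRecog.CertP.Tables
import Cfsg.Agent.CoThreeRecog.CertPs.Tables
import Cfsg.Agent.CoThreeRecog.CertPsp.Tables
import Cfsg.Agent.CoThreeRecog.CertT.Tables
import Cfsg.Agent.CoThreeRecog.CertL.Tables

/-!
Kernel checks: which certificate decides each case of the extra involution.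
-/

set_option autoImplicit false
set_option maxRecDepth 20000
set_option maxHeartbeats 1000000
set_option Elab.async false

namespace Cfsg.Lib.CoThreeRecog

open Cfsg.Lib.CosetCert Cfsg.Lib.PermCert Cfsg.Lib.CosetCert.OutCert

/-- Prefixes containing the extra letter, with their values in the three parameters. -/
def pairs (pv ex s : ℕ) : List (List ℕ × List ℕ) :=
  [([3, 0, 3, 0, 3, 0], []), ([3, 2, 3, 2, 3, 2], eW ex), ([2, 3, 2, 3, 2, 3], eW ex),
    ([3, 0, 1, 0, 3], [1] ++ eW s), ([3, 4, 3, 4], [4] ++ eW pv ++ [4])] ++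
    (List.range 3).map fun j => ([3] ++ gW j ++ [3], iW j)

/-- A relator follows from the parameters. -/
def okRel (pv ex s : ℕ) (r : List ℕ) : Bool :=
  inL r && ((lets cLet r && eqW r []) || r == [3, 3] || (pairs pv ex s).any fun q =>
    r.take q.1.length == q.1 && lets cLet (r.drop q.1.length) && lets cLet q.2 &&
      eqW (q.2 ++ r.drop q.1.length) [])

/-- Relators of a collapsing certificate follow. -/
def okAll (pv ex s : ℕ) (R : List (List ℕ)) : Bool := R.all (okRel pv ex s)

theorem case_ok : ([0, 15].all fun pv => [0, 5].all fun ex => [0, 1, 7, 15].all fun s =>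
    okAll pv ex s CertV1.rels || okAll pv ex s CertV7.rels || okAll pv ex s CertX.rels || okAll pv ex s CertXs.rels ||
      okAll pv ex s CertP.rels || okAll pv ex s CertPs.rels || okAll pv ex s CertPsp.rels ||
      (pv == 0 && ex == 0 && s == 0)) = true := by decide +kernel

theorem main_ok : (okAll 0 0 0 CertT.rels && okAll 0 0 0 CertL.rels &&
    (CertT.rels ++ CertL.rels).all fun r => eqW r []) = true := by decide +kernel

end Cfsg.Lib.CoThreeRecog
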