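import Cfsg.Agent.CoThreeRecog.Checks

/-!
Five involutions of the Conway group Co3 and bounds along its stabiliser chains.
-/

set_option autoImplicit false
set_option maxRecDepth 20000

namespace Cfsg.Lib.CoThreeRecog

open Cfsg Cfsg.Lib.CosetCert Cfsg.Lib.CosetCert.OutCert Cfsg.Lib.PermCert
open Cfsg.Lib.CoThreeModel (data valid_data grp_eq)

/-- The permutations of the 276 points. -/
abbrev Pm : Type := Equiv.Perm (Fin data.n)

/-- A letter. -/
def lt (l : ℕ) : Pm := wval data.im (lowWords.getD l [])

/-- The value of a word in the letters. -/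
def val (w : List ℕ) : Pm := wval lt w

theorem val_nil : val [] = 1 := by simp [val, wval]

theorem val_app (v w : List ℕ) : val (v ++ w) = val v * val w := by simp [val, wval]

theorem val_cons (l : ℕ) (w : List ℕ) : val (l :: w) = lt l * val w := by simp [val, wval]

theorem val_one (l : ℕ) : val [l] = lt l := by simp [val, wval]

/-- A word spelled out in the involutions of the model. -/
def toLow (w : List ℕ) : List ℕ := w.flatMap fun l => lowWords.getD l []

theorem val_toLow : ∀ w : List ℕ, val w = wval data.im (toLow w)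
  | [] => by simp [val, wval, toLow]
  | l :: w => by
    rw [val_cons, val_toLow w, show toLow (l :: w) = lowWords.getD l [] ++ toLow w from List.flatMap_cons .., Data.wval_app]
    rfl

theorem inL_lt {w : List ℕ} (h : inL w = true) : ∀ l ∈ w, l < 5 := fun l hl =>
  Nat.le_of_ble_eq_true (List.all_eq_true.1 h l hl)

theorem tab_ok {l : ℕ} (hl : l < 5) {x : ℕ} (hx : x < 276) :
    evalW letTabs [l] x = evalW data.xTabs (lowWords.getD l []) x := by
  have key : ∀ a k, tabPart l a k = true → a ≤ x → x < a + k →
      evalW letTabs [l] x = evalW data.xTabs (lowWords.getD l []) x := fun a k h h1 h2 =>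
    beq_iff_eq.1 (List.all_eq_true.1 h x (List.mem_range'_1.2 ⟨h1, h2⟩))
  have h3 : tabPart l 0 92 = true ∧ tabPart l 92 92 = true ∧ tabPart l 184 92 = true := by
    interval_cases l
    · exact ⟨tab0_0, tab0_1, tab0_2⟩
    · exact ⟨tab1_0, tab1_1, tab1_2⟩
    · exact ⟨tab2_0, tab2_1, tab2_2⟩
    · exact ⟨tab3_0, tab3_1, tab3_2⟩
    · exact ⟨tab4_0, tab4_1, tab4_2⟩
  by_cases h1 : x < 92
  · exact key 0 92 h3.1 (Nat.zero_le _) (by omega)
  · by_cases h2 : x < 184
    · exact key 92 92 h3.2.1 (by omega) (by omega)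
    · exact key 184 92 h3.2.2 (by omega) (by omega)

theorem let_ok {l : ℕ} (hl : l < 5) : valid 276 (letTabs.getD l (0, 0)) = true ∧
    Data.isLow (lowWords.getD l []) = true := by
  simpa using List.all_eq_true.1 tabs_ok.1 l (List.mem_range.2 hl)

theorem low_word {w : List ℕ} (h : Data.isLow w = true) : data.inX w = true ∧ wval data.im w ∈ data.grp :=
  ⟨Data.inX_low (Data.isLow_lt h), Data.low_mem (Data.isLow_lt h)⟩

theorem toLow_low {w : List ℕ} (h : inL w = true) : Data.isLow (toLow w) = true := by
  simp only [Data.isLow, toLow, List.all_eq_true, List.mem_flatMap]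
  rintro a ⟨l, hl, ha⟩
  exact List.all_eq_true.1 (let_ok (inL_lt h l hl)).2 a ha

theorem val_mem {w : List ℕ} (h : inL w = true) : val w ∈ data.grp := by
  rw [val_toLow]
  exact (low_word (toLow_low h)).2

theorem lt_mem {l : ℕ} (hl : l < 5) : lt l ∈ data.grp := by
  rw [← val_one]
  exact val_mem (by simp [inL, Nat.ble_eq]; omega)

theorem lt_act : ∀ l < letTabs.length, valid data.n (letTabs.getD l (0, 0)) = true ∧
    (MonoidHom.id Pm) (lt l) = perm data.n (letTabs.getD l (0, 0)) := by
  intro l hl
  rw [tabs_ok.2] at hl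
  obtain ⟨hv, hlow⟩ := let_ok hl
  refine ⟨hv, inv_injective (Equiv.ext fun x => Fin.ext ?_)⟩
  rw [MonoidHom.id_apply, lt, valid_data.evalX (Data.inX_low (Data.isLow_lt hlow)), ← tab_ok hl x.isLt,
    ← perm_pinv (show valid data.n _ = true from hv)]
  exact (perm_apply (valid_pinv (show valid data.n _ = true from hv)) x).symm

theorem val_inv_apply {w : List ℕ} (h : inL w = true) (x : Fin data.n) :
    (((val w)⁻¹ x : Fin data.n) : ℕ) = evalW letTabs w x :=
  evalW_apply lt (MonoidHom.id Pm) letTabs lt_act w (fun l hl => by rw [tabs_ok.2]; exact inL_lt h l hl) x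

/-- The image of a point, read as a number. -/
def imgN (z : Pm) (c : ℕ) : ℕ := if h : c < data.n then (z⁻¹ ⟨c, h⟩).val else 0

theorem imgN_lt (z : Pm) {c : ℕ} (hc : c < data.n) : imgN z c < data.n := by
  rw [imgN, dif_pos hc]
  exact Fin.isLt _

theorem imgN_one {c : ℕ} (hc : c < data.n) : imgN 1 c = c := by simp [imgN, hc]

theorem imgN_mul (a b : Pm) {c : ℕ} (hc : c < data.n) : imgN (a * b) c = imgN b (imgN a c) := by
  simp [imgN, hc, mul_inv_rev]

theorem imgN_val {w : List ℕ} (h : inL w = true) {c : ℕ} (hc : c < data.n) : imgN (val w) c = evalW letTabs w c := by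
  rw [imgN, dif_pos hc, val_inv_apply h]

theorem full_parts {c : List SLev} (hc : fullChain c = true) :
    chainOK data.low data.n data.low.length (c.map SLev.lev) = true ∧ c.all (SLev.ok data.low) = true ∧
    chainSize (c.map SLev.lev) = 495766656000 ∧
    (∀ S ∈ c, (∀ g ∈ S.lev.gens, Data.isLow g = true) ∧ S.idx.head? = some (S.lev.b, [])) ∧
    CosetCert.sift data.low c (c.map fun S => S.lev.b) = some [] := by
  simp only [fullChain, Bool.and_eq_true, beq_iff_eq, List.all_eq_true] at hc
  obtain ⟨⟨⟨⟨h1, h2⟩, h3⟩, h4⟩, h5⟩ := hc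
  exact ⟨by rw [valid_data.low_len.1]; exact h1, List.all_eq_true.2 h2, h3, h4, h5⟩

/-- Every element is found from the images of the bases of a full chain. -/
theorem found {c : List SLev} (hc : fullChain c = true) {z : Pm} (hz : z ∈ data.grp) :
    ∃ w, CosetCert.sift data.low c (c.map fun S => imgN z S.lev.b) = some w ∧ wval data.im w = z := by
  obtain ⟨h1, h2, h3, h4, -⟩ := full_parts hc
  refine sift_complete valid_data.tabled c data.grp inferInstance h1 h2
    (fun S hS w hw => Data.low_mem (Data.isLow_lt ((h4 S hS).1 w hw)))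
    (le_of_eq (grp_eq.2.trans h3.symm)) z hz _ ?_
  rw [List.forall₂_map_right_iff]
  refine List.forall₂_same.2 fun S _ p hp => ?_
  have hb : S.lev.b < data.n := hp ▸ p.isLt
  rw [imgN, dif_pos hb]
  exact congrArg (fun q => (z⁻¹ q).val) (Fin.ext hp)

theorem sift_head {S : SLev} {r : List SLev} {t : ℕ} {ts : List ℕ} {w : List ℕ}
    (h : CosetCert.sift data.low (S :: r) (t :: ts) = some w) : t ∈ S.idx.map Prod.fst := by
  simp only [CosetCert.sift] at h
  cases hf : S.idx.find? fun e => e.1 == t with
  | none => simp [hf] at h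
  | some e =>
    exact List.mem_map.2 ⟨e, List.mem_of_find?_eq_some hf, by simpa using List.find?_some hf⟩

theorem sift_base {S : SLev} {r : List SLev} {ts : List ℕ} {w : List ℕ}
    (hh : S.idx.head? = some (S.lev.b, [])) (h : CosetCert.sift data.low (S :: r) (S.lev.b :: ts) = some w) :
    ∃ v, CosetCert.sift data.low r ts = some v := by
  obtain ⟨tl, htl⟩ : ∃ tl, S.idx = (S.lev.b, []) :: tl := by
    cases hi : S.idx with
    | nil => rw [hi] at hh; simp at hh
    | cons e tl =>
      rw [hi, List.head?_cons, Option.some.injEq] at hh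
      exact ⟨tl, by rw [hh]⟩
  have hid : (evalW data.low (genWordL S.lev.gens ([] : List ℕ)).reverse) = id := by
    funext x
    simp [genWordL, evalW, evalWord]
  simp only [CosetCert.sift, htl, List.find?_cons, beq_self_eq_true, hid, List.map_id] at h
  cases hs : CosetCert.sift data.low r ts with
  | none => simp [hs] at h
  | some v => exact ⟨v, rfl⟩

/-- The key of an element. -/
def imgs (z : Pm) : List ℕ := bases.map (imgN z)

theorem base_lt {c : ℕ} (hc : c ∈ bases) : c < data.n := by
  simp only [bases, List.mem_cons, List.not_mem_nil, or_false] at hc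
  rcases hc with rfl | rfl | rfl | rfl | rfl | rfl | rfl <;> decide

theorem imgs_val {w : List ℕ} (h : inL w = true) : imgs (val w) = key w :=
  List.map_congr_left fun _ hc => imgN_val h (base_lt hc)

theorem ext7 {a b : Pm} (ha : a ∈ data.grp) (hb : b ∈ data.grp) (e : imgs a = imgs b) : a = b := by
  obtain ⟨u, hu, eu⟩ := found chainT_full.1 ha
  obtain ⟨v, hv, ev⟩ := found chainT_full.1 hb
  have conv : ∀ z, chainT.map (fun S => imgN z S.lev.b) = imgs z := fun z => by
    rw [imgs, ← chainT_full.2, List.map_map]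
    rfl
  rw [conv, e, ← conv, hv, Option.some.injEq] at hu
  rw [← eu, ← hu, ev]

theorem eqW_sound {w v : List ℕ} (h : eqW w v = true) : val w = val v := by
  simp only [eqW, Bool.and_eq_true, beq_iff_eq] at h
  exact ext7 (val_mem h.1.1) (val_mem h.1.2) (by rw [imgs_val h.1.1, imgs_val h.1.2, h.2])

theorem key_of_eq {w v : List ℕ} (hw : inL w = true) (hv : inL v = true) (e : val w = val v) : key w = key v := by
  rw [← imgs_val hw, ← imgs_val hv, e]

theorem eqW_iff {w v : List ℕ} (hw : inL w = true) (hv : inL v = true) : eqW w v = true ↔ val w = val v :=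
  ⟨eqW_sound, fun e => by simp [eqW, hw, hv, key_of_eq hw hv e]⟩

theorem lets_inL {S w : List ℕ} (hS : ∀ l ∈ S, l < 5) (h : lets S w = true) : inL w = true :=
  List.all_eq_true.2 fun l hl => Nat.ble_eq_true_of_le
    (hS l (List.contains_iff_mem.1 (List.all_eq_true.1 h l hl)))

theorem inL_app {w v : List ℕ} (hw : inL w = true) (hv : inL v = true) : inL (w ++ v) = true := by
  rw [inL, List.all_append, Bool.and_eq_true]
  exact ⟨hw, hv⟩

theorem lt_sq {l : ℕ} (hl : l < 5) : lt l * lt l = 1 := by
  have h := eqW_sound (List.all_eq_true.1 sq_ok l (List.mem_range.2 hl))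
  rwa [val_cons, val_one, val_nil] at h

theorem val_rev {w : List ℕ} (h : inL w = true) : val w.reverse = (val w)⁻¹ :=
  wval_reverse lt fun l hl => lt_sq (inL_lt h l hl)

theorem inL_rev {w : List ℕ} (h : inL w = true) : inL w.reverse = true := by
  rwa [inL, List.all_reverse]

theorem val_cj {v : List ℕ} (hv : inL v = true) (w : List ℕ) : val (cjW v w) = val v * val w * (val v)⁻¹ := by
  rw [cjW, val_app, val_app, val_rev hv]

theorem inL_cj {v w : List ℕ} (hv : inL v = true) (hw : inL w = true) : inL (cjW v w) = true :=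
  inL_app (inL_app hv hw) (inL_rev hv)

theorem comW_sound {w v : List ℕ} (h : comW w v = true) : val w * val v = val v * val w := by
  rw [← val_app, ← val_app]
  exact eqW_sound h

theorem comW_iff {w v : List ℕ} (hw : inL w = true) (hv : inL v = true) :
    comW w v = true ↔ val w * val v = val v * val w := by
  rw [← val_app, ← val_app]
  exact eqW_iff (inL_app hw hv) (inL_app hv hw)

theorem cLet_lt : ∀ l ∈ cLet, l < 5 := by decide
theorem nLet_lt : ∀ l ∈ nLet, l < 5 := by decide

theorem lets_app {S w v : List ℕ} (hw : lets S w = true) (hv : lets S v = true) : lets S (w ++ v) = true := by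
  rw [lets, List.all_append, Bool.and_eq_true]
  exact ⟨hw, hv⟩

theorem lets_rev {S w : List ℕ} (hw : lets S w = true) : lets S w.reverse = true := by
  rwa [lets, List.all_reverse]

theorem lets_cj {S v w : List ℕ} (hv : lets S v = true) (hw : lets S w = true) : lets S (cjW v w) = true :=
  lets_app (lets_app hv hw) (lets_rev hv)

theorem lets_mem {S w : List ℕ} (h : lets S w = true) : val w ∈ Subgroup.closure (lt '' {l | l ∈ S}) :=
  Subgroup.list_prod_mem _ fun g hg => by
    obtain ⟨l, hl, rfl⟩ := List.mem_map.1 hg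
    exact Subgroup.subset_closure ⟨l, List.contains_iff_mem.1 (List.all_eq_true.1 h l hl), rfl⟩

/-- Orbit times stabiliser. -/
theorem card_le_orbit (H : Subgroup Pm) (p : Fin data.n) (L : List ℕ) (h : ∀ z ∈ H, (z⁻¹ p).val ∈ L) :
    Nat.card H ≤ L.length * Nat.card ↥(H ⊓ MulAction.stabilizer Pm p) := by
  have e := Nat.card_congr (MulAction.orbitProdStabilizerEquivGroup H p)
  rw [Nat.card_prod, Nat.card_coe_set_eq] at e
  have hs : Nat.card (MulAction.stabilizer H p) = Nat.card ↥(H ⊓ MulAction.stabilizer Pm p) := by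
    rw [← Subgroup.card_map_of_injective (f := H.subtype) H.subtype_injective]
    refine Nat.card_congr (Equiv.subtypeEquivRight fun z => ?_)
    simp only [Subgroup.mem_map, Subgroup.mem_inf, MulAction.mem_stabilizer_iff]
    exact ⟨fun ⟨x, hx, e⟩ => e ▸ ⟨x.2, hx⟩, fun hz => ⟨⟨z, hz.1⟩, hz.2, rfl⟩⟩
  rw [← e, hs]
  refine Nat.mul_le_mul_right _ ?_
  calc (MulAction.orbit H p).ncard ≤ (L.toFinset : Set ℕ).ncard :=
        Set.ncard_le_ncard_of_injOn (fun q : Fin data.n => q.val) (by
          rintro _ ⟨g, rfl⟩
          have := h _ (inv_mem g.2)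
          rw [inv_inv] at this
          rw [Finset.mem_coe, List.mem_toFinset]
          exact this) (fun a _ b _ e => Fin.ext e) (Finset.finite_toSet _)
    _ ≤ L.length := by
        rw [Set.ncard_coe_finset]
        exact L.toFinset_card_le

/-- The filtered orbit lengths bound a subgroup. -/
theorem card_le_upper {c : List SLev} (hc : fullChain c = true) (keep : List ℕ → ℕ → ℕ → Bool) (H : Subgroup Pm)
    (hH : H ≤ data.grp)
    (hk : ∀ z ∈ H, ∀ pre b, b < data.n → (∀ a ∈ pre, a < data.n ∧ imgN z a = a) → keep pre b (imgN z b) = true) :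
    Nat.card H ≤ chainUpper keep [] c := by
  obtain ⟨h1, -, -, h4, h5⟩ := full_parts hc
  have hb : ∀ S ∈ c, S.lev.b < data.n := by
    have : ∀ l : List Lev, chainOK data.low data.n data.low.length l = true → ∀ L ∈ l, L.b < data.n := by
      intro l
      induction l with
      | nil => simp
      | cons L r ih =>
        intro h M hM
        simp only [chainOK, Lev.ok, Bool.and_eq_true, decide_eq_true_eq] at h
        rcases List.mem_cons.1 hM with rfl | hM
        · exact h.1.1.1.1
        · exact ih h.2 M hM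
    exact fun S hS => this _ h1 _ (List.mem_map_of_mem hS)
  suffices key : ∀ (r p : List SLev) (H' : Subgroup Pm), p ++ r = c → H' ≤ H →
      (∀ z ∈ H', ∀ S ∈ p, imgN z S.lev.b = S.lev.b) →
      (∀ z ∈ H', ∃ v, CosetCert.sift data.low r (r.map fun S => imgN z S.lev.b) = some v) →
      Nat.card H' ≤ chainUpper keep (p.map fun S => S.lev.b) r from
    key c [] H rfl le_rfl (by simp) fun z hz => by
      obtain ⟨w, hw, -⟩ := found hc (hH hz)
      exact ⟨w, hw⟩
  intro r
  induction r with
  | nil =>
    intro p H' e hle hfix _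
    rw [List.append_nil] at e
    subst e
    have : H' = ⊥ := by
      rw [Subgroup.eq_bot_iff_forall]
      intro z hz
      obtain ⟨w, hw, e⟩ := found hc (hH (hle hz))
      rw [List.map_congr_left (fun S hS => hfix z hz S hS), h5, Option.some.injEq] at hw
      rw [← e, ← hw, Data.wval_nil']
    rw [this, Subgroup.card_bot]
    exact le_rfl
  | cons S r ih =>
    intro p H' e hle hfix hsift
    have hS : S ∈ c := e ▸ List.mem_append_right p List.mem_cons_self
    have hbS : S.lev.b < data.n := hb S hS
    refine le_trans (card_le_orbit H' ⟨S.lev.b, hbS⟩ _ fun z hz => ?_) (Nat.mul_le_mul_left _ ?_)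
    · have eimg : imgN z S.lev.b = (z⁻¹ ⟨S.lev.b, hbS⟩).val := by rw [imgN, dif_pos hbS]
      rw [← eimg]
      obtain ⟨v, hv⟩ := hsift z hz
      refine List.mem_filter.2 ⟨sift_head hv, hk z (hle hz) _ _ hbS fun a ha => ?_⟩
      obtain ⟨M, hM, rfl⟩ := List.mem_map.1 ha
      exact ⟨hb M (e ▸ List.mem_append_left _ hM), hfix z hz M hM⟩
    · have hst : ∀ z ∈ H' ⊓ MulAction.stabilizer Pm (⟨S.lev.b, hbS⟩ : Fin data.n), imgN z S.lev.b = S.lev.b :=
        fun z hz => by
          rw [imgN, dif_pos hbS, Equiv.Perm.inv_eq_iff_eq.2 (MulAction.mem_stabilizer_iff.1 hz.2).symm]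
      have := ih (p ++ [S]) (H' ⊓ MulAction.stabilizer Pm (⟨S.lev.b, hbS⟩ : Fin data.n)) (by simp [← e])
        (inf_le_left.trans hle) (fun z hz M hM => by
          rcases List.mem_append.1 hM with hM | hM
          · exact hfix z hz.1 M hM
          · rw [List.mem_singleton.1 hM]
            exact hst z hz) fun z hz => by
        obtain ⟨v, hv⟩ := hsift z hz.1
        rw [List.map_cons, hst z hz] at hv
        exact sift_base (h4 S hS).2 hv
      simpa using this

theorem imgN_comm {a z : Pm} (h : z * a = a * z) {c : ℕ} (hc : c < data.n) :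
    imgN a (imgN z c) = imgN z (imgN a c) := by
  rw [← imgN_mul _ _ hc, ← imgN_mul _ _ hc, h]

/-- A subgroup centralising a word is bounded. -/
theorem card_le_fix {c : List SLev} (hc : fullChain c = true) {w : List ℕ} (hw : inL w = true) (H : Subgroup Pm)
    (hH : H ≤ data.grp) (hcom : ∀ z ∈ H, z * val w = val w * z) :
    Nat.card H ≤ chainUpper (keepFix w) [] c := by
  refine card_le_upper hc _ H hH fun z hz pre b hb _ => ?_
  cases hf : fixW w b with
  | false => simp [keepFix, hf]
  | true =>
    rw [fixW, beq_iff_eq, ← imgN_val hw hb] at hf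
    rw [keepFix, Bool.or_eq_true]
    right
    rw [fixW, beq_iff_eq, ← imgN_val hw (imgN_lt z hb), imgN_comm (hcom z hz) hb, hf]

end Cfsg.Lib.CoThreeRecog
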