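import Cfsg.Agent.CoThreeRecog.CentChecks
import Cfsg.Agent.CoThreeRecog.Model
import Cfsg.Agent.CoThreeRecog.Cover

/-!
The centraliser of the involution in the model is the double cover of the symplectic group.
-/

set_option autoImplicit false
set_option maxRecDepth 20000
set_option linter.style.haveILetI false

namespace Cfsg.Lib.CoThreeRecog

open Cfsg Cfsg.Lib.CosetCert Cfsg.Lib.CosetCert.OutCert Cfsg.Lib.PermCert
open Cfsg.Lib.CoThreeModel (data valid_data grp_eq)
open Cfsg.Lib.SpSixTwo (Sp actV genT actC mt sp_ext actV_mul actV_one actV_lt actV_genT el el_vec proj proj_surjective cover)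

/-- The involution. -/
def tP : Pm := val tW

theorem tW_inL : inL tW = true := by
  have h := t_ok
  simp only [Bool.and_eq_true] at h
  exact lets_inL (by decide) h.1.1.1

theorem tP_mem : tP ∈ data.grp := val_mem tW_inL

theorem tP_sq : tP * tP = 1 := by
  have h := t_ok
  simp only [Bool.and_eq_true] at h
  have := eqW_sound h.1.1.2
  rwa [val_app, val_nil] at this

theorem tP_ne : tP ≠ 1 := fun e => by
  have h := t_ok
  simp only [Bool.and_eq_true, bne_iff_ne] at h
  exact h.1.2 (key_of_eq tW_inL rfl (by rw [val_nil]; exact e))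

theorem tP_inv : tP⁻¹ = tP := inv_eq_of_mul_eq_one_left tP_sq

/-- The centraliser inside the permutation group. -/
def centP : Subgroup Pm := data.grp ⊓ Subgroup.centralizer {tP}

theorem mem_centP {z : Pm} : z ∈ centP ↔ z ∈ data.grp ∧ z * tP = tP * z := by
  rw [centP, Subgroup.mem_inf, Subgroup.mem_centralizer_singleton_iff]

theorem tP_centP : tP ∈ centP := mem_centP.2 ⟨tP_mem, rfl⟩

theorem lt_centP {l : ℕ} (hl : l ∈ cLet) : lt l ∈ centP := by
  have h := t_ok
  simp only [Bool.and_eq_true, List.all_eq_true] at h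
  have := comW_sound (h.2 l hl)
  rw [val_one] at this
  exact mem_centP.2 ⟨lt_mem (cLet_lt l hl), this⟩

/-- The subgroup on the letters. -/
def centGrp : Subgroup Pm := Subgroup.closure (lt '' {l | l ∈ cLet})

theorem centGrp_le : centGrp ≤ centP := (Subgroup.closure_le _).2 (by
  rintro _ ⟨l, hl, rfl⟩
  exact lt_centP hl)

theorem val_centP {w : List ℕ} (h : lets cLet w = true) : val w ∈ centP := centGrp_le (lets_mem h)

theorem kW_ok {v : ℕ} (h1 : 1 ≤ v) (h2 : v < 64) : lets cLet (kW v) = true :=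
  List.all_eq_true.1 kWords_ok v (List.mem_range'_1.2 ⟨h1, by omega⟩)

theorem kW_inL {v : ℕ} (h1 : 1 ≤ v) (h2 : v < 64) : inL (kW v) = true := lets_inL cLet_lt (kW_ok h1 h2)

theorem tP_comm {z : Pm} (hz : z ∈ centP) : z * tP = tP * z := (mem_centP.1 hz).2

theorem card_centP_le : Nat.card centP ≤ 2903040 :=
  centT_upper ▸ card_le_fix chainT_full.1 tW_inL centP inf_le_left fun _ hz => tP_comm hz

theorem kW_unique {a b : ℕ} (ha : 1 ≤ a) (ha' : a < 64) (hb : 1 ≤ b) (hb' : b < 64)
    (h : val (kW a) = val (kW b) ∨ val (kW a) = val (kW b) * tP) : a = b := by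
  by_contra hne
  have hs := List.all_eq_true.1 (List.all_eq_true.1 kWords_sep a (List.mem_range'_1.2 ⟨ha, by omega⟩)) b
    (List.mem_range'_1.2 ⟨hb, by omega⟩)
  simp only [Bool.or_eq_true, beq_iff_eq, hne, false_or, Bool.and_eq_true, bne_iff_ne] at hs
  rcases h with h | h
  · exact hs.1 (key_of_eq (kW_inL ha ha') (kW_inL hb hb') h)
  · exact hs.2 (key_of_eq (kW_inL ha ha') (inL_app (kW_inL hb hb') tW_inL) (by rw [val_app]; exact h))

theorem code_zero : SpSixTwo.code (0 : SpSixTwo.Vec) = 0 := by decide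

theorem actV_pos {M : Sp} {v : ℕ} (h1 : 1 ≤ v) (h2 : v < 64) : 1 ≤ actV M v := by
  by_contra h
  have h0 : actV M v = 0 := by omega
  have e : actV M⁻¹ (actV M v) = v := by rw [← actV_mul, inv_mul_cancel, actV_one h2]
  have hz : actV M⁻¹ 0 = 0 := by
    have hv : SpSixTwo.vec 0 = 0 := by decide +kernel
    rw [actV, hv, Matrix.mulVec_zero, code_zero]
  rw [h0, hz] at e
  omega

/-- The element moves the lifts of the transvections as the matrix. -/
def Good (z : Pm) (M : Sp) : Prop :=
  ∀ v, 1 ≤ v → v < 64 → z * val (kW v) * z⁻¹ = val (kW (actV M v)) ∨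
    z * val (kW v) * z⁻¹ = val (kW (actV M v)) * tP

theorem good_one : Good 1 1 := fun v _ h2 => Or.inl (by rw [actV_one h2]; simp)

theorem good_mul {a b : Pm} (ha : a ∈ centP) {M N : Sp} (h : Good a M) (h' : Good b N) : Good (a * b) (M * N) := by
  intro v h1 h2
  have hw1 := actV_pos (M := N) h1 h2
  have hw2 := actV_lt N v
  rw [actV_mul]
  have e : a * b * val (kW v) * (a * b)⁻¹ = a * (b * val (kW v) * b⁻¹) * a⁻¹ := by group
  have ht : a * tP * a⁻¹ = tP := by rw [tP_comm ha, mul_inv_cancel_right]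
  rw [e]
  rcases h' v h1 h2 with h' | h' <;> rw [h']
  · exact h _ hw1 hw2
  · rw [show a * (val (kW (actV N v)) * tP) * a⁻¹ = a * val (kW (actV N v)) * a⁻¹ * (a * tP * a⁻¹) by group, ht]
    rcases h _ hw1 hw2 with h | h <;> rw [h]
    · exact Or.inr rfl
    · exact Or.inl (by rw [mul_assoc, tP_sq, mul_one])

theorem good_inv {a : Pm} (ha : a ∈ centP) {M : Sp} (h : Good a M) : Good a⁻¹ M⁻¹ := by
  intro v h1 h2
  have hw1 := actV_pos (M := M⁻¹) h1 h2
  have hw2 := actV_lt M⁻¹ v
  have e : actV M (actV M⁻¹ v) = v := by rw [← actV_mul, mul_inv_cancel, actV_one h2]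
  have ht : a⁻¹ * tP * a = tP := by rw [mul_assoc, ← tP_comm ha, inv_mul_cancel_left]
  have h0 := h _ hw1 hw2
  rw [e] at h0
  rw [inv_inv]
  rcases h0 with h0 | h0
  · left
    rw [← h0]; group
  · right
    have hk : val (kW v) = a * val (kW (actV M⁻¹ v)) * a⁻¹ * tP := by rw [h0, mul_assoc, tP_sq, mul_one]
    rw [hk, show a⁻¹ * (a * val (kW (actV M⁻¹ v)) * a⁻¹ * tP) * a = val (kW (actV M⁻¹ v)) * (a⁻¹ * tP * a) by group, ht]

theorem good_unique {z : Pm} {M N : Sp} (h : Good z M) (h' : Good z N) : M = N := by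
  refine sp_ext fun i hi => ?_
  have h2 : 2 ^ i < 64 := Nat.pow_lt_pow_right (by norm_num) hi
  have h1 : 1 ≤ 2 ^ i := Nat.one_le_two_pow
  refine kW_unique (actV_pos h1 h2) (actV_lt _ _) (actV_pos h1 h2) (actV_lt _ _) ?_
  rcases h _ h1 h2 with a | a <;> rcases h' _ h1 h2 with b | b <;> rw [a] at b
  · exact Or.inl b
  · exact Or.inr b
  · exact Or.inr (by rw [← b, mul_assoc, tP_sq, mul_one])
  · exact Or.inl (mul_right_cancel b)

theorem good_of_moves {w : List ℕ} {f : ℕ → ℕ} {M : Sp} (hw : inL w = true) (hm : movesK w f = true)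
    (hM : ∀ v < 64, actV M v = f v) : Good (val w) M := by
  intro v h1 h2
  have h := List.all_eq_true.1 hm v (List.mem_range'_1.2 ⟨h1, by omega⟩)
  rw [Bool.or_eq_true] at h
  rw [hM v h2, ← val_cj hw]
  rcases h with h | h
  · exact Or.inl (eqW_sound h)
  · exact Or.inr (by rw [eqW_sound h, val_app]; rfl)

theorem genW_spec (j : Fin 7) : lets cLet (genW.getD j []) = true ∧ Good (val (genW.getD j [])) (genT j) := by
  have hj : (j : ℕ) ∈ List.range 7 := List.mem_range.2 j.isLt
  have hw := List.all_eq_true.1 genW_ok j hj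
  exact ⟨hw, good_of_moves (lets_inL cLet_lt hw) (List.all_eq_true.1 genW_moves j hj) fun v hv => actV_genT j hv⟩

theorem good_letter {l : ℕ} (hl : l ∈ cLet) : Good (lt l) (proj (el (letSp.getD l []))) := by
  rw [← val_one]
  exact good_of_moves (lets_inL cLet_lt (show lets cLet [l] = true by simp [lets, hl]))
    (List.all_eq_true.1 let_moves l hl) fun v hv => el_vec _ hv

theorem exists_good {z : Pm} (hz : z ∈ centGrp) : ∃ M, Good z M := by
  refine Subgroup.closure_induction (p := fun y _ => ∃ M, Good y M) ?_ ⟨1, good_one⟩ ?_ ?_ hz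
  · rintro _ ⟨l, hl, rfl⟩
    exact ⟨_, good_letter hl⟩
  · rintro x y hx - ⟨M, h⟩ ⟨N, h'⟩
    exact ⟨M * N, good_mul (centGrp_le hx) h h'⟩
  · rintro x hx ⟨M, h⟩
    exact ⟨M⁻¹, good_inv (centGrp_le hx) h⟩

/-- The action on the transvections. -/
noncomputable def actT : centGrp →* Sp :=
  MonoidHom.mk' (fun z => (exists_good z.2).choose) fun a b =>
    good_unique (exists_good (a * b).2).choose_spec
      (good_mul (centGrp_le a.2) (exists_good a.2).choose_spec (exists_good b.2).choose_spec)

theorem actT_eq {z : centGrp} {M : Sp} (h : Good z.1 M) : actT z = M :=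
  good_unique (exists_good z.2).choose_spec h

theorem actT_surjective : Function.Surjective actT := by
  have hgen : ∀ j : Fin 7, genT j ∈ actT.range := fun j =>
    ⟨⟨_, lets_mem (genW_spec j).1⟩, actT_eq (genW_spec j).2⟩
  intro M
  obtain ⟨⟨g, hg⟩, rfl⟩ := proj_surjective M
  show g.2 ∈ actT.range
  induction hg using Subgroup.closure_induction with
  | mem x hx => obtain ⟨c, rfl⟩ := hx; exact hgen c
  | one => exact one_mem _
  | mul x y _ _ hx hy => exact mul_mem hx hy
  | inv x _ hx => exact inv_mem hx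

theorem tP_centGrp : tP ∈ centGrp := lets_mem (by
  have h := t_ok
  simp only [Bool.and_eq_true] at h
  exact List.all_eq_true.2 fun l hl => by
    have := List.contains_iff_mem.1 (List.all_eq_true.1 h.1.1.1 l hl)
    simp only [List.mem_cons, List.not_mem_nil, or_false] at this
    rcases this with rfl | rfl <;> decide)

attribute [local irreducible] val lt

theorem centP_facts : centP = centGrp ∧ Nat.card centP = 2903040 ∧
    ∀ z : centGrp, actT z = 1 ↔ (z : Pm) = 1 ∨ (z : Pm) = tP := by
  have htk : (⟨tP, tP_centGrp⟩ : centGrp) ∈ actT.ker := by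
    refine MonoidHom.mem_ker.2 (actT_eq fun v h1 h2 => Or.inl ?_)
    rw [actV_one h2]
    show tP * val (kW v) * tP⁻¹ = _
    rw [← tP_comm (val_centP (kW_ok h1 h2)), mul_inv_cancel_right]
  have h2 : 2 ≤ Nat.card actT.ker := by
    rw [← Nat.succ_le_iff.symm]
    exact Finite.one_lt_card_iff_nontrivial.2 ⟨⟨⟨_, htk⟩, 1, fun e => tP_ne (congrArg (fun q : actT.ker => (q.1 : Pm)) e)⟩⟩
  have hq := Subgroup.card_eq_card_quotient_mul_card_subgroup actT.ker
  rw [Nat.card_congr (QuotientGroup.quotientKerEquivOfSurjective actT actT_surjective).toEquiv, SpSixTwo.card_Sp] at hq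
  have hle : Nat.card centGrp ≤ Nat.card centP := Subgroup.card_le_of_le centGrp_le
  have hup := card_centP_le
  have hk : Nat.card actT.ker = 2 := by omega
  have e : centGrp = centP := Subgroup.eq_of_le_of_card_ge centGrp_le (by omega)
  refine ⟨e.symm, by omega, fun z => ⟨fun hz => ?_, ?_⟩⟩
  · obtain ⟨x, hx, huniq⟩ := (Nat.card_eq_two_iff' (1 : actT.ker)).1 hk
    by_cases h1 : (z : Pm) = 1
    · exact Or.inl h1
    · have e1 := huniq ⟨z, hz⟩ fun e => h1 (congrArg (fun q : actT.ker => (q.1 : Pm)) e)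
      have e2 := huniq ⟨_, htk⟩ fun e => tP_ne (congrArg (fun q : actT.ker => (q.1 : Pm)) e)
      exact Or.inr (congrArg (fun q : actT.ker => (q.1 : Pm)) (e1.trans e2.symm))
  · rintro (h | h)
    · rw [show z = 1 from Subtype.ext h, map_one]
    · rw [show z = ⟨tP, tP_centGrp⟩ from Subtype.ext h]
      exact htk

theorem centP_gen : centP = centGrp := centP_facts.1

theorem card_centP : Nat.card centP = 2903040 := centP_facts.2.1

theorem exists_root : ∃ z ∈ centP, z * z = tP := by
  have h := root_t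
  rw [Bool.and_eq_true] at h
  exact ⟨val rootX, val_centP h.1, by rw [← val_app, eqW_sound h.2]; rfl⟩

/-- The involution, in the centraliser. -/
def tC : centP := ⟨tP, tP_centP⟩

/-- The centraliser is a non-split double cover of the symplectic group. -/
theorem double_cover : Cfsg.IsNonsplitDoubleCover centP Sp := by
  obtain ⟨e, -, hker⟩ := centP_facts
  let φ : centP →* Sp := actT.comp (MulEquiv.subgroupCongr e).toMonoidHom
  have hφ : Function.Surjective φ := actT_surjective.comp (MulEquiv.subgroupCongr e).surjective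
  have hk : ∀ z : centP, φ z = 1 ↔ z = 1 ∨ z = tC := fun z => by
    rw [show φ z = 1 ↔ _ from hker (MulEquiv.subgroupCongr e z)]
    exact or_congr ⟨fun h => Subtype.ext h, fun h => congrArg Subtype.val h⟩
      ⟨fun h => Subtype.ext h, fun h => congrArg Subtype.val h⟩
  have htc : tC ∈ Subgroup.center centP :=
    Subgroup.mem_center_iff.2 fun g => Subtype.ext (tP_comm g.2)
  have hcen : Subgroup.center centP = φ.ker := by
    ext z
    rw [MonoidHom.mem_ker]
    constructor
    · intro hz
      refine sp_ext fun i hi => ?_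
      have h2 : 2 ^ i < 64 := Nat.pow_lt_pow_right (by norm_num) hi
      have h1 : 1 ≤ 2 ^ i := Nat.one_le_two_pow
      rw [actV_one h2]
      obtain ⟨M, hM⟩ := exists_good (z := z.1) (e ▸ z.2)
      rw [show φ z = M from actT_eq (z := MulEquiv.subgroupCongr e z) hM]
      have hc : z.1 * val (kW (2 ^ i)) * z.1⁻¹ = val (kW (2 ^ i)) := by
        have := congrArg Subtype.val (Subgroup.mem_center_iff.1 hz ⟨_, val_centP (kW_ok h1 h2)⟩)
        simp only [Subgroup.coe_mul] at this
        rw [← this, mul_inv_cancel_right]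
      refine kW_unique (actV_pos h1 h2) (actV_lt _ _) h1 h2 ?_
      rcases hM _ h1 h2 with h | h <;> rw [hc] at h
      · exact Or.inl h.symm
      · exact Or.inr (by rw [h, mul_assoc, tP_sq, mul_one])
    · intro hz
      rcases (hk z).1 hz with rfl | rfl
      · exact one_mem _
      · exact htc
  have hc2 : Nat.card (Subgroup.center centP) = 2 := by
    rw [hcen]
    have e2 : (φ.ker : Set centP) = {1, tC} := by
      ext z
      simp [MonoidHom.mem_ker, hk z]
    rw [← SetLike.coe_sort_coe, Nat.card_coe_set_eq, e2, Set.ncard_pair fun h => tP_ne (congrArg Subtype.val h).symm]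
  refine ⟨hc2, ⟨(QuotientGroup.quotientMulEquivOfEq hcen).trans
    (QuotientGroup.quotientKerEquivOfSurjective φ hφ)⟩, fun H hH => ?_⟩
  obtain ⟨z, hz, hz2⟩ := exists_root
  obtain ⟨⟨x, h⟩, hx, -⟩ := hH.existsUnique ⟨z, hz⟩
  simp only at hx
  have hh : h.1 * h.1 = tC := by
    have hcx := Subgroup.mem_center_iff.1 x.2 h.1
    have hx2 : x.1 * x.1 = 1 := by
      have hxk : φ x.1 = 1 := MonoidHom.mem_ker.1 (hcen ▸ x.2)
      rcases (hk x.1).1 hxk with e | e <;> rw [e]
      · rw [mul_one]
      · exact Subtype.ext tP_sq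
    calc h.1 * h.1 = x.1 * x.1 * (h.1 * h.1) := by rw [hx2, one_mul]
      _ = x.1 * (x.1 * h.1) * h.1 := by group
      _ = x.1 * (h.1 * x.1) * h.1 := by rw [hcx]
      _ = x.1 * h.1 * (x.1 * h.1) := by group
      _ = ⟨z, hz⟩ * ⟨z, hz⟩ := by rw [hx]
      _ = tC := Subtype.ext hz2
  have htH : tC ∈ H := hh ▸ mul_mem h.2 h.2
  exact tP_ne (congrArg Subtype.val (Subgroup.disjoint_def.1 hH.disjoint htc htH))

end Cfsg.Lib.CoThreeRecog
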