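import Cfsg.Agent.CoThreeRecog.Data
import Cfsg.Agent.CoThreeModel.Model

/-!
Kernel checks on five involutions of the Conway group Co3.
-/

set_option autoImplicit false
set_option maxRecDepth 20000
set_option maxHeartbeats 1000000

namespace Cfsg.Lib.CoThreeRecog

open Cfsg.Lib.CosetCert Cfsg.Lib.PermCert Cfsg.Lib.CosetCert.OutCert
open Cfsg.Lib.CoThreeModel (data)

/-- The base points. -/
def bases : List ℕ := [79, 262, 177, 97, 66, 214, 1]

/-- The signature of a word. -/
def key (w : List ℕ) : List ℕ := bases.map (evalW letTabs w)

/-- The signature of a word in the involutions of the model. -/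
def keyLow (w : List ℕ) : List ℕ := bases.map (evalW data.xTabs w)

/-- All letters are among the five. -/
def inL (w : List ℕ) : Bool := w.all fun l => Nat.blt l 5

/-- The letters of the centraliser. -/
def cLet : List ℕ := [0, 1, 2, 4]
/-- The letters normalising the elementary subgroup. -/
def nLet : List ℕ := [0, 2, 3, 4]

/-- Letters from a list. -/
def lets (S w : List ℕ) : Bool := w.all fun l => S.contains l

/-- Two words give the same element. -/
def eqW (w v : List ℕ) : Bool := inL w && inL v && key w == key v

/-- Two words give commuting elements. -/
def comW (w v : List ℕ) : Bool := eqW (w ++ v) (v ++ w)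

/-- A conjugate, as a word. -/
def cjW (v w : List ℕ) : List ℕ := v ++ w ++ v.reverse

/-- An element of the elementary subgroup. -/
def eW (i : ℕ) : List ℕ := eWords.getD i []
/-- The involution. -/
def tW : List ℕ := eW 1
/-- An entry of a table. -/
def tb (T : List (List ℕ)) (i j : ℕ) : ℕ := (T.getD i []).getD j 0
/-- The image of a point under a listed permutation. -/
def pap (p : List ℕ) (i : ℕ) : ℕ := p.getD i 0
/-- The composite of listed permutations. -/
def pmul (p q : List ℕ) : List ℕ := (List.range 16).map fun i => pap p (pap q i)

/-- A chain is a full chain of the model. -/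
def fullChain (c : List SLev) : Bool :=
  chainOK data.low 276 4 (c.map SLev.lev) && c.all (SLev.ok data.low) &&
    (chainSize (c.map SLev.lev) == 495766656000) &&
    (c.all fun S => S.lev.gens.all Data.isLow && (S.idx.head? == some (S.lev.b, []))) &&
    (CosetCert.sift data.low c (c.map fun S => S.lev.b) == some [])

/-- The bound from the filtered orbits along a chain. -/
def chainUpper (keep : List ℕ → ℕ → ℕ → Bool) : List ℕ → List SLev → ℕ
  | _, [] => 1
  | pre, S :: r => ((S.idx.map Prod.fst).filter (keep pre S.lev.b)).length * chainUpper keep (pre ++ [S.lev.b]) r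

/-- A point is fixed by a word. -/
def fixW (w : List ℕ) (x : ℕ) : Bool := evalW letTabs w x == x

/-- The filter for a centraliser of a word. -/
def keepFix (w : List ℕ) (_ : List ℕ) (b y : ℕ) : Bool := !fixW w b || fixW w y

/-- A letter has the table of its word on a range of points. -/
def tabPart (l a k : ℕ) : Bool :=
  (List.range' a k).all fun x => evalW letTabs [l] x == evalW data.xTabs (lowWords.getD l []) x

theorem tabs_ok : ((List.range 5).all fun l => valid 276 (letTabs.getD l (0, 0)) &&
    Data.isLow (lowWords.getD l [])) = true ∧ letTabs.length = 5 := by decide +kernel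

theorem tab0_0 : tabPart 0 0 92 = true := by decide +kernel

theorem tab0_1 : tabPart 0 92 92 = true := by decide +kernel

theorem tab0_2 : tabPart 0 184 92 = true := by decide +kernel

theorem tab1_0 : tabPart 1 0 92 = true := by decide +kernel

theorem tab1_1 : tabPart 1 92 92 = true := by decide +kernel

theorem tab1_2 : tabPart 1 184 92 = true := by decide +kernel

theorem tab2_0 : tabPart 2 0 92 = true := by decide +kernel

theorem tab2_1 : tabPart 2 92 92 = true := by decide +kernel

theorem tab2_2 : tabPart 2 184 92 = true := by decide +kernel

theorem tab3_0 : tabPart 3 0 92 = true := by decide +kernel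

theorem tab3_1 : tabPart 3 92 92 = true := by decide +kernel

theorem tab3_2 : tabPart 3 184 92 = true := by decide +kernel

theorem tab4_0 : tabPart 4 0 92 = true := by decide +kernel

theorem tab4_1 : tabPart 4 92 92 = true := by decide +kernel

theorem tab4_2 : tabPart 4 184 92 = true := by decide +kernel

theorem chainT_full : fullChain chainT = true ∧ chainT.map (fun S => S.lev.b) = bases := by decide +kernel

theorem sq_ok : ((List.range 5).all fun l => eqW [l, l] []) = true := by decide +kernel

theorem t_ok : (lets [1, 2] tW && eqW (tW ++ tW) [] && (key tW != key []) && (cLet.all fun l => comW [l] tW)) = true := by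
  decide +kernel

theorem centT_upper : chainUpper (keepFix tW) [] chainT = 2903040 := by decide +kernel

theorem e_ok : ((List.range 16).all fun i => lets cLet (eW i) && (tb eMul i i == 0) &&
    (List.range 16).all fun j => Nat.blt (tb eMul i j) 16 && eqW (eW i ++ eW j) (eW (tb eMul i j)) &&
      (tb eMul i j == tb eMul j i) && ((i == j) || key (eW i) != key (eW j))) = true ∧ eW 0 = [] ∧ eW 1 = tW := by
  decide +kernel

theorem act_ok : (nLet.all fun l => (List.range 16).all fun i =>
    Nat.blt (tb eAct l i) 16 && eqW (cjW [l] (eW i)) (eW (tb eAct l i))) = true := by decide +kernel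

end Cfsg.Lib.CoThreeRecog
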