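import Cfsg.Agent.CoThreeRecog.DataK
import Cfsg.Agent.CoThreeRecog.DataS
import Cfsg.Agent.CoThreeRecog.Checks
import Cfsg.Agent.SpSixTwo.Cover

/-!
Kernel checks: the centraliser of the involution acts on the transvections as the symplectic group.
-/

set_option autoImplicit false
set_option maxRecDepth 20000
set_option maxHeartbeats 1000000

namespace Cfsg.Lib.CoThreeRecog

open Cfsg.Lib.CosetCert Cfsg.Lib.PermCert Cfsg.Lib.CosetCert.OutCert

/-- A lift of a transvection. -/
def kW (v : ℕ) : List ℕ := kWords.getD v []

/-- A word moves the lifts as a map of vectors. -/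
def movesK (w : List ℕ) (f : ℕ → ℕ) : Bool :=
  (List.range' 1 63).all fun v =>
    eqW (cjW w (kW v)) (kW (f v)) || eqW (cjW w (kW v)) (kW (f v) ++ tW)

theorem kWords_ok : ((List.range' 1 63).all fun v => lets cLet (kW v)) = true := by decide +kernel

theorem kWords_sep : ((List.range' 1 63).all fun a => (List.range' 1 63).all fun b => a == b ||
    (key (kW a) != key (kW b) && key (kW a) != key (kW b ++ tW))) = true := by decide +kernel

theorem genW_ok : ((List.range 7).all fun j => lets cLet (genW.getD j [])) = true := by decide +kernel

theorem genW_moves : ((List.range 7).all fun j =>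
    movesK (genW.getD j []) (ap (Cfsg.Lib.SpSixTwo.vecTab.getD j 0))) = true := by decide +kernel

theorem let_moves : (cLet.all fun l => movesK [l] (Cfsg.Lib.SpSixTwo.actC (letSp.getD l []))) = true := by
  decide +kernel

theorem root_t : (lets cLet rootX && eqW (rootX ++ rootX) tW) = true := by decide +kernel

end Cfsg.Lib.CoThreeRecog
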