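import Cfsg.Agent.CoThreeRecog.Local

/-!
The model has two classes of involutions.
-/

set_option autoImplicit false
set_option maxRecDepth 20000
set_option linter.style.haveILetI false

namespace Cfsg.Lib.CoThreeRecog

open Cfsg Cfsg.Lib.CosetCert Cfsg.Lib.CosetCert.OutCert
open Cfsg.Lib.CoThreeModel (data valid_data grp_eq)

attribute [local irreducible] val lt

/-- A 2-subgroup of the model is conjugate into the Sylow subgroup. -/
theorem conj_grp {Q : Subgroup Pm} (hQ : Q ≤ data.grp) (hQp : IsPGroup 2 Q) :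
    ∃ d ∈ data.grp, ∀ x ∈ Q, d * x * d⁻¹ ∈ SM := by
  haveI : Fact (Nat.Prime 2) := ⟨Nat.prime_two⟩
  have hSg : SM ≤ data.grp := SM_le.trans fun z hz => (mem_centP.1 hz).1
  obtain ⟨S, hS⟩ := (SM_pgroup.of_equiv (Subgroup.subgroupOfEquivOfLe hSg).symm).exists_le_sylow
  have hSM : (S : Subgroup data.grp).map data.grp.subtype = SM := by
    refine (Subgroup.eq_of_le_of_card_ge (H := SM) (K := (S : Subgroup data.grp).map data.grp.subtype)
      (fun x hx => ⟨⟨x, hSg hx⟩, hS hx, rfl⟩) ?_).symm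
    rw [Subgroup.card_map_of_injective data.grp.subtype_injective, SM_card]
    obtain ⟨k, hk⟩ := IsPGroup.iff_card.1 S.isPGroup'
    have hdvd := Subgroup.card_subgroup_dvd_card (S : Subgroup data.grp)
    rw [grp_eq.2, hk] at hdvd
    rw [hk, show (1024 : ℕ) = 2 ^ 10 by norm_num]
    refine Nat.pow_le_pow_right (by norm_num) (not_lt.1 fun h => ?_)
    exact absurd ((pow_dvd_pow 2 (show 11 ≤ k by omega)).trans hdvd) (by norm_num)
  obtain ⟨R, hR⟩ := (hQp.of_equiv (Subgroup.subgroupOfEquivOfLe hQ).symm).exists_le_sylow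
  obtain ⟨c, hc⟩ := MulAction.exists_smul_eq data.grp R S
  refine ⟨c, c.2, fun q hq => ?_⟩
  rw [← hSM, ← hc, Sylow.coe_subgroup_smul]
  exact ⟨c * ⟨q, hQ hq⟩ * c⁻¹, ⟨⟨q, hQ hq⟩, hR hq, rfl⟩, rfl⟩

/-- The first class is one class in the model. -/
theorem X_conj_t : ∃ g ∈ data.grp, g * tP * g⁻¹ = eE eX := by
  obtain ⟨h7, e7⟩ := eAct_spec3
  have hne : eE (tb eAct 3 1) ≠ 1 ∧ eE (tb eAct 3 1) ≠ tP := by
    have h : tb eAct 3 1 ≠ 0 ∧ tb eAct 3 1 ≠ 1 := by decide +kernel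
    exact ⟨fun e => h.1 (eE_inj h7 (by norm_num) (e.trans eE_zero.symm)),
      fun e => h.2 (eE_inj h7 (by norm_num) (e.trans eE_one.symm))⟩
  rcases eE_kind h7 with e | e | ⟨d, hd, hde⟩
  · exact absurd e hne.1
  · exact absurd e hne.2
  refine ⟨d⁻¹ * lt 3, mul_mem (inv_mem (mem_centP.1 hd).1) (lt_mem (by norm_num)), ?_⟩
  rw [show d⁻¹ * lt 3 * tP * (d⁻¹ * lt 3)⁻¹ = d⁻¹ * (lt 3 * tP * (lt 3)⁻¹) * d by group, ← eE_one, e7, ← hde]
  group
where
  eAct_spec3 : tb eAct 3 1 < 16 ∧ lt 3 * eE 1 * (lt 3)⁻¹ = eE (tb eAct 3 1) := by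
    have h := List.all_eq_true.1 (List.all_eq_true.1 act_ok 3 (by decide)) 1 (List.mem_range.2 (by norm_num))
    rw [Bool.and_eq_true] at h
    refine ⟨Nat.le_of_ble_eq_true h.1, ?_⟩
    rw [← val_one 3, eE, ← val_cj (show inL [3] = true from rfl)]
    exact eqW_sound h.2

/-- The classes of involutions of the model. -/
theorem model_classes {u : Pm} (hu : u ∈ data.grp) (h : u * u = 1) (h1 : u ≠ 1) :
    ∃ g ∈ data.grp, g * tP * g⁻¹ = u ∨ g * qP * g⁻¹ = u := by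
  obtain ⟨d, hd, hdS⟩ := conj_grp (Subgroup.zpowers_le.2 hu) (IsPGroup.of_card (n := 1) (by
    rw [Nat.card_zpowers, pow_one]
    exact orderOf_eq_prime (by rw [pow_two, h]) h1))
  have key : ∀ w : Pm, ∀ g ∈ data.grp, g * w * g⁻¹ = d * u * d⁻¹ → d⁻¹ * g * w * (d⁻¹ * g)⁻¹ = u :=
    fun w g _ e => by
      rw [show d⁻¹ * g * w * (d⁻¹ * g)⁻¹ = d⁻¹ * (g * w * g⁻¹) * d by group, e]
      group
  rcases invol_SM (hdS u (Subgroup.mem_zpowers u))
    (by rw [show d * u * d⁻¹ * (d * u * d⁻¹) = d * (u * u) * d⁻¹ by group, h, mul_one, mul_inv_cancel])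
    (fun e => h1 (conj_eq_one_iff.1 e)) with e | ⟨k, hk, hke⟩ | ⟨k, hk, hke⟩
  · exact ⟨d⁻¹ * 1, mul_mem (inv_mem hd) (one_mem _), Or.inl (key _ 1 (one_mem _) (by rw [e]; group))⟩
  · obtain ⟨g, hg, hge⟩ := X_conj_t
    have hkg := mul_mem (mem_centP.1 hk).1 hg
    exact ⟨d⁻¹ * (k * g), mul_mem (inv_mem hd) hkg, Or.inl (key _ _ hkg (by rw [← hke, ← hge]; group))⟩
  · exact ⟨d⁻¹ * k, mul_mem (inv_mem hd) (mem_centP.1 hk).1, Or.inr (key _ _ (mem_centP.1 hk).1 hke)⟩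

/-- Twelve fixed points mark the second class. -/
theorem class_of_twelve {u : Pm} (hu : u ∈ data.grp) (h : u * u = 1) (h1 : u ≠ 1) (hf : nfp u = 12) :
    ∃ g ∈ data.grp, g * qP * g⁻¹ = u := by
  obtain ⟨g, hg, e | e⟩ := model_classes hu h h1
  · rw [← e, nfp_conj, nfp_vals.1] at hf
    exact absurd hf (by norm_num)
  · exact ⟨g, hg, e⟩

end Cfsg.Lib.CoThreeRecog
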