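import Cfsg.Agent.CoThreeRecog.Local

/-!
A group with an involution whose centraliser is a copy of that of the model: fusion of involutions and an element
normalising the elementary subgroup that moves the involution.
-/

set_option autoImplicit false
set_option maxRecDepth 20000
set_option linter.style.haveILetI false

namespace Cfsg.Lib.CoThreeRecog

open Cfsg Cfsg.Lib.CosetCert Cfsg.Lib.CosetCert.OutCert
open Cfsg.Lib.CoThreeModel (data valid_data grp_eq)

attribute [local irreducible] val lt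

/-- The setting: a copy of the centraliser, and an involution that is not isolated. -/
structure Ctx (G : Type*) [Group G] [Finite G] where
  /-- The involution. -/
  t : G
  /-- The copy. -/
  ι : centP →* G
  inj : Function.Injective ι
  range : ι.range = Subgroup.centralizer ({t} : Set G)
  map_t : ι tC = t
  noniso : ∃ g, Commute t (g * t * g⁻¹) ∧ g * t * g⁻¹ ≠ t

open scoped _root_.Classical in
/-- The copy as a total function. -/
noncomputable def Ctx.f {G : Type*} [Group G] [Finite G] (c : Ctx G) (z : Pm) : G :=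
  if h : z ∈ centP then c.ι ⟨z, h⟩ else 1

namespace Ctx

variable {G : Type*} [Group G] [Finite G] (c : Ctx G)

theorem f_def {z : Pm} (h : z ∈ centP) : c.f z = c.ι ⟨z, h⟩ := dif_pos h

theorem f_mul {a b : Pm} (ha : a ∈ centP) (hb : b ∈ centP) : c.f (a * b) = c.f a * c.f b := by
  rw [c.f_def ha, c.f_def hb, c.f_def (mul_mem ha hb), ← map_mul]
  rfl

theorem f_one : c.f 1 = 1 := by
  rw [c.f_def (one_mem _)]
  exact map_one c.ι

theorem f_inv {a : Pm} (ha : a ∈ centP) : c.f a⁻¹ = (c.f a)⁻¹ := by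
  rw [c.f_def ha, c.f_def (inv_mem ha), ← map_inv]
  rfl

theorem f_inj {a b : Pm} (ha : a ∈ centP) (hb : b ∈ centP) (h : c.f a = c.f b) : a = b := by
  rw [c.f_def ha, c.f_def hb] at h
  exact congrArg Subtype.val (c.inj h)

theorem f_conj {a b : Pm} (ha : a ∈ centP) (hb : b ∈ centP) : c.f (a * b * a⁻¹) = c.f a * c.f b * (c.f a)⁻¹ := by
  rw [c.f_mul (mul_mem ha hb) (inv_mem ha), c.f_mul ha hb, c.f_inv ha]

theorem f_t : c.f tP = c.t := by
  rw [c.f_def tP_centP]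
  exact c.map_t

theorem f_cent {a : Pm} (ha : a ∈ centP) : c.f a * c.t = c.t * c.f a := by
  rw [← c.f_t, ← c.f_mul ha tP_centP, ← c.f_mul tP_centP ha, tP_comm ha]

theorem exists_f {g : G} (hg : g * c.t = c.t * g) : ∃ z ∈ centP, c.f z = g := by
  have hg' : g ∈ Subgroup.centralizer ({c.t} : Set G) := Subgroup.mem_centralizer_singleton_iff.2 hg
  rw [← c.range] at hg'
  obtain ⟨⟨z, hz⟩, rfl⟩ := hg'
  exact ⟨z, hz, c.f_def hz⟩

theorem t_ne : c.t ≠ 1 := fun e => tP_ne (c.f_inj tP_centP (one_mem _) (by rw [c.f_t, e, c.f_one]))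

theorem t_sq : c.t * c.t = 1 := by
  rw [← c.f_t, ← c.f_mul tP_centP tP_centP, tP_sq, c.f_one]

theorem conj_sq (g : G) : g * c.t * g⁻¹ * (g * c.t * g⁻¹) = 1 := by
  calc g * c.t * g⁻¹ * (g * c.t * g⁻¹) = g * (c.t * c.t) * g⁻¹ := by group
    _ = 1 := by rw [c.t_sq, mul_one, mul_inv_cancel]

theorem conj_ne (g : G) : g * c.t * g⁻¹ ≠ 1 := fun e => c.t_ne (conj_eq_one_iff.1 e)

/-- The involution is not conjugate to one of the second class. -/
theorem not_Y {g : G} {z : Pm} (hz : z ∈ centP) (he : c.f z = g * c.t * g⁻¹) (hY : IsY z) : False := by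
  -- the conjugate the other way
  have hcomm : g * c.t * g⁻¹ * c.t = c.t * (g * c.t * g⁻¹) := he ▸ c.f_cent hz
  have h2 : g⁻¹ * c.t * g * c.t = c.t * (g⁻¹ * c.t * g) := by
    calc g⁻¹ * c.t * g * c.t = g⁻¹ * (c.t * (g * c.t * g⁻¹)) * g := by group
      _ = g⁻¹ * (g * c.t * g⁻¹ * c.t) * g := by rw [hcomm]
      _ = _ := by group
  obtain ⟨w, hw, hwe⟩ := c.exists_f h2
  have hw2 : w * w = 1 := c.f_inj (mul_mem hw hw) (one_mem _) (by
    rw [c.f_mul hw hw, hwe, c.f_one]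
    simpa using c.conj_sq g⁻¹)
  have hw1 : w ≠ 1 := fun e => c.conj_ne g⁻¹ (by rw [inv_inv, ← hwe, e, c.f_one])
  -- a square root of the involution centralising the first conjugate
  obtain ⟨⟨rX, hrX, hrX2, hrXc⟩, ⟨rY, hrY, hrY2, hrYc⟩⟩ := exists_roots
  obtain ⟨d, hd, hde⟩ := hY
  have hr : d * rY * d⁻¹ ∈ centP := mul_mem (mul_mem hd hrY) (inv_mem hd)
  have hr2 : d * rY * d⁻¹ * (d * rY * d⁻¹) = tP := by
    rw [show d * rY * d⁻¹ * (d * rY * d⁻¹) = d * (rY * rY) * d⁻¹ by group, hrY2, tP_comm hd, mul_inv_cancel_right]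
  have hrz : d * rY * d⁻¹ * z = z * (d * rY * d⁻¹) := by
    rw [← hde, show d * rY * d⁻¹ * (d * qP * d⁻¹) = d * (rY * qP) * d⁻¹ by group, hrYc]
    group
  set R := c.f (d * rY * d⁻¹) with hRdef
  have hR2 : R * R = c.t := by rw [hRdef, ← c.f_mul hr hr, hr2, c.f_t]
  have hRz : R * (g * c.t * g⁻¹) = g * c.t * g⁻¹ * R := by
    rw [hRdef, ← he, ← c.f_mul hr hz, hrz, c.f_mul hz hr]
  obtain ⟨s, hs, hse⟩ := c.exists_f (g := g⁻¹ * R * g) (by
    calc g⁻¹ * R * g * c.t = g⁻¹ * (R * (g * c.t * g⁻¹)) * g := by group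
      _ = g⁻¹ * (g * c.t * g⁻¹ * R) * g := by rw [hRz]
      _ = c.t * (g⁻¹ * R * g) := by group)
  have hsw : s * s = w := c.f_inj (mul_mem hs hs) hw (by
    rw [c.f_mul hs hs, hse, hwe, ← hR2]
    group)
  -- so the second conjugate is of the first class, and then the first is a square
  rcases invol_cases hw hw2 hw1 with e | hX | hY'
  · have : g * c.t * g⁻¹ = c.t := by
      rw [e, c.f_t] at hwe
      conv_lhs => rw [hwe]
      group
    have hzt : z = tP := c.f_inj hz tP_centP (by rw [he, this, c.f_t])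
    exact (show IsY z from ⟨d, hd, hde⟩).ne_tP hzt
  · obtain ⟨e, he', hee⟩ := hX
    have hrr : e * rX * e⁻¹ ∈ centP := mul_mem (mul_mem he' hrX) (inv_mem he')
    have hrw : e * rX * e⁻¹ * w = w * (e * rX * e⁻¹) := by
      rw [← hee, show e * rX * e⁻¹ * (e * eE eX * e⁻¹) = e * (rX * eE eX) * e⁻¹ by group, hrXc]
      group
    set R' := c.f (e * rX * e⁻¹) with hR'def
    have hR'2 : R' * R' = c.t := by
      rw [hR'def, ← c.f_mul hrr hrr, show e * rX * e⁻¹ * (e * rX * e⁻¹) = e * (rX * rX) * e⁻¹ by group, hrX2,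
        tP_comm he', mul_inv_cancel_right, c.f_t]
    have hR'w : R' * (g⁻¹ * c.t * g) = g⁻¹ * c.t * g * R' := by
      rw [hR'def, ← hwe, ← c.f_mul hrr hw, hrw, c.f_mul hw hrr]
    obtain ⟨u, hu, hue⟩ := c.exists_f (g := g * R' * g⁻¹) (by
      calc g * R' * g⁻¹ * c.t = g * (R' * (g⁻¹ * c.t * g)) * g⁻¹ := by group
        _ = g * (g⁻¹ * c.t * g * R') * g⁻¹ := by rw [hR'w]
        _ = c.t * (g * R' * g⁻¹) := by group)
    have huz : u * u = z := c.f_inj (mul_mem hu hu) hz (by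
      rw [c.f_mul hu hu, hue, he, ← hR'2]
      group)
    exact root_Y hu (huz ▸ ⟨d, hd, hde⟩)
  · exact root_Y hs (hsw ▸ hY')

/-- The involution is conjugate to the chosen involution of the elementary subgroup. -/
theorem fusion : ∃ g : G, g * c.t * g⁻¹ = c.f (eE eX) := by
  obtain ⟨g, hcomm, hne⟩ := c.noniso
  obtain ⟨z, hz, he⟩ := c.exists_f (g := g * c.t * g⁻¹) hcomm.eq.symm
  have hz2 : z * z = 1 := c.f_inj (mul_mem hz hz) (one_mem _) (by rw [c.f_mul hz hz, he, c.conj_sq, c.f_one])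
  have hz1 : z ≠ 1 := fun e => c.conj_ne g (by rw [← he, e, c.f_one])
  rcases invol_cases hz hz2 hz1 with e | ⟨d, hd, hde⟩ | hY
  · exact absurd (by rw [← he, e, c.f_t]) hne
  · refine ⟨(c.f d)⁻¹ * g, ?_⟩
    rw [show (c.f d)⁻¹ * g * c.t * ((c.f d)⁻¹ * g)⁻¹ = (c.f d)⁻¹ * (g * c.t * g⁻¹) * c.f d by group, ← he, ← hde,
      c.f_conj hd (eE_centP eX_lt)]
    group
  · exact absurd (c.not_Y hz he hY) id

/-- An element of the elementary subgroup. -/
noncomputable def ge (i : ℕ) : G := c.f (eE i)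

theorem ge_one : c.ge 1 = c.t := by rw [Ctx.ge, eE_one, c.f_t]

theorem ge_zero : c.ge 0 = 1 := by rw [Ctx.ge, eE_zero, c.f_one]

theorem ge_mul {i j : ℕ} (hi : i < 16) (hj : j < 16) : c.ge i * c.ge j = c.ge (tb eMul i j) := by
  rw [Ctx.ge, Ctx.ge, Ctx.ge, ← c.f_mul (eE_centP hi) (eE_centP hj), eE_mul hi hj]

theorem ge_inj {i j : ℕ} (hi : i < 16) (hj : j < 16) (h : c.ge i = c.ge j) : i = j :=
  eE_inj hi hj (c.f_inj (eE_centP hi) (eE_centP hj) h)

theorem ge_sq {i : ℕ} (hi : i < 16) : c.ge i * c.ge i = 1 := by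
  rw [Ctx.ge, ← c.f_mul (eE_centP hi) (eE_centP hi), eE_sq hi, c.f_one]

theorem ge_comm {i j : ℕ} (hi : i < 16) (hj : j < 16) : c.ge i * c.ge j = c.ge j * c.ge i := by
  rw [c.ge_mul hi hj, c.ge_mul hj hi, ((eW_ok hi).2.2 j hj).2.2.1]

/-- The elementary subgroup is its own centraliser. -/
theorem cent_ge {g : G} (h : ∀ i < 16, g * c.ge i = c.ge i * g) : ∃ i < 16, g = c.ge i := by
  obtain ⟨z, hz, rfl⟩ := c.exists_f (c.ge_one ▸ h 1 (by norm_num))
  obtain ⟨i, hi, rfl⟩ := cent_E hz fun i hi => c.f_inj (mul_mem hz (eE_centP hi)) (mul_mem (eE_centP hi) hz) (by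
    rw [c.f_mul hz (eE_centP hi), c.f_mul (eE_centP hi) hz]
    exact h i hi)
  exact ⟨i, hi, rfl⟩

/-- An element of the normaliser of the elementary subgroup carrying the chosen involution to the central one. -/
theorem exists_norm : ∃ n : G, (∀ i < 16, ∃ j < 16, n * c.ge i * n⁻¹ = c.ge j) ∧ n * c.ge eX * n⁻¹ = c.t := by
  obtain ⟨g, hg⟩ := c.fusion
  change g * c.t * g⁻¹ = c.ge eX at hg
  -- every non-trivial element of the elementary subgroup is conjugate to the involution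
  have hconj : ∀ i < 16, c.ge i = 1 ∨ ∃ h : G, h * c.t * h⁻¹ = c.ge i := by
    intro i hi
    rcases eE_kind hi with e | e | ⟨d, hd, hde⟩
    · exact Or.inl (by rw [Ctx.ge, e, c.f_one])
    · exact Or.inr ⟨1, by rw [Ctx.ge, e, c.f_t]; group⟩
    · refine Or.inr ⟨c.f d * g, ?_⟩
      rw [show c.f d * g * c.t * (c.f d * g)⁻¹ = c.f d * (g * c.t * g⁻¹) * (c.f d)⁻¹ by group, hg, Ctx.ge, Ctx.ge,
        ← c.f_conj hd (eE_centP eX_lt), hde]
  have hlift : ∀ i < 16, ∃ z ∈ centP, c.f z = g⁻¹ * c.ge i * g := fun i hi => c.exists_f (by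
    calc g⁻¹ * c.ge i * g * c.t = g⁻¹ * (c.ge i * (g * c.t * g⁻¹)) * g := by group
      _ = g⁻¹ * (g * c.t * g⁻¹ * c.ge i) * g := by rw [hg, c.ge_comm hi eX_lt]
      _ = _ := by group)
  let B : Subgroup Pm :=
    { carrier := {z | z ∈ centP ∧ ∃ i < 16, c.f z = g⁻¹ * c.ge i * g}
      one_mem' := ⟨one_mem _, 0, by norm_num, by rw [c.f_one, c.ge_zero]; group⟩
      mul_mem' := by
        rintro a b ⟨ha, i, hi, ea⟩ ⟨hb, j, hj, eb⟩
        exact ⟨mul_mem ha hb, _, eMul_lt hi hj, by rw [c.f_mul ha hb, ea, eb, ← c.ge_mul hi hj]; group⟩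
      inv_mem' := by
        rintro a ⟨ha, i, hi, ea⟩
        refine ⟨inv_mem ha, i, hi, ?_⟩
        rw [c.f_inv ha, ea, mul_inv_rev, mul_inv_rev, inv_inv, inv_eq_of_mul_eq_one_left (c.ge_sq hi)]
        group }
  have hcard : Nat.card B = 16 := by
    choose zf hzc hzf using fun i : Fin 16 => hlift i i.2
    rw [← Nat.card_fin 16]
    refine (Nat.card_eq_of_bijective (fun i : Fin 16 => (⟨zf i, hzc i, i, i.2, hzf i⟩ : B))
      ⟨fun a b h => ?_, fun z => ?_⟩).symm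
    · have e : g⁻¹ * c.ge a * g = g⁻¹ * c.ge b * g := by rw [← hzf a, ← hzf b, show zf a = zf b from congrArg Subtype.val h]
      exact Fin.ext (c.ge_inj a.2 b.2 (mul_left_cancel (mul_right_cancel e)))
    · obtain ⟨hz, i, hi, e⟩ := z.2
      exact ⟨⟨i, hi⟩, Subtype.ext (c.f_inj (hzc _) hz ((hzf ⟨i, hi⟩).trans e.symm))⟩
  have hkind : ∀ b ∈ B, b * b = 1 ∧ (b = 1 ∨ b = tP ∨ IsX b) := by
    rintro b ⟨hb, i, hi, e⟩
    have hb2 : b * b = 1 := c.f_inj (mul_mem hb hb) (one_mem _) (by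
      rw [c.f_mul hb hb, e, c.f_one, show g⁻¹ * c.ge i * g * (g⁻¹ * c.ge i * g) = g⁻¹ * (c.ge i * c.ge i) * g by group,
        c.ge_sq hi, mul_one, inv_mul_cancel])
    refine ⟨hb2, ?_⟩
    by_cases h1 : b = 1
    · exact Or.inl h1
    rcases invol_cases hb hb2 h1 with h | h | h
    · exact Or.inr (Or.inl h)
    · exact Or.inr (Or.inr h)
    · exfalso
      rcases hconj i hi with e1 | ⟨k, hk⟩
      · exact h1 (c.f_inj hb (one_mem _) (by rw [e, e1, c.f_one]; group))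
      · exact c.not_Y (g := g⁻¹ * k) hb (by rw [e, ← hk]; group) h
  obtain ⟨d, hd, hdE⟩ := elem16 (B := B) (fun _ h => h.1) hcard hkind
    ⟨tP_centP, eX, eX_lt, by rw [c.f_t, ← hg]; group⟩
  refine ⟨c.f d * g⁻¹, fun i hi => ?_, ?_⟩
  · obtain ⟨z, hz, e⟩ := hlift i hi
    obtain ⟨j, hj, e2⟩ := hdE z ⟨hz, i, hi, e⟩
    refine ⟨j, hj, ?_⟩
    rw [show c.f d * g⁻¹ * c.ge i * (c.f d * g⁻¹)⁻¹ = c.f d * (g⁻¹ * c.ge i * g) * (c.f d)⁻¹ by group, ← e,
      ← c.f_conj hd hz, e2]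
    rfl
  · rw [← hg, show c.f d * g⁻¹ * (g * c.t * g⁻¹) * (c.f d * g⁻¹)⁻¹ = c.f d * c.t * (c.f d)⁻¹ by group, c.f_cent hd,
      mul_inv_cancel_right]

end Ctx

end Cfsg.Lib.CoThreeRecog
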