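import Cfsg.Agent.CosetCert.Sift

/-!
Generated: five involutions of the Conway group Co3 on 276 points and the subgroups they generate.
-/

set_option autoImplicit false
set_option maxRecDepth 20000
set_option maxHeartbeats 1000000
set_option linter.style.longLine false

namespace Cfsg.Lib.CoThreeRecog

open Cfsg.Lib.CosetCert Cfsg.Lib.PermCert

/-- A table. -/
def tab0 : ℕ :=
  0xb4008e006b0059010f002f005b0103004300db00e500ed00aa004f00d70008010c00580101007e009900d100e90095000f00e000f90086008700da006700b30020009a001e005c0021002a010800c8005d00ea00fd007c0026008d0109005300c500c1005f00fa007d0032000200dc010a00f600a600d8010500d600be00b70084007b00fe00a000ca007700090068004700cf007a00ec0041001100e300af00c3004c00e2008a00b000d50098007600bb001b0093006000d400a70040011300f4000600b100bf00c400ae00230066003d010700a9009e00b60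0d900140079003a000b008900d0009100a80090000e003800f200ff00bd0025008200fc009400b90069009f009d0048011200e6008c002b00c000a1001000f700f8003500d3004a0096000400800007010000df00e800d200c900a4004200ce00bc00750074005200280029002c006f002e003100560111000a009200cc00f500ac001c002200030017003000b800e1004600eb00f0010d005a011001020044006c0049005400e40073001800500106004e004d00c2003c00830055008f00cb005e00450057010b007800c700b5003f002700ab004b000d00a3001f009b0037003600850034000c00de006d0061010e006e002d0070008b00ee00710072003e00e70097002400ad006400ef00f3003900f10015006500ba0019001a005100620016001d00a50013001200c6008800fb009c003b003300a2006a00cd0104007f00b200050081006300dd00010000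

/-- A table. -/
def tab1 : ℕ :=
  0x9300b500dd009200c800c9008a010c0058006b010300fb0069010601000084010900f700c20105002b0034004c00b301080006002f00110102008d001e003200a30019003600b900c400d600ed008300a8006000dc009b001a007b006a00e0008f00c7009a00e400430072011100e90023002100d1004a002800ee00ce00d40026009800d90020000700d50078006400ae00a7010e010f00e20086004600ef00c301010068007d000f000300af00bc00bb007f00f0000c004200270112007700fc0053003300b000bd00cb009d0012008b009e00a600eb00ca00a9001c008500f3004800710039001500aa00ad008000e800e1009600d2000b0099007e0074011301100079007300e3000500f6005100ab010d00240025005b00c600a4010400ec00810082009c00ba009500c0001f00e60001009100cd00b40076006f0094009000de00a1004e00750057001b005d010a00e5010700c10013000e001d00cc005c003d003b00ea00080010006c0063008700400056010b006e00590050004f00b20002008c005500540070003000fd004900d8004b00a2002a00c50016002200df00b7002e005a002900310062002d0061003800a0003a000d00f1001400fe00b100f4003e004d00f90041003c001800ff0047003f00d700b600d30088008900db004400da00d0007c00f5006500a5006d00e700f2002c00040045009f0035006700ac00f8005e00bf0066003700b80097000a0009005f00cf00fa008e001700be0052007a0000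

/-- A table. -/
def tab2 : ℕ :=
  0x107011200af006400f0003a006a00b3010b000b00c600e301130106004c0104007900a8010100c5001b00cc00f300fa001100fc0021002c0087009c005900a400fd008900e7010f00ef00ee007e00ba00eb00ea0044000100f1008d000f0063010800be00e100b2009200da000200b9006c00de008600cf00d200b7004a00d4000300d7008f008200d80023003700fe004000ca004b009900c70109010000520081007b00830034005800e200bd003c006e00ec00dc004700d6000a00600029010c00e00061009e0111000d001a0096001e007100410102005b0070008800f40085005600270066008b00b0000700f6002d003e00c80050009700ac0006002a009300df0018001d00d1000500e60043009f008a00f200a500f700d900a3005300c100d000c30080001500ed006d007c00c200760103005a0019007a0075004f006b001000aa00a6001c00bb007d00db0073010d00310048002200a00065011000e4006200b100b5001200550036005c00a7007800f500bf002000a2005e000c008400c4002b009800740017004d010500c900d5001f006800b80039004500e9008c004200a900cb003f009a002600bc003b010e0046003800cd005d002f00c00033000e006900300035002e009b00f80051009400b4001400a1003d0016002400ce006700f90057004900ab0090006f00ff00ad00770091004e0025007f00280008005f00fb007200e5003200ae0054010a00b600090013009d0095008e000400d300dd00e80000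

/-- A table. -/
def tab3 : ℕ :=
  0x630046007300d70083008b00df00bf00d900e9004200d400e2004f0022009a00090102000200680081005b009d00c1007800f000ab00450043003600d2009e009b008900ef00fa00f100d0006a00ec006e000c010a00a000e70021000f00be00e3010700e10077010d002e00dd00ad009000da010b00c80110001f00930108007100f5007d00ee004b005c00b00069002000ba009900d800a800c60005006700bc006b00fc0034010c00e400bd00c300bb00ca005300b8000a0049008800b2004100b4006000cd007b003a00dc006600f90095005800c7003100870061003700a30040000800e8000d00f400fd000e00f3010400c900130097000100aa009400d5007e003500db005e0048001e0070010e008a00f200b500a60086003b001a010f008200ff0080007f009200d1002a00af0004007900fb00e00076007500740111004400d3008c006f00eb0055002800c200ed00cc010000c400ac006500590113002b00a500b10024008f003200ce00fe0025006400a900560057006d005400b9004c0051002701060018001c005200cf004a00b6008e0038011200f8007200f7010900b300a20026003e003d001b008500ae0039004700a400f6009100c00033005d00a70015001700de0007002c0062007c0019006c0050003f005a005f0023010500e600cb00d6008d0014004d003c00840029004e002f00110030001d009800120016000b00e5009c009f00ea001000b7010300a1002d000300c5007a0006010100960000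

/-- A table. -/
def tab4 : ℕ :=
  0x1b011200f0009a00990049010a008f00bc010d009f010300ef000c009800d701080080005b00f4005f0002001800f200480073001900d200af00c00045010000e800fc00e20111010700d6009100750026004f00df00f30023005d000f00ba003900f10012002700e9005c0051009300a9008600c3008c010400ee00ad0009009c00f80066001f008d002e004d00c700ae00be0083007000cc00c60015008700d90003008900f6005e00ca003e010b002c00e400640094005a008b00470095007200aa00b1001c00f700cb00d5007d002900b200db006900310067007c00a2007900a4004c009b01090068004e00d300a00110010f01050097001700b400b800dc006c00ed0058010c007800cf00d800b6007600c1003800c400da0085007a00c9007f002401020082002800ac00a50043008400a3008e0050008a00ec000000fa00b3000e00c8006f003f000700920006003500a8009e00a600d1006500b9003c002b002a006000ff00bf00e600de010100b70053009000560057002d00330059000800dd007700ea009d00cd00a1001e003d010e00fb00b5004600f50041007b000d00440037006e00bd004a0063003b002000e3008800400034006a00360054002100a70005000100ce005500bb0062006100ab007e00e000eb000a008100e700130032003a00d0004b001000b00113000400f900fd0096001600c5000b002200e10011001d00e50071004201060014002500d40052006d006b0030001a00c200fe002f0074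

/-- The five involutions. -/
def letTabs : List PP :=
  [(tab0, tab0), (tab1, tab1), (tab2, tab2), (tab3, tab3), (tab4, tab4)]

/-- Part of a table. -/
def lowWordsPart0 : List (List ℕ) :=
  [[0, 3, 2, 1, 3, 1, 3, 1, 3, 1, 2, 1, 3, 1, 3, 1, 3, 1, 3, 0, 2, 0, 1, 0, 3, 0, 1, 0, 2, 0, 3, 1, 2, 1, 3, 1, 3, 1, 3, 1, 2, 1, 3, 1, 3, 1, 3, 1, 3, 0, 2, 0, 1, 0, 3, 0, 1, 0, 2, 0, 3, 1, 3, 2, 1, 3, 0, 2, 1, 2, 3, 0, 2, 1, 3, 2, 1, 2, 3, 2, 3, 1, 2, 1, 3, 2, 3, 2, 1, 2, 3, 1, 0, 1, 2, 1, 0, 1, 3, 2, 1, 2, 3, 2, 3, 1, 2, 1, 3, 2, 3, 2, 1, 2, 3, 1, 0, 2, 1, 3, 0, 2, 1, 2, 3, 0, 2, 0, 3, 2, 1, 3, 1, 3, 1, 3, 1, 2, 1, 3, 1, 3, 1, 3, 1, 3, 0, 2, 0, 2, 1, 3, 2, 1, 2, 3, 2, 3, 1, 2, 1, 3, 2, 3, 2, 1, 2, 0, 1, 2, 1, 0, 3, 1, 0, 1, 3, 2, 1, 3, 2, 3, 2, 0, 3, 2, 0, 1, 2, 1, 3, 2, 1, 3, 1, 3, 1, 3, 1, 2, 1, 3, 1, 3, 1, 3, 1, 3, 0,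 2, 0, 2, 0, 2, 1, 3, 0, 2, 1, 2, 3, 0, 1, 3, 2, 0]]

/-- Part of a table. -/
def lowWordsPart1 : List (List ℕ) :=
  [[0, 3, 2, 1, 3, 1, 3, 1, 3, 1, 2, 1, 3, 1, 3, 1, 3, 1, 3, 0, 1, 3, 0, 1, 2, 1, 0, 3, 1, 0, 1, 3, 2, 1, 3, 2, 3, 2, 0, 3, 2, 1, 3, 0, 1, 2, 1, 0, 3, 1, 0, 1, 3, 2, 1, 3, 2, 3, 2, 0, 3, 0, 1, 0, 3, 0, 1, 0, 2, 0, 3, 1, 3, 0, 1, 3, 2, 1, 2, 3, 2, 3, 1, 2, 1, 3, 2, 3, 2, 1, 2, 3, 1, 2, 1, 0, 3, 0, 2, 1, 0, 1, 2, 0, 3, 0, 3, 2, 1, 2, 1, 3, 0, 1, 2, 1, 0, 3, 1, 0, 1, 3, 2, 1, 3, 2, 3, 2, 0, 3, 2, 0, 2, 1, 3, 0, 2, 1, 2, 3, 0, 2, 1, 3, 0, 1, 2, 1, 0, 3, 1, 0, 1, 3, 2, 1, 3, 2, 3, 2, 0, 3, 2, 0, 2, 1, 3, 0, 2, 1, 2, 3, 0, 2, 0, 2, 1, 3, 0, 2, 1, 2, 3, 0, 2, 0, 1, 2, 1, 0, 1, 3, 2, 1, 2, 3, 2, 3, 1, 2, 1, 3, 2, 3, 2, 1, 2, 3, 1, 0, 2, 1, 3, 0, 2, 1, 2, 3, 2, 0, 3, 2, 1, 3, 1, 3, 1, 3, 1, 2, 1, 3, 1, 3,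 1, 3, 1, 3, 0, 1, 3, 0, 1, 2, 1, 0, 3, 1, 0, 1, 3, 2, 1, 3, 2, 3, 2, 0, 3, 0, 2, 0, 3, 2, 1, 3, 1, 3, 1, 3, 1, 2, 1, 3, 1, 3, 1, 3, 1, 3, 0, 1, 3, 0, 1, 2, 1, 0, 3, 1, 0, 1, 3, 2, 1, 3, 2, 3, 2, 0, 3, 2, 1, 0, 2, 1, 2, 0]]

/-- Part of a table. -/
def lowWordsPart2 : List (List ℕ) :=
  [[1, 3, 2, 1, 2, 3, 2, 3, 1, 2, 1, 3, 2, 3, 2, 1, 2, 3, 1, 2, 0, 1, 0, 3, 0, 1, 0, 2, 0, 3, 1, 3, 0, 1, 3, 2, 1, 2, 3, 2, 3, 1, 2, 1, 3, 2, 3, 2, 1, 2, 0, 1, 2, 1, 0, 3, 1, 0, 1, 3, 2, 1, 3, 2, 3, 2, 0, 3, 2, 1, 3, 0, 1, 2, 1, 0, 3, 1, 0, 1, 3, 2, 1, 3, 2, 3, 2, 0, 3, 1, 0, 3, 0, 2, 1, 0, 1, 2, 0, 3, 0, 3, 2, 1, 2, 0, 2, 1, 3, 0, 2, 1, 2, 3, 0, 2, 1, 3, 0, 1, 2, 1, 0, 3, 1, 0, 1, 3, 2, 1, 3, 2, 3, 2, 0, 3, 2, 0, 1, 2, 1, 0, 1, 3, 0, 1, 2, 1, 0, 3, 1, 0, 1, 3, 2, 1, 3, 2, 3, 2, 0, 3, 1, 0, 3, 0, 2, 1, 0, 1, 2, 0, 3, 0, 3, 2, 1,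 2, 0, 3, 2, 1, 3, 1, 3, 1, 3, 1, 2, 1, 3, 1, 3, 1, 3, 1, 3, 0, 2, 0, 2, 1, 3, 2, 1, 2, 3, 2, 3, 1, 2, 1, 3, 2, 3, 2, 1, 2, 0, 1, 2, 1, 0, 3, 1, 0, 1, 3, 2, 1, 3, 2, 3, 2, 0, 3, 2, 0, 1, 2, 1, 0, 2, 0, 2, 0, 2, 1, 3, 0, 2, 1, 2, 3, 0, 2, 1, 3, 2, 1, 2, 3, 2, 3, 1, 2, 1, 3, 2, 3, 2, 1, 2, 3, 1, 0, 1, 0, 3]]

/-- Part of a table. -/
def lowWordsPart3 : List (List ℕ) :=
  [[1, 3, 2, 1, 2, 3, 2, 3, 1, 2, 1, 3, 2, 3, 2, 1, 2, 3, 1, 2, 0, 1, 0, 3, 0, 1, 0, 2, 0, 3, 1, 3, 0, 2, 1, 0, 3, 0, 2, 1, 0, 1, 2, 0, 3, 0, 3, 2, 1, 2, 0, 3, 2, 1, 3, 1, 3, 1, 3, 1, 2, 1, 3, 1, 3, 1, 3, 1, 3, 2, 1, 3, 0, 2, 1, 2, 3, 0, 2, 0, 3, 2, 1, 3, 1, 3, 1, 3, 1, 2, 1, 3, 1, 3, 1, 3, 1, 3, 0, 2, 1, 0, 3, 0, 2, 1, 0, 1, 2, 0, 3, 0, 3, 2, 1, 2, 1, 3, 0, 1, 2, 1, 0, 3, 1, 0, 1, 3, 2, 1, 3, 2, 3, 2, 0, 3, 2, 0, 1, 2, 1, 3, 2, 1, 3, 1, 3, 1, 3,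 1, 2, 1, 3, 1, 3, 1, 3, 1, 3, 2, 1, 3, 0, 2, 1, 2, 3, 0, 2, 1, 3, 0, 1, 2, 1, 0, 3, 1, 0, 1, 3, 2, 1, 3, 2, 3, 2, 0, 3, 2, 0, 1, 2, 1, 0, 2, 0, 1, 0, 3, 0, 1, 0, 2, 0, 3, 1, 3, 0, 2, 0, 2, 1, 3, 2, 1, 2, 3, 2, 3, 1, 2, 1, 3, 2, 3, 2, 1, 2, 0, 1, 2, 1, 0, 3, 1, 0, 1, 3, 2, 1, 3, 2, 3, 2, 0, 3, 2, 0, 1, 2, 1, 3, 2, 1, 3, 1, 3, 1, 3, 1, 2, 1, 3, 1, 3, 1, 3, 1, 3, 0, 2, 0, 2, 0, 2, 1, 3, 0, 2, 1, 2, 3, 0, 1, 3, 2, 0]]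

/-- Part of a table. -/
def lowWordsPart4 : List (List ℕ) :=
  [[0, 3, 2, 1, 3, 1, 3, 1, 3, 1, 2, 1, 3, 1, 3, 1, 3, 1, 3, 0, 2, 1, 0, 3, 0, 2, 1, 0, 1, 2, 0, 3, 0, 3, 2, 0, 3, 0, 2, 1, 0, 1, 2, 0, 3, 0, 3, 2, 1, 2, 0, 2, 1, 3, 0, 2, 1, 2, 3, 1, 0, 3, 0, 1, 0, 2, 0, 3, 1, 2, 1, 3, 1, 3, 1, 3, 1, 2, 1, 3, 1, 3, 1, 3, 1, 3, 0, 1, 3, 0, 1, 2, 1, 0, 3, 1, 0, 1, 3, 2, 1, 3, 2, 3, 2, 0, 3, 2, 0, 1, 2, 1, 3, 2, 1, 3, 1, 3, 1, 3, 1, 2, 1, 3, 1, 3, 1, 3, 1, 3, 2, 1, 3, 0, 2, 1, 2, 3, 0, 2, 1, 3, 0, 1, 2, 1, 0, 3, 1, 0, 1, 3, 2, 1, 3, 2, 3, 2, 0, 3, 2, 0, 1, 2, 1, 0, 2, 0, 2, 1, 3, 2, 1, 2, 3, 2, 3, 1, 2, 1, 3, 2, 3, 2, 1, 2, 0, 1, 2, 1, 0, 3, 1, 0, 1, 3, 2, 1, 3, 2, 3, 2, 0, 3, 2, 1, 3, 0, 1, 2, 1, 0, 3, 1, 0, 1, 3, 2, 1, 3, 2, 3, 2, 0, 3, 2, 1, 3, 2, 3, 1]]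

/-- The five involutions as words in the involutions of the model. -/
def lowWords : List (List ℕ) :=
  (lowWordsPart0 ++ lowWordsPart1 ++ lowWordsPart2 ++ lowWordsPart3 ++ lowWordsPart4)

/-- Words for the elementary subgroup. -/
def eWords : List (List ℕ) :=
  [[], [1, 2, 1, 2, 1, 2, 1, 2], [0, 4, 1, 0, 1, 4], [0, 2, 1, 0, 1, 4, 0, 4, 2, 0], [2, 1, 0, 1, 4, 0, 4, 2],
   [0, 2, 4, 2, 4, 2, 4, 2, 1, 0, 1, 4], [2, 0, 4, 1, 0, 1, 4, 2], [2, 0, 1, 0, 1, 4, 0, 4, 0, 2], [0, 4, 2, 0, 4, 1, 0, 1, 4, 2, 4, 0],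
   [4, 2, 1, 0, 1, 4, 0, 4, 2, 4], [1, 0, 1, 4, 0, 4], [0, 1, 0, 1, 4, 0, 4, 0], [0, 4, 1, 0, 1, 2, 4, 2, 4, 2, 4, 2],
   [2, 4, 2, 4, 2, 4, 2, 4], [4, 2, 0, 4, 1, 0, 1, 4, 2, 4], [0, 2, 0, 1, 0, 1, 4, 0, 4, 0, 2, 0]]

/-- Multiplication in the elementary subgroup. -/
def eMul : List (List ℕ) :=
  [[0, 1, 2, 3, 4, 5, 6, 7, 8, 9, 10, 11, 12, 13, 14, 15], [1, 0, 9, 11, 10, 13, 12, 15, 14, 2, 4, 3, 6, 5, 8, 7],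
   [2, 9, 0, 4, 3, 6, 5, 8, 7, 1, 11, 10, 13, 12, 15, 14], [3, 11, 4, 0, 2, 7, 8, 5, 6, 10, 9, 1, 14, 15, 12, 13],
   [4, 10, 3, 2, 0, 8, 7, 6, 5, 11, 1, 9, 15, 14, 13, 12], [5, 13, 6, 7, 8, 0, 2, 3, 4, 12, 14, 15, 9, 1, 10, 11],
   [6, 12, 5, 8, 7, 2, 0, 4, 3, 13, 15, 14, 1, 9, 11, 10], [7, 15, 8, 5, 6, 3, 4, 0, 2, 14, 12, 13, 10, 11, 9, 1],
   [8, 14, 7, 6, 5, 4, 3, 2, 0, 15, 13, 12, 11, 10, 1, 9], [9, 2, 1, 10, 11, 12, 13, 14, 15, 0, 3, 4, 5, 6, 7, 8],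
   [10, 4, 11, 9, 1, 14, 15, 12, 13, 3, 0, 2, 7, 8, 5, 6], [11, 3, 10, 1, 9, 15, 14, 13, 12, 4, 2, 0, 8, 7, 6, 5],
   [12, 6, 13, 14, 15, 9, 1, 10, 11, 5, 7, 8, 0, 2, 3, 4], [13, 5, 12, 15, 14, 1, 9, 11, 10, 6, 8, 7, 2, 0, 4, 3],
   [14, 8, 15, 12, 13, 10, 11, 9, 1, 7, 5, 6, 3, 4, 0, 2], [15, 7, 14, 13, 12, 11, 10, 1, 9, 8, 6, 5, 4, 3, 2, 0]]

/-- Action of the letters on the elementary subgroup. -/
def eAct : List (List ℕ) :=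
  [[0, 1, 2, 4, 3, 12, 13, 15, 14, 9, 11, 10, 5, 6, 8, 7], [0, 1, 2, 3, 4, 5, 6, 7, 8, 9, 10, 11, 12, 13, 14, 15],
   [0, 1, 6, 15, 10, 5, 2, 11, 14, 12, 4, 7, 9, 13, 8, 3], [0, 7, 10, 13, 8, 5, 14, 1, 4, 12, 2, 11, 9, 3, 6, 15],
   [0, 1, 10, 3, 9, 5, 14, 7, 12, 4, 2, 11, 8, 13, 6, 15]]

/-- Each element as a product of the basis. -/
def eSpan : List (List ℕ) :=
  [[], [1], [2], [3], [2, 3], [5], [2, 5], [3, 5], [2, 3, 5], [1, 2], [1, 2, 3], [1, 3], [1, 2, 5], [1, 5], [1, 2, 3, 5], [1, 3, 5]]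

/-- A basis. -/
def eBasis : List ℕ :=
  [1, 2, 3, 5]

/-- Involutions over involutions of the linear group. -/
def invLifts : List (List ℕ × List ℕ) :=
  [([0, 1, 2, 4, 3, 12, 13, 15, 14, 9, 11, 10, 5, 6, 8, 7], [0]),
   ([0, 1, 2, 4, 3, 13, 12, 14, 15, 9, 11, 10, 6, 5, 7, 8], [2, 0, 4, 2, 4, 0, 2]),
   ([0, 1, 2, 10, 11, 6, 5, 15, 14, 9, 3, 4, 13, 12, 8, 7], [1, 4, 1, 4, 0, 4, 1, 4, 1]),
   ([0, 1, 2, 10, 11, 13, 12, 8, 7, 9, 3, 4, 6, 5, 15, 14], [0, 4, 2, 4, 0, 4, 2, 4]),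
   ([0, 1, 2, 11, 10, 6, 5, 14, 15, 9, 4, 3, 13, 12, 7, 8], [4, 2, 4, 0, 4, 2, 4]),
   ([0, 1, 2, 11, 10, 12, 13, 8, 7, 9, 4, 3, 5, 6, 15, 14], [2, 4, 1, 4, 0, 4, 1, 4, 2]),
   ([0, 1, 3, 2, 4, 13, 15, 12, 14, 11, 10, 9, 7, 5, 8, 6], [2, 4, 0, 4, 2, 4, 0, 4]),
   ([0, 1, 3, 2, 4, 14, 12, 15, 13, 11, 10, 9, 6, 8, 5, 7], [4, 1, 4, 1, 4, 0, 4, 1, 4, 1, 4]),
   ([0, 1, 4, 3, 2, 13, 14, 15, 12, 10, 9, 11, 8, 5, 6, 7], [2, 4, 2, 0, 4, 0, 4, 0, 2, 4, 2]),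
   ([0, 1, 4, 3, 2, 15, 12, 13, 14, 10, 9, 11, 6, 7, 8, 5], [2, 0, 1, 4, 0, 4, 1, 2]),
   ([0, 1, 5, 11, 15, 2, 6, 10, 14, 13, 7, 3, 12, 9, 8, 4], [4, 2, 1, 4, 0, 4, 1, 2, 4]),
   ([0, 1, 5, 14, 10, 2, 6, 15, 11, 13, 4, 8, 12, 9, 3, 7], [1, 4, 1, 0, 1, 4, 1]),
   ([0, 1, 6, 11, 14, 5, 2, 15, 10, 12, 8, 3, 9, 13, 4, 7], [0, 4, 1, 4, 0, 4, 1, 4, 0]),
   ([0, 1, 6, 15, 10, 5, 2, 11, 14, 12, 4, 7, 9, 13, 8, 3], [2]),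
   ([0, 1, 7, 11, 13, 10, 12, 2, 8, 15, 5, 3, 6, 4, 14, 9], [2, 1, 4, 0, 4, 1, 2]),
   ([0, 1, 7, 12, 10, 13, 11, 2, 8, 15, 4, 6, 3, 5, 14, 9], [0, 4, 0, 2, 0, 4, 0]),
   ([0, 1, 8, 11, 12, 13, 10, 7, 2, 14, 6, 3, 4, 5, 9, 15], [4, 2, 0, 4, 0, 4, 0, 2, 4]),
   ([0, 1, 8, 13, 10, 11, 12, 7, 2, 14, 4, 5, 6, 3, 9, 15], [1, 0, 4, 1, 0, 1, 4, 1]),
   ([0, 1, 9, 3, 10, 7, 14, 5, 12, 2, 4, 11, 8, 15, 6, 13], [0, 2, 1, 0, 1, 2, 0]),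
   ([0, 1, 9, 3, 10, 15, 8, 13, 6, 2, 4, 11, 14, 7, 12, 5], [2, 4, 0, 1, 4, 0, 4, 1, 4, 2]),
   ([0, 1, 9, 5, 12, 3, 10, 7, 14, 2, 6, 13, 4, 11, 8, 15], [0, 1, 4, 0, 4, 1]),
   ([0, 1, 9, 6, 13, 10, 3, 15, 8, 2, 5, 12, 11, 4, 14, 7], [2, 4, 0, 2, 0, 4, 2]),
   ([0, 1, 9, 7, 14, 5, 12, 3, 10, 2, 8, 15, 6, 13, 4, 11], [1, 0, 4, 0, 4, 0, 1, 2]),
   ([0, 1, 9, 8, 15, 13, 6, 10, 3, 2, 7, 14, 12, 5, 11, 4], [1, 0, 1, 0, 2, 0, 1, 0, 1]),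
   ([0, 1, 9, 11, 4, 8, 15, 12, 5, 2, 10, 3, 7, 14, 13, 6], [4, 2, 4, 1, 4, 0, 4, 1, 4, 2, 4]),
   ([0, 1, 9, 11, 4, 14, 7, 6, 13, 2, 10, 3, 15, 8, 5, 12], [2, 1, 0, 1, 2]),
   ([0, 1, 9, 12, 5, 4, 11, 15, 8, 2, 13, 6, 3, 10, 14, 7], [1, 4, 0, 4, 1]),
   ([0, 1, 9, 13, 6, 11, 4, 7, 14, 2, 12, 5, 10, 3, 8, 15], [0, 2, 4, 0, 2, 0, 4, 2]),
   ([0, 1, 9, 14, 7, 13, 6, 4, 11, 2, 15, 8, 12, 5, 3, 10], [0, 4, 2, 4, 0]),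
   ([0, 1, 9, 15, 8, 5, 12, 11, 4, 2, 14, 7, 6, 13, 10, 3], [4, 2, 4]),
   ([0, 1, 10, 3, 9, 7, 12, 5, 14, 4, 2, 11, 6, 15, 8, 13], [0, 2, 0, 4, 0, 2, 0, 4]),
   ([0, 1, 10, 3, 9, 13, 8, 15, 6, 4, 2, 11, 14, 5, 12, 7], [0, 4, 0, 4, 0]),
   ([0, 1, 11, 9, 4, 8, 12, 15, 5, 3, 10, 2, 6, 14, 13, 7], [4, 0, 4]),
   ([0, 1, 11, 9, 4, 13, 7, 6, 14, 3, 10, 2, 15, 5, 8, 12], [0, 4, 0, 2, 0, 4, 0, 2]),
   ([0, 1, 12, 7, 10, 5, 9, 3, 14, 6, 4, 15, 2, 13, 8, 11], [4, 1, 0, 4, 0, 4, 0, 1, 2, 4]),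
   ([0, 1, 12, 11, 8, 5, 9, 15, 4, 6, 14, 3, 2, 13, 10, 7], [1, 0, 4, 0, 4, 0, 1]),
   ([0, 1, 13, 8, 10, 9, 6, 15, 3, 5, 4, 14, 12, 2, 11, 7], [4, 1, 4, 0, 4, 1, 4]),
   ([0, 1, 13, 11, 7, 9, 6, 4, 14, 5, 15, 3, 12, 2, 8, 10], [0, 2, 0]),
   ([0, 1, 14, 5, 10, 3, 12, 7, 9, 8, 4, 13, 6, 11, 2, 15], [4, 0, 1, 4, 0, 4, 1, 4]),
   ([0, 1, 14, 11, 6, 13, 4, 7, 9, 8, 12, 3, 10, 5, 2, 15], [2, 0, 1, 0, 1, 0, 2]),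
   ([0, 1, 15, 6, 10, 13, 3, 9, 8, 7, 4, 12, 11, 5, 14, 2], [1, 0, 1, 2, 1, 0, 1]),
   ([0, 1, 15, 11, 5, 4, 12, 9, 8, 7, 13, 3, 6, 10, 14, 2], [4, 0, 2, 0, 4])]

/-- Generators of the intersection. -/
def gWords : List (List ℕ) :=
  [[1, 0, 1, 0], [2, 0, 1, 0, 1, 0, 2], [1, 2, 1, 2, 1, 2, 1, 2], [4]]

/-- Their inverses. -/
def iWords : List (List ℕ) :=
  [[0, 1, 0, 1], [0, 2, 0, 1, 0, 1, 2, 1, 0, 1, 0, 2], [2, 1, 2, 0, 1, 0, 1, 0, 2, 1, 2], [4]]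

/-- Targets of the conjugated generators. -/
def tgt : List (List ℕ) :=
  [[0, 0], [0, 0, 1, 0], [0, 1, 3, 0, 3, 0, 1, 3, 0, 3], [3]]

/-- Relations for the filter. -/
def stages : List (List (List ℕ × List ℕ)) :=
  [[([0, 0, 0], [])], [([1, 1], []), ([0, 1, 0, 1], [1, 0, 0])], [([2, 0], [0, 2])], [([3, 1, 3, 1, 3], [1, 2, 3, 1])]]

/-- Normal forms. -/
def normTable : List (List ℕ × ℕ × List ℕ × ℕ) :=
  [([0, 0, 0, 0], 0, [0, 0, 0, 0], 0), ([0, 0, 0, 15], 0, [0, 0, 0, 0], 15), ([2, 7, 0, 0], 5, [10, 1, 0, 0], 0),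
   ([2, 7, 0, 15], 5, [10, 1, 0, 0], 15)]

/-- Relations between the two local subgroups. -/
def relV : List (List ℕ × List ℕ × List ℕ) :=
  [([0, 2, 0, 1, 0, 1, 4, 0, 4, 0, 2, 0], [6, 8], [6, 8]), ([0, 1, 0, 1, 4, 0, 4, 0], [2, 5, 6], [0, 1, 0, 0]),
   ([2, 0, 4, 1, 0, 1, 4, 2], [2, 8], [0, 0, 1, 0, 6, 8]), ([0, 4, 1, 0, 1, 2, 4, 2, 4, 2, 4, 2], [8], [0, 0, 1, 8, 0, 5]),
   ([0, 1, 2, 0, 4, 1, 0, 1, 4, 2, 1, 0], [0, 0, 1, 8, 0, 5], [8])]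

/-- Generators of a level. -/
def chainT0Gens : List (List ℕ) :=
  [[0], [1], [2], [3]]

/-- Part of a table. -/
def chainT0OrbPart0 : List (ℕ × ℕ × ℕ) :=
  [(113, 79, 0), (114, 79, 1), (22, 79, 2), (102, 79, 3), (59, 113, 1), (225, 113, 2), (70, 113, 3), (179, 114, 0), (40, 114, 2),
   (145, 114, 3), (171, 22, 1), (272, 22, 3), (219, 102, 0), (194, 102, 1), (94, 102, 2), (198, 59, 0), (72, 59, 3), (8, 225, 0),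
   (58, 225, 1), (117, 225, 3), (111, 70, 0), (99, 70, 1), (147, 70, 2), (35, 179, 1), (68, 179, 2), (83, 179, 3), (43, 40, 0),
   (220, 40, 1), (265, 40, 3), (246, 145, 0), (63, 145, 2), (222, 171, 0), (270, 171, 2), (247, 171, 3), (137, 272, 0), (216, 272, 2),
   (167, 219, 1), (241, 219, 2), (30, 219, 3), (76, 194, 0), (173, 194, 2), (203, 194, 3), (81, 94, 1), (152, 94, 3), (21, 198, 1),
   (116, 198, 3), (77, 72, 0), (9, 72, 2), (101, 8, 2), (236, 8, 3), (242, 58, 0), (126, 58, 2), (112, 58, 3), (134, 117, 0),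
   (158, 117, 1), (251, 111, 1), (64, 111, 3), (89, 99, 0), (142, 99, 2), (257, 99, 3)]

/-- Part of a table. -/
def chainT0OrbPart1 : List (ℕ × ℕ × ℕ) :=
  [(202, 147, 1), (26, 147, 3), (107, 35, 0), (146, 35, 2), (233, 35, 3), (212, 68, 0), (66, 68, 1), (239, 68, 3), (60, 83, 0),
   (15, 83, 2), (245, 43, 3), (193, 220, 2), (230, 220, 3), (248, 265, 2), (159, 246, 1), (98, 246, 2), (104, 246, 3), (170, 63, 0),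
   (27, 63, 1), (103, 63, 3), (255, 222, 1), (82, 222, 2), (48, 222, 3), (118, 270, 0), (67, 270, 3), (120, 247, 0), (240, 247, 2),
   (144, 137, 1), (157, 137, 2), (28, 216, 0), (23, 167, 0), (187, 167, 3), (121, 241, 0), (37, 241, 1), (206, 241, 3), (165, 30, 0),
   (208, 30, 1), (42, 76, 1), (105, 76, 2), (150, 76, 3), (51, 173, 0), (223, 173, 1), (75, 173, 3), (47, 203, 2), (153, 81, 0),
   (24, 81, 2), (164, 81, 3), (266, 152, 0), (62, 152, 1), (221, 152, 2), (34, 21, 3), (65, 9, 0), (132, 9, 1), (195, 101, 3),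
   (218, 236, 0), (50, 236, 2), (174, 242, 1), (205, 126, 3), (192, 251, 2), (238, 251, 3)]

/-- Part of a table. -/
def chainT0OrbPart2 : List (ℕ × ℕ × ℕ) :=
  [(197, 64, 2), (175, 142, 0), (181, 142, 1), (227, 257, 0), (38, 257, 2), (143, 202, 3), (86, 26, 1), (25, 26, 2), (87, 107, 2),
   (269, 107, 3), (1, 146, 0), (273, 146, 3), (97, 233, 0), (151, 233, 1), (95, 212, 1), (19, 212, 3), (10, 66, 0), (213, 66, 2),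
   (185, 66, 3), (226, 239, 1), (2, 239, 2), (267, 60, 1), (39, 60, 2), (260, 60, 3), (199, 15, 0), (155, 15, 1), (54, 15, 3),
   (148, 245, 0), (200, 245, 1), (57, 245, 2), (154, 193, 0), (61, 193, 3), (131, 230, 0), (29, 159, 3), (52, 98, 1), (210, 98, 3),
   (44, 104, 0), (55, 104, 1), (184, 170, 1), (237, 170, 3), (149, 27, 0), (234, 103, 1), (130, 103, 2), (123, 255, 2), (129, 255, 3),
   (18, 82, 0), (11, 82, 1), (201, 82, 3), (16, 48, 0), (136, 48, 1), (14, 118, 2), (183, 67, 0), (250, 120, 1), (6, 120, 2),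
   (262, 240, 0), (125, 240, 1), (74, 144, 0), (53, 144, 2), (141, 144, 3), (214, 157, 1)]

/-- Part of a table. -/
def chainT0OrbPart3 : List (ℕ × ℕ × ℕ) :=
  [(88, 23, 1), (122, 23, 2), (189, 23, 3), (41, 187, 1), (13, 37, 0), (92, 37, 2), (176, 37, 3), (235, 206, 0), (4, 206, 1),
   (259, 206, 2), (254, 165, 3), (93, 42, 2), (69, 42, 3), (217, 105, 1), (49, 150, 0), (33, 150, 1), (31, 150, 2), (182, 51, 1),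
   (168, 51, 2), (124, 75, 0), (17, 75, 1), (108, 47, 0), (231, 47, 3), (56, 24, 0), (78, 24, 3), (20, 164, 0), (253, 266, 2),
   (162, 62, 2), (188, 62, 3), (271, 221, 0), (90, 221, 1), (71, 34, 0), (263, 34, 2), (80, 132, 0), (191, 132, 3), (127, 195, 2),
   (190, 218, 1), (232, 218, 3), (258, 50, 0), (46, 205, 1), (166, 205, 2), (5, 192, 3), (12, 238, 1), (274, 175, 1), (186, 181, 2),
   (180, 227, 1), (209, 227, 3), (100, 25, 0), (73, 25, 1), (215, 25, 3), (261, 269, 0), (139, 1, 2), (243, 273, 1), (244, 273, 2),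
   (249, 97, 2), (135, 151, 2), (160, 95, 0), (224, 95, 3), (84, 213, 0), (138, 213, 1)]

/-- Part of a table. -/
def chainT0OrbPart4 : List (ℕ × ℕ × ℕ) :=
  [(172, 185, 2), (163, 226, 0), (204, 226, 3), (229, 267, 2), (207, 199, 3), (256, 155, 3), (252, 148, 3), (115, 200, 2), (91, 57, 0),
   (178, 57, 1), (7, 61, 1), (36, 44, 2), (268, 237, 2), (45, 130, 1), (140, 129, 1), (32, 129, 2), (0, 16, 2), (275, 136, 3),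
   (196, 53, 0), (264, 53, 1), (119, 122, 0), (96, 235, 3), (133, 93, 3), (128, 33, 0), (110, 182, 3), (3, 17, 3), (177, 190, 3),
   (228, 232, 0), (161, 258, 1), (169, 46, 3), (156, 209, 1), (85, 244, 1), (106, 244, 3), (211, 115, 1), (109, 7, 0)]

/-- The orbit of a level. -/
def chainT0Orb : List (ℕ × ℕ × ℕ) :=
  (chainT0OrbPart0 ++ chainT0OrbPart1 ++ chainT0OrbPart2 ++ chainT0OrbPart3 ++ chainT0OrbPart4)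

/-- Part of a table. -/
def chainT0IdxPart0 : List (ℕ × List ℕ) :=
  [(79, []), (113, [0]), (114, [1]), (22, [2]), (102, [3]), (59, [0, 1]), (225, [0, 2]), (70, [0, 3]), (179, [1, 0]), (40, [1, 2]),
   (145, [1, 3]), (171, [2, 1]), (272, [2, 3]), (219, [3, 0]), (194, [3, 1]), (94, [3, 2]), (198, [0, 1, 0]), (72, [0, 1, 3]),
   (8, [0, 2, 0]), (58, [0, 2, 1]), (117, [0, 2, 3]), (111, [0, 3, 0]), (99, [0, 3, 1]), (147, [0, 3, 2]), (35, [1, 0, 1]),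
   (68, [1, 0, 2]), (83, [1, 0, 3]), (43, [1, 2, 0]), (220, [1, 2, 1]), (265, [1, 2, 3]), (246, [1, 3, 0]), (63, [1, 3, 2]),
   (222, [2, 1, 0]), (270, [2, 1, 2]), (247, [2, 1, 3]), (137, [2, 3, 0]), (216, [2, 3, 2]), (167, [3, 0, 1]), (241, [3, 0, 2]),
   (30, [3, 0, 3]), (76, [3, 1, 0]), (173, [3, 1, 2]), (203, [3, 1, 3]), (81, [3, 2, 1]), (152, [3, 2, 3]), (21, [0, 1, 0, 1]),
   (116, [0, 1, 0, 3]), (77, [0, 1, 3, 0]), (9, [0, 1, 3, 2]), (101, [0, 2, 0, 2]), (236, [0, 2, 0, 3]), (242, [0, 2, 1, 0]),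
   (126, [0, 2, 1, 2]), (112, [0, 2, 1, 3]), (134, [0, 2, 3, 0]), (158, [0, 2, 3, 1]), (251, [0, 3, 0, 1]), (64, [0, 3, 0, 3]),
   (89, [0, 3, 1, 0]), (142, [0, 3, 1, 2])]

/-- Part of a table. -/
def chainT0IdxPart1 : List (ℕ × List ℕ) :=
  [(257, [0, 3, 1, 3]), (202, [0, 3, 2, 1]), (26, [0, 3, 2, 3]), (107, [1, 0, 1, 0]), (146, [1, 0, 1, 2]), (233, [1, 0, 1, 3]),
   (212, [1, 0, 2, 0]), (66, [1, 0, 2, 1]), (239, [1, 0, 2, 3]), (60, [1, 0, 3, 0]), (15, [1, 0, 3, 2]), (245, [1, 2, 0, 3]),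
   (193, [1, 2, 1, 2]), (230, [1, 2, 1, 3]), (248, [1, 2, 3, 2]), (159, [1, 3, 0, 1]), (98, [1, 3, 0, 2]), (104, [1, 3, 0, 3]),
   (170, [1, 3, 2, 0]), (27, [1, 3, 2, 1]), (103, [1, 3, 2, 3]), (255, [2, 1, 0, 1]), (82, [2, 1, 0, 2]), (48, [2, 1, 0, 3]),
   (118, [2, 1, 2, 0]), (67, [2, 1, 2, 3]), (120, [2, 1, 3, 0]), (240, [2, 1, 3, 2]), (144, [2, 3, 0, 1]), (157, [2, 3, 0, 2]),
   (28, [2, 3, 2, 0]), (23, [3, 0, 1, 0]), (187, [3, 0, 1, 3]), (121, [3, 0, 2, 0]), (37, [3, 0, 2, 1]), (206, [3, 0, 2, 3]),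
   (165, [3, 0, 3, 0]), (208, [3, 0, 3, 1]), (42, [3, 1, 0, 1]), (105, [3, 1, 0, 2]), (150, [3, 1, 0, 3]), (51, [3, 1, 2, 0]),
   (223, [3, 1, 2, 1]), (75, [3, 1, 2, 3]), (47, [3, 1, 3, 2]), (153, [3, 2, 1, 0]), (24, [3, 2, 1, 2]), (164, [3, 2, 1, 3]),
   (266, [3, 2, 3, 0]), (62, [3, 2, 3, 1]), (221, [3, 2, 3, 2]), (34, [0, 1, 0, 1, 3]), (65, [0, 1, 3, 2, 0]), (132, [0, 1, 3, 2, 1]),
   (195, [0, 2, 0, 2, 3]), (218, [0, 2, 0, 3, 0]), (50, [0, 2, 0, 3, 2]), (174, [0, 2, 1, 0, 1]), (205, [0, 2, 1, 2, 3]),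
   (192, [0, 3, 0, 1, 2])]

/-- Part of a table. -/
def chainT0IdxPart2 : List (ℕ × List ℕ) :=
  [(238, [0, 3, 0, 1, 3]), (197, [0, 3, 0, 3, 2]), (175, [0, 3, 1, 2, 0]), (181, [0, 3, 1, 2, 1]), (227, [0, 3, 1, 3, 0]),
   (38, [0, 3, 1, 3, 2]), (143, [0, 3, 2, 1, 3]), (86, [0, 3, 2, 3, 1]), (25, [0, 3, 2, 3, 2]), (87, [1, 0, 1, 0, 2]),
   (269, [1, 0, 1, 0, 3]), (1, [1, 0, 1, 2, 0]), (273, [1, 0, 1, 2, 3]), (97, [1, 0, 1, 3, 0]), (151, [1, 0, 1, 3, 1]),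
   (95, [1, 0, 2, 0, 1]), (19, [1, 0, 2, 0, 3]), (10, [1, 0, 2, 1, 0]), (213, [1, 0, 2, 1, 2]), (185, [1, 0, 2, 1, 3]),
   (226, [1, 0, 2, 3, 1]), (2, [1, 0, 2, 3, 2]), (267, [1, 0, 3, 0, 1]), (39, [1, 0, 3, 0, 2]), (260, [1, 0, 3, 0, 3]),
   (199, [1, 0, 3, 2, 0]), (155, [1, 0, 3, 2, 1]), (54, [1, 0, 3, 2, 3]), (148, [1, 2, 0, 3, 0]), (200, [1, 2, 0, 3, 1]),
   (57, [1, 2, 0, 3, 2]), (154, [1, 2, 1, 2, 0]), (61, [1, 2, 1, 2, 3]), (131, [1, 2, 1, 3, 0]), (29, [1, 3, 0, 1, 3]),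
   (52, [1, 3, 0, 2, 1]), (210, [1, 3, 0, 2, 3]), (44, [1, 3, 0, 3, 0]), (55, [1, 3, 0, 3, 1]), (184, [1, 3, 2, 0, 1]),
   (237, [1, 3, 2, 0, 3]), (149, [1, 3, 2, 1, 0]), (234, [1, 3, 2, 3, 1]), (130, [1, 3, 2, 3, 2]), (123, [2, 1, 0, 1, 2]),
   (129, [2, 1, 0, 1, 3]), (18, [2, 1, 0, 2, 0]), (11, [2, 1, 0, 2, 1]), (201, [2, 1, 0, 2, 3]), (16, [2, 1, 0, 3, 0]),
   (136, [2, 1, 0, 3, 1]), (14, [2, 1, 2, 0, 2]), (183, [2, 1, 2, 3, 0]), (250, [2, 1, 3, 0, 1]), (6, [2, 1, 3, 0, 2]),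
   (262, [2, 1, 3, 2, 0]), (125, [2, 1, 3, 2, 1]), (74, [2, 3, 0, 1, 0]), (53, [2, 3, 0, 1, 2]), (141, [2, 3, 0, 1, 3])]

/-- Part of a table. -/
def chainT0IdxPart3 : List (ℕ × List ℕ) :=
  [(214, [2, 3, 0, 2, 1]), (88, [3, 0, 1, 0, 1]), (122, [3, 0, 1, 0, 2]), (189, [3, 0, 1, 0, 3]), (41, [3, 0, 1, 3, 1]),
   (13, [3, 0, 2, 1, 0]), (92, [3, 0, 2, 1, 2]), (176, [3, 0, 2, 1, 3]), (235, [3, 0, 2, 3, 0]), (4, [3, 0, 2, 3, 1]),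
   (259, [3, 0, 2, 3, 2]), (254, [3, 0, 3, 0, 3]), (93, [3, 1, 0, 1, 2]), (69, [3, 1, 0, 1, 3]), (217, [3, 1, 0, 2, 1]),
   (49, [3, 1, 0, 3, 0]), (33, [3, 1, 0, 3, 1]), (31, [3, 1, 0, 3, 2]), (182, [3, 1, 2, 0, 1]), (168, [3, 1, 2, 0, 2]),
   (124, [3, 1, 2, 3, 0]), (17, [3, 1, 2, 3, 1]), (108, [3, 1, 3, 2, 0]), (231, [3, 1, 3, 2, 3]), (56, [3, 2, 1, 2, 0]),
   (78, [3, 2, 1, 2, 3]), (20, [3, 2, 1, 3, 0]), (253, [3, 2, 3, 0, 2]), (162, [3, 2, 3, 1, 2]), (188, [3, 2, 3, 1, 3]),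
   (271, [3, 2, 3, 2, 0]), (90, [3, 2, 3, 2, 1]), (71, [0, 1, 0, 1, 3, 0]), (263, [0, 1, 0, 1, 3, 2]), (80, [0, 1, 3, 2, 1, 0]),
   (191, [0, 1, 3, 2, 1, 3]), (127, [0, 2, 0, 2, 3, 2]), (190, [0, 2, 0, 3, 0, 1]), (232, [0, 2, 0, 3, 0, 3]), (258, [0, 2, 0, 3, 2, 0]),
   (46, [0, 2, 1, 2, 3, 1]), (166, [0, 2, 1, 2, 3, 2]), (5, [0, 3, 0, 1, 2, 3]), (12, [0, 3, 0, 1, 3, 1]), (274, [0, 3, 1, 2, 0, 1]),
   (186, [0, 3, 1, 2, 1, 2]), (180, [0, 3, 1, 3, 0, 1]), (209, [0, 3, 1, 3, 0, 3]), (100, [0, 3, 2, 3, 2, 0]), (73, [0, 3, 2, 3, 2, 1]),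
   (215, [0, 3, 2, 3, 2, 3]), (261, [1, 0, 1, 0, 3, 0]), (139, [1, 0, 1, 2, 0, 2]), (243, [1, 0, 1, 2, 3, 1]), (244, [1, 0, 1, 2, 3, 2]),
   (249, [1, 0, 1, 3, 0, 2]), (135, [1, 0, 1, 3, 1, 2]), (160, [1, 0, 2, 0, 1, 0]), (224, [1, 0, 2, 0, 1, 3]), (84, [1, 0, 2, 1, 2, 0])]

/-- Part of a table. -/
def chainT0IdxPart4 : List (ℕ × List ℕ) :=
  [(138, [1, 0, 2, 1, 2, 1]), (172, [1, 0, 2, 1, 3, 2]), (163, [1, 0, 2, 3, 1, 0]), (204, [1, 0, 2, 3, 1, 3]), (229, [1, 0, 3, 0, 1, 2]),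
   (207, [1, 0, 3, 2, 0, 3]), (256, [1, 0, 3, 2, 1, 3]), (252, [1, 2, 0, 3, 0, 3]), (115, [1, 2, 0, 3, 1, 2]), (91, [1, 2, 0, 3, 2, 0]),
   (178, [1, 2, 0, 3, 2, 1]), (7, [1, 2, 1, 2, 3, 1]), (36, [1, 3, 0, 3, 0, 2]), (268, [1, 3, 2, 0, 3, 2]), (45, [1, 3, 2, 3, 2, 1]),
   (140, [2, 1, 0, 1, 3, 1]), (32, [2, 1, 0, 1, 3, 2]), (0, [2, 1, 0, 3, 0, 2]), (275, [2, 1, 0, 3, 1, 3]), (196, [2, 3, 0, 1, 2, 0]),
   (264, [2, 3, 0, 1, 2, 1]), (119, [3, 0, 1, 0, 2, 0]), (96, [3, 0, 2, 3, 0, 3]), (133, [3, 1, 0, 1, 2, 3]), (128, [3, 1, 0, 3, 1, 0]),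
   (110, [3, 1, 2, 0, 1, 3]), (3, [3, 1, 2, 3, 1, 3]), (177, [0, 2, 0, 3, 0, 1, 3]), (228, [0, 2, 0, 3, 0, 3, 0]),
   (161, [0, 2, 0, 3, 2, 0, 1]), (169, [0, 2, 1, 2, 3, 1, 3]), (156, [0, 3, 1, 3, 0, 3, 1]), (85, [1, 0, 1, 2, 3, 2, 1]),
   (106, [1, 0, 1, 2, 3, 2, 3]), (211, [1, 2, 0, 3, 1, 2, 1]), (109, [1, 2, 1, 2, 3, 1, 0])]

/-- Paths of a level. -/
def chainT0Idx : List (ℕ × List ℕ) :=
  (chainT0IdxPart0 ++ chainT0IdxPart1 ++ chainT0IdxPart2 ++ chainT0IdxPart3 ++ chainT0IdxPart4)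

/-- A level. -/
def chainT0 : SLev :=
  ⟨⟨79, chainT0Gens, chainT0Orb⟩, chainT0Idx⟩

/-- Generators of a level. -/
def chainT1Gens : List (List ℕ) :=
  [[0, 3, 2, 1, 3, 1, 3, 1, 3, 1, 2, 1, 3, 1, 3, 1, 3, 1, 3, 0], [1, 3, 2, 1, 2, 3, 2, 3, 1, 2, 1, 3, 2, 3, 2, 1, 2, 3, 1],
   [1, 3, 0, 1, 2, 1, 0, 3, 1, 0, 1, 3, 2, 1, 3, 2, 3, 2, 0, 3, 2], [2, 0, 1, 0, 3, 0, 1, 0, 2, 0, 3, 1, 3, 0],
   [2, 1, 0, 3, 0, 2, 1, 0, 1, 2, 0, 3, 0, 3, 2, 1, 2], [0, 2, 1, 3, 0, 2, 1, 2, 3, 0, 2], [0, 1, 2, 1, 0], [2, 0, 2]]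

/-- Part of a table. -/
def chainT1OrbPart0 : List (ℕ × ℕ × ℕ) :=
  [(247, 262, 7), (135, 247, 0), (37, 247, 1), (130, 247, 2), (88, 247, 4), (101, 247, 5), (28, 135, 1), (211, 135, 2), (149, 135, 4),
   (57, 135, 5), (169, 135, 6), (84, 135, 7), (87, 37, 2), (66, 37, 3), (7, 37, 4), (131, 37, 5), (189, 37, 6), (74, 37, 7), (3, 130, 1),
   (40, 130, 2), (2, 130, 3), (245, 130, 4), (38, 130, 5), (250, 130, 6), (269, 88, 0), (92, 88, 1), (224, 88, 3), (195, 88, 4),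
   (58, 88, 5), (151, 101, 0), (252, 101, 1), (108, 101, 2), (80, 101, 3), (113, 101, 5), (154, 101, 6), (5, 28, 3), (257, 28, 4),
   (137, 28, 6), (213, 211, 2), (141, 211, 3), (6, 211, 4), (148, 211, 6), (176, 211, 7), (236, 149, 2), (163, 149, 3), (225, 149, 4),
   (230, 149, 7), (249, 57, 1), (152, 57, 4), (221, 57, 5), (103, 57, 6), (223, 57, 7), (78, 169, 0), (95, 169, 2), (185, 169, 3),
   (118, 169, 4), (24, 169, 5), (184, 84, 1), (91, 84, 4), (231, 87, 2)]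

/-- Part of a table. -/
def chainT1OrbPart1 : List (ℕ × ℕ × ℕ) :=
  [(150, 87, 3), (246, 87, 5), (206, 87, 6), (146, 87, 7), (127, 66, 5), (17, 66, 7), (111, 7, 2), (114, 7, 4), (25, 7, 6), (156, 7, 7),
   (30, 131, 0), (161, 131, 3), (46, 131, 7), (239, 189, 0), (271, 189, 2), (241, 74, 0), (96, 74, 4), (228, 3, 6), (68, 40, 3),
   (260, 40, 5), (132, 2, 5), (116, 2, 6), (22, 245, 2), (187, 245, 4), (117, 245, 6), (258, 245, 7), (190, 38, 0), (125, 38, 1),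
   (52, 38, 2), (120, 38, 4), (45, 38, 6), (27, 38, 7), (128, 250, 1), (147, 92, 6), (19, 92, 7), (178, 224, 0), (8, 195, 3), (31, 58, 0),
   (140, 58, 4), (254, 58, 5), (18, 151, 6), (99, 108, 6), (60, 108, 7), (1, 113, 1), (188, 113, 3), (220, 113, 6), (275, 154, 0),
   (119, 154, 1), (263, 154, 2), (134, 154, 4), (248, 154, 5), (33, 5, 5), (210, 5, 6), (160, 257, 7), (41, 137, 0), (274, 213, 7),
   (272, 141, 7), (240, 6, 7), (200, 148, 4), (93, 148, 7)]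

/-- Part of a table. -/
def chainT1OrbPart2 : List (ℕ × ℕ × ℕ) :=
  [(10, 176, 0), (145, 176, 2), (53, 176, 3), (21, 176, 4), (42, 176, 5), (267, 163, 6), (209, 163, 7), (90, 152, 6), (253, 221, 7),
   (55, 78, 5), (44, 78, 6), (198, 95, 1), (218, 185, 5), (227, 118, 6), (232, 118, 7), (123, 184, 5), (183, 184, 7), (0, 150, 4),
   (256, 150, 7), (26, 206, 0), (234, 206, 2), (112, 206, 4), (216, 206, 5), (182, 206, 7), (109, 146, 0), (270, 146, 1), (43, 146, 2),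
   (155, 146, 4), (86, 127, 0), (173, 127, 6), (143, 127, 7), (81, 17, 4), (166, 25, 2), (47, 25, 7), (194, 156, 0), (167, 156, 4),
   (61, 30, 6), (229, 161, 6), (4, 46, 0), (273, 46, 1), (82, 46, 2), (59, 46, 3), (207, 46, 4), (136, 46, 5), (180, 271, 6), (94, 241, 7),
   (83, 96, 6), (193, 228, 2), (170, 116, 2), (67, 116, 3), (265, 116, 4), (69, 117, 0), (15, 117, 1), (164, 117, 2), (217, 117, 3),
   (175, 117, 4), (171, 117, 5), (162, 125, 7), (215, 45, 7), (165, 128, 7)]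

/-- Part of a table. -/
def chainT1OrbPart3 : List (ℕ × ℕ × ℕ) :=
  [(177, 178, 6), (121, 140, 6), (196, 254, 6), (71, 254, 7), (12, 18, 4), (138, 18, 5), (122, 60, 0), (73, 60, 4), (65, 60, 5),
   (226, 1, 6), (251, 220, 1), (174, 220, 3), (255, 275, 7), (62, 119, 2), (63, 119, 4), (85, 119, 7), (197, 263, 3), (36, 263, 4),
   (243, 160, 0), (48, 160, 5), (264, 274, 2), (153, 10, 2), (259, 10, 5), (107, 10, 6), (34, 145, 1), (244, 145, 5), (64, 53, 2),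
   (222, 21, 1), (204, 21, 4), (205, 42, 1), (219, 42, 6), (51, 267, 2), (39, 90, 2), (102, 253, 0), (242, 198, 6), (54, 218, 6),
   (208, 227, 7), (77, 26, 2), (35, 26, 5), (199, 26, 7), (214, 216, 6), (157, 216, 7), (158, 182, 0), (13, 182, 2), (191, 182, 5),
   (144, 109, 2), (237, 109, 6), (168, 270, 3), (266, 43, 1), (23, 155, 2), (105, 173, 7), (192, 166, 7), (201, 194, 6), (261, 273, 6),
   (9, 59, 6), (100, 207, 6), (124, 136, 6), (72, 170, 7), (20, 164, 7), (14, 171, 7)]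

/-- Part of a table. -/
def chainT1OrbPart4 : List (ℕ × ℕ × ℕ) :=
  [(181, 196, 7), (212, 73, 6), (268, 251, 7), (11, 255, 1), (126, 255, 5), (75, 62, 7), (98, 63, 7), (29, 85, 4), (186, 264, 6),
   (76, 153, 6), (115, 107, 0), (110, 107, 1), (16, 107, 4), (89, 107, 5), (70, 34, 6), (56, 64, 6), (179, 222, 6), (139, 219, 1),
   (32, 208, 0), (159, 208, 4), (129, 199, 2), (233, 199, 4), (104, 199, 5), (203, 158, 2), (106, 191, 0), (235, 191, 1), (142, 191, 3),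
   (50, 168, 6), (49, 105, 0), (238, 9, 2), (202, 72, 5), (133, 20, 1), (172, 181, 5), (97, 110, 5)]

/-- The orbit of a level. -/
def chainT1Orb : List (ℕ × ℕ × ℕ) :=
  (chainT1OrbPart0 ++ chainT1OrbPart1 ++ chainT1OrbPart2 ++ chainT1OrbPart3 ++ chainT1OrbPart4)

/-- Part of a table. -/
def chainT1IdxPart0 : List (ℕ × List ℕ) :=
  [(262, []), (247, [7]), (135, [7, 0]), (37, [7, 1]), (130, [7, 2]), (88, [7, 4]), (101, [7, 5]), (28, [7, 0, 1]), (211, [7, 0, 2]),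
   (149, [7, 0, 4]), (57, [7, 0, 5]), (169, [7, 0, 6]), (84, [7, 0, 7]), (87, [7, 1, 2]), (66, [7, 1, 3]), (7, [7, 1, 4]),
   (131, [7, 1, 5]), (189, [7, 1, 6]), (74, [7, 1, 7]), (3, [7, 2, 1]), (40, [7, 2, 2]), (2, [7, 2, 3]), (245, [7, 2, 4]), (38, [7, 2, 5]),
   (250, [7, 2, 6]), (269, [7, 4, 0]), (92, [7, 4, 1]), (224, [7, 4, 3]), (195, [7, 4, 4]), (58, [7, 4, 5]), (151, [7, 5, 0]),
   (252, [7, 5, 1]), (108, [7, 5, 2]), (80, [7, 5, 3]), (113, [7, 5, 5]), (154, [7, 5, 6]), (5, [7, 0, 1, 3]), (257, [7, 0, 1, 4]),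
   (137, [7, 0, 1, 6]), (213, [7, 0, 2, 2]), (141, [7, 0, 2, 3]), (6, [7, 0, 2, 4]), (148, [7, 0, 2, 6]), (176, [7, 0, 2, 7]),
   (236, [7, 0, 4, 2]), (163, [7, 0, 4, 3]), (225, [7, 0, 4, 4]), (230, [7, 0, 4, 7]), (249, [7, 0, 5, 1]), (152, [7, 0, 5, 4]),
   (221, [7, 0, 5, 5]), (103, [7, 0, 5, 6]), (223, [7, 0, 5, 7]), (78, [7, 0, 6, 0]), (95, [7, 0, 6, 2]), (185, [7, 0, 6, 3]),
   (118, [7, 0, 6, 4]), (24, [7, 0, 6, 5]), (184, [7, 0, 7, 1]), (91, [7, 0, 7, 4])]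

/-- Part of a table. -/
def chainT1IdxPart1 : List (ℕ × List ℕ) :=
  [(231, [7, 1, 2, 2]), (150, [7, 1, 2, 3]), (246, [7, 1, 2, 5]), (206, [7, 1, 2, 6]), (146, [7, 1, 2, 7]), (127, [7, 1, 3, 5]),
   (17, [7, 1, 3, 7]), (111, [7, 1, 4, 2]), (114, [7, 1, 4, 4]), (25, [7, 1, 4, 6]), (156, [7, 1, 4, 7]), (30, [7, 1, 5, 0]),
   (161, [7, 1, 5, 3]), (46, [7, 1, 5, 7]), (239, [7, 1, 6, 0]), (271, [7, 1, 6, 2]), (241, [7, 1, 7, 0]), (96, [7, 1, 7, 4]),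
   (228, [7, 2, 1, 6]), (68, [7, 2, 2, 3]), (260, [7, 2, 2, 5]), (132, [7, 2, 3, 5]), (116, [7, 2, 3, 6]), (22, [7, 2, 4, 2]),
   (187, [7, 2, 4, 4]), (117, [7, 2, 4, 6]), (258, [7, 2, 4, 7]), (190, [7, 2, 5, 0]), (125, [7, 2, 5, 1]), (52, [7, 2, 5, 2]),
   (120, [7, 2, 5, 4]), (45, [7, 2, 5, 6]), (27, [7, 2, 5, 7]), (128, [7, 2, 6, 1]), (147, [7, 4, 1, 6]), (19, [7, 4, 1, 7]),
   (178, [7, 4, 3, 0]), (8, [7, 4, 4, 3]), (31, [7, 4, 5, 0]), (140, [7, 4, 5, 4]), (254, [7, 4, 5, 5]), (18, [7, 5, 0, 6]),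
   (99, [7, 5, 2, 6]), (60, [7, 5, 2, 7]), (1, [7, 5, 5, 1]), (188, [7, 5, 5, 3]), (220, [7, 5, 5, 6]), (275, [7, 5, 6, 0]),
   (119, [7, 5, 6, 1]), (263, [7, 5, 6, 2]), (134, [7, 5, 6, 4]), (248, [7, 5, 6, 5]), (33, [7, 0, 1, 3, 5]), (210, [7, 0, 1, 3, 6]),
   (160, [7, 0, 1, 4, 7]), (41, [7, 0, 1, 6, 0]), (274, [7, 0, 2, 2, 7]), (272, [7, 0, 2, 3, 7]), (240, [7, 0, 2, 4, 7]),
   (200, [7, 0, 2, 6, 4])]

/-- Part of a table. -/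
def chainT1IdxPart2 : List (ℕ × List ℕ) :=
  [(93, [7, 0, 2, 6, 7]), (10, [7, 0, 2, 7, 0]), (145, [7, 0, 2, 7, 2]), (53, [7, 0, 2, 7, 3]), (21, [7, 0, 2, 7, 4]),
   (42, [7, 0, 2, 7, 5]), (267, [7, 0, 4, 3, 6]), (209, [7, 0, 4, 3, 7]), (90, [7, 0, 5, 4, 6]), (253, [7, 0, 5, 5, 7]),
   (55, [7, 0, 6, 0, 5]), (44, [7, 0, 6, 0, 6]), (198, [7, 0, 6, 2, 1]), (218, [7, 0, 6, 3, 5]), (227, [7, 0, 6, 4, 6]),
   (232, [7, 0, 6, 4, 7]), (123, [7, 0, 7, 1, 5]), (183, [7, 0, 7, 1, 7]), (0, [7, 1, 2, 3, 4]), (256, [7, 1, 2, 3, 7]),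
   (26, [7, 1, 2, 6, 0]), (234, [7, 1, 2, 6, 2]), (112, [7, 1, 2, 6, 4]), (216, [7, 1, 2, 6, 5]), (182, [7, 1, 2, 6, 7]),
   (109, [7, 1, 2, 7, 0]), (270, [7, 1, 2, 7, 1]), (43, [7, 1, 2, 7, 2]), (155, [7, 1, 2, 7, 4]), (86, [7, 1, 3, 5, 0]),
   (173, [7, 1, 3, 5, 6]), (143, [7, 1, 3, 5, 7]), (81, [7, 1, 3, 7, 4]), (166, [7, 1, 4, 6, 2]), (47, [7, 1, 4, 6, 7]),
   (194, [7, 1, 4, 7, 0]), (167, [7, 1, 4, 7, 4]), (61, [7, 1, 5, 0, 6]), (229, [7, 1, 5, 3, 6]), (4, [7, 1, 5, 7, 0]),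
   (273, [7, 1, 5, 7, 1]), (82, [7, 1, 5, 7, 2]), (59, [7, 1, 5, 7, 3]), (207, [7, 1, 5, 7, 4]), (136, [7, 1, 5, 7, 5]),
   (180, [7, 1, 6, 2, 6]), (94, [7, 1, 7, 0, 7]), (83, [7, 1, 7, 4, 6]), (193, [7, 2, 1, 6, 2]), (170, [7, 2, 3, 6, 2]),
   (67, [7, 2, 3, 6, 3]), (265, [7, 2, 3, 6, 4]), (69, [7, 2, 4, 6, 0]), (15, [7, 2, 4, 6, 1]), (164, [7, 2, 4, 6, 2]),
   (217, [7, 2, 4, 6, 3]), (175, [7, 2, 4, 6, 4]), (171, [7, 2, 4, 6, 5]), (162, [7, 2, 5, 1, 7]), (215, [7, 2, 5, 6, 7])]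

/-- Part of a table. -/
def chainT1IdxPart3 : List (ℕ × List ℕ) :=
  [(165, [7, 2, 6, 1, 7]), (177, [7, 4, 3, 0, 6]), (121, [7, 4, 5, 4, 6]), (196, [7, 4, 5, 5, 6]), (71, [7, 4, 5, 5, 7]),
   (12, [7, 5, 0, 6, 4]), (138, [7, 5, 0, 6, 5]), (122, [7, 5, 2, 7, 0]), (73, [7, 5, 2, 7, 4]), (65, [7, 5, 2, 7, 5]),
   (226, [7, 5, 5, 1, 6]), (251, [7, 5, 5, 6, 1]), (174, [7, 5, 5, 6, 3]), (255, [7, 5, 6, 0, 7]), (62, [7, 5, 6, 1, 2]),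
   (63, [7, 5, 6, 1, 4]), (85, [7, 5, 6, 1, 7]), (197, [7, 5, 6, 2, 3]), (36, [7, 5, 6, 2, 4]), (243, [7, 0, 1, 4, 7, 0]),
   (48, [7, 0, 1, 4, 7, 5]), (264, [7, 0, 2, 2, 7, 2]), (153, [7, 0, 2, 7, 0, 2]), (259, [7, 0, 2, 7, 0, 5]), (107, [7, 0, 2, 7, 0, 6]),
   (34, [7, 0, 2, 7, 2, 1]), (244, [7, 0, 2, 7, 2, 5]), (64, [7, 0, 2, 7, 3, 2]), (222, [7, 0, 2, 7, 4, 1]), (204, [7, 0, 2, 7, 4, 4]),
   (205, [7, 0, 2, 7, 5, 1]), (219, [7, 0, 2, 7, 5, 6]), (51, [7, 0, 4, 3, 6, 2]), (39, [7, 0, 5, 4, 6, 2]), (102, [7, 0, 5, 5, 7, 0]),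
   (242, [7, 0, 6, 2, 1, 6]), (54, [7, 0, 6, 3, 5, 6]), (208, [7, 0, 6, 4, 6, 7]), (77, [7, 1, 2, 6, 0, 2]), (35, [7, 1, 2, 6, 0, 5]),
   (199, [7, 1, 2, 6, 0, 7]), (214, [7, 1, 2, 6, 5, 6]), (157, [7, 1, 2, 6, 5, 7]), (158, [7, 1, 2, 6, 7, 0]), (13, [7, 1, 2, 6, 7, 2]),
   (191, [7, 1, 2, 6, 7, 5]), (144, [7, 1, 2, 7, 0, 2]), (237, [7, 1, 2, 7, 0, 6]), (168, [7, 1, 2, 7, 1, 3]), (266, [7, 1, 2, 7, 2, 1]),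
   (23, [7, 1, 2, 7, 4, 2]), (105, [7, 1, 3, 5, 6, 7]), (192, [7, 1, 4, 6, 2, 7]), (201, [7, 1, 4, 7, 0, 6]), (261, [7, 1, 5, 7, 1, 6]),
   (9, [7, 1, 5, 7, 3, 6]), (100, [7, 1, 5, 7, 4, 6]), (124, [7, 1, 5, 7, 5, 6]), (72, [7, 2, 3, 6, 2, 7]), (20, [7, 2, 4, 6, 2, 7])]

/-- Part of a table. -/
def chainT1IdxPart4 : List (ℕ × List ℕ) :=
  [(14, [7, 2, 4, 6, 5, 7]), (181, [7, 4, 5, 5, 6, 7]), (212, [7, 5, 2, 7, 4, 6]), (268, [7, 5, 5, 6, 1, 7]), (11, [7, 5, 6, 0, 7, 1]),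
   (126, [7, 5, 6, 0, 7, 5]), (75, [7, 5, 6, 1, 2, 7]), (98, [7, 5, 6, 1, 4, 7]), (29, [7, 5, 6, 1, 7, 4]), (186, [7, 0, 2, 2, 7, 2, 6]),
   (76, [7, 0, 2, 7, 0, 2, 6]), (115, [7, 0, 2, 7, 0, 6, 0]), (110, [7, 0, 2, 7, 0, 6, 1]), (16, [7, 0, 2, 7, 0, 6, 4]),
   (89, [7, 0, 2, 7, 0, 6, 5]), (70, [7, 0, 2, 7, 2, 1, 6]), (56, [7, 0, 2, 7, 3, 2, 6]), (179, [7, 0, 2, 7, 4, 1, 6]),
   (139, [7, 0, 2, 7, 5, 6, 1]), (32, [7, 0, 6, 4, 6, 7, 0]), (159, [7, 0, 6, 4, 6, 7, 4]), (129, [7, 1, 2, 6, 0, 7, 2]),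
   (233, [7, 1, 2, 6, 0, 7, 4]), (104, [7, 1, 2, 6, 0, 7, 5]), (203, [7, 1, 2, 6, 7, 0, 2]), (106, [7, 1, 2, 6, 7, 5, 0]),
   (235, [7, 1, 2, 6, 7, 5, 1]), (142, [7, 1, 2, 6, 7, 5, 3]), (50, [7, 1, 2, 7, 1, 3, 6]), (49, [7, 1, 3, 5, 6, 7, 0]),
   (238, [7, 1, 5, 7, 3, 6, 2]), (202, [7, 2, 3, 6, 2, 7, 5]), (133, [7, 2, 4, 6, 2, 7, 1]), (172, [7, 4, 5, 5, 6, 7, 5]),
   (97, [7, 0, 2, 7, 0, 6, 1, 5])]

/-- Paths of a level. -/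
def chainT1Idx : List (ℕ × List ℕ) :=
  (chainT1IdxPart0 ++ chainT1IdxPart1 ++ chainT1IdxPart2 ++ chainT1IdxPart3 ++ chainT1IdxPart4)

/-- A level. -/
def chainT1 : SLev :=
  ⟨⟨262, chainT1Gens, chainT1Orb⟩, chainT1Idx⟩

/-- Generators of a level. -/
def chainT2Gens : List (List ℕ) :=
  [[0, 3, 2, 1, 3, 1, 3, 1, 3, 1, 2, 1, 3, 1, 3, 1, 3, 1, 3, 0], [1, 3, 2, 1, 2, 3, 2, 3, 1, 2, 1, 3, 2, 3, 2, 1, 2, 3, 1],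
   [1, 3, 0, 1, 2, 1, 0, 3, 1, 0, 1, 3, 2, 1, 3, 2, 3, 2, 0, 3, 2], [2, 0, 1, 0, 3, 0, 1, 0, 2, 0, 3, 1, 3, 0],
   [2, 1, 0, 3, 0, 2, 1, 0, 1, 2, 0, 3, 0, 3, 2, 1, 2], [0, 2, 1, 3, 0, 2, 1, 2, 3, 0, 2], [0, 1, 2, 1, 0]]

/-- Part of a table. -/
def chainT2OrbPart0 : List (ℕ × ℕ × ℕ) :=
  [(178, 177, 6), (224, 178, 0), (111, 178, 1), (149, 178, 2), (8, 178, 4), (114, 178, 5), (22, 224, 1), (101, 224, 2), (88, 224, 3),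
   (68, 224, 4), (252, 224, 5), (74, 224, 6), (28, 111, 4), (188, 111, 5), (19, 111, 6), (151, 149, 1), (236, 149, 2), (163, 149, 3),
   (225, 149, 4), (250, 149, 5), (40, 149, 6), (240, 8, 0), (150, 8, 1), (195, 8, 3), (247, 8, 5), (265, 8, 6), (231, 114, 1),
   (221, 114, 3), (249, 114, 4), (41, 114, 5), (131, 114, 6), (260, 22, 3), (80, 22, 5), (108, 101, 2), (66, 101, 4), (113, 101, 5),
   (154, 101, 6), (269, 88, 0), (92, 88, 1), (58, 88, 5), (185, 68, 5), (230, 68, 6), (7, 252, 2), (3, 252, 4), (128, 252, 5),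
   (190, 252, 6), (241, 74, 0), (152, 74, 1), (96, 74, 4), (257, 74, 5), (37, 28, 0), (135, 28, 1), (5, 28, 3), (130, 28, 5), (137, 28, 6),
   (118, 188, 0), (184, 188, 2), (254, 188, 4), (198, 188, 5), (138, 188, 6)]

/-- Part of a table. -/
def chainT2OrbPart1 : List (ℕ × ℕ × ℕ) :=
  [(271, 19, 0), (0, 19, 2), (6, 19, 3), (211, 19, 4), (223, 19, 5), (245, 151, 2), (18, 151, 6), (239, 236, 3), (78, 236, 5),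
   (91, 236, 6), (57, 163, 0), (17, 163, 5), (267, 163, 6), (147, 225, 0), (2, 225, 1), (120, 225, 5), (189, 250, 3), (213, 40, 1),
   (33, 240, 3), (87, 150, 3), (187, 195, 0), (141, 195, 1), (251, 265, 0), (61, 265, 3), (242, 265, 4), (132, 231, 6), (103, 221, 5),
   (263, 249, 6), (86, 41, 4), (30, 131, 0), (161, 131, 3), (31, 260, 5), (99, 108, 6), (127, 66, 5), (95, 66, 6), (1, 113, 1),
   (169, 113, 2), (220, 113, 6), (275, 154, 0), (119, 154, 1), (134, 154, 4), (248, 154, 5), (45, 269, 5), (84, 269, 6), (52, 58, 1),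
   (246, 58, 2), (140, 58, 4), (55, 185, 4), (218, 185, 5), (25, 7, 6), (228, 3, 6), (38, 190, 0), (209, 190, 4), (90, 152, 6),
   (83, 96, 6), (210, 5, 6), (24, 137, 4), (258, 137, 5), (227, 118, 6), (148, 184, 3)]

/-- Part of a table. -/
def chainT2OrbPart2 : List (ℕ × ℕ × ℕ) :=
  [(123, 184, 5), (81, 254, 0), (125, 254, 2), (196, 254, 6), (214, 138, 2), (15, 138, 4), (170, 138, 5), (180, 271, 6), (117, 245, 6),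
   (12, 18, 4), (44, 78, 6), (200, 91, 3), (51, 267, 2), (69, 267, 3), (67, 267, 5), (116, 2, 6), (206, 87, 6), (226, 251, 3),
   (36, 251, 6), (26, 61, 5), (171, 242, 4), (121, 242, 5), (62, 263, 0), (166, 263, 1), (175, 263, 2), (197, 263, 3), (229, 161, 6),
   (234, 31, 6), (173, 127, 6), (174, 220, 3), (112, 275, 2), (63, 119, 4), (54, 218, 6), (216, 25, 3), (193, 228, 2), (39, 90, 2),
   (35, 214, 3), (164, 117, 2), (217, 117, 3), (192, 12, 3), (77, 67, 5)]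

/-- The orbit of a level. -/
def chainT2Orb : List (ℕ × ℕ × ℕ) :=
  (chainT2OrbPart0 ++ chainT2OrbPart1 ++ chainT2OrbPart2)

/-- Part of a table. -/
def chainT2IdxPart0 : List (ℕ × List ℕ) :=
  [(177, []), (178, [6]), (224, [6, 0]), (111, [6, 1]), (149, [6, 2]), (8, [6, 4]), (114, [6, 5]), (22, [6, 0, 1]), (101, [6, 0, 2]),
   (88, [6, 0, 3]), (68, [6, 0, 4]), (252, [6, 0, 5]), (74, [6, 0, 6]), (28, [6, 1, 4]), (188, [6, 1, 5]), (19, [6, 1, 6]),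
   (151, [6, 2, 1]), (236, [6, 2, 2]), (163, [6, 2, 3]), (225, [6, 2, 4]), (250, [6, 2, 5]), (40, [6, 2, 6]), (240, [6, 4, 0]),
   (150, [6, 4, 1]), (195, [6, 4, 3]), (247, [6, 4, 5]), (265, [6, 4, 6]), (231, [6, 5, 1]), (221, [6, 5, 3]), (249, [6, 5, 4]),
   (41, [6, 5, 5]), (131, [6, 5, 6]), (260, [6, 0, 1, 3]), (80, [6, 0, 1, 5]), (108, [6, 0, 2, 2]), (66, [6, 0, 2, 4]),
   (113, [6, 0, 2, 5]), (154, [6, 0, 2, 6]), (269, [6, 0, 3, 0]), (92, [6, 0, 3, 1]), (58, [6, 0, 3, 5]), (185, [6, 0, 4, 5]),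
   (230, [6, 0, 4, 6]), (7, [6, 0, 5, 2]), (3, [6, 0, 5, 4]), (128, [6, 0, 5, 5]), (190, [6, 0, 5, 6]), (241, [6, 0, 6, 0]),
   (152, [6, 0, 6, 1]), (96, [6, 0, 6, 4]), (257, [6, 0, 6, 5]), (37, [6, 1, 4, 0]), (135, [6, 1, 4, 1]), (5, [6, 1, 4, 3]),
   (130, [6, 1, 4, 5]), (137, [6, 1, 4, 6]), (118, [6, 1, 5, 0]), (184, [6, 1, 5, 2]), (254, [6, 1, 5, 4]), (198, [6, 1, 5, 5])]

/-- Part of a table. -/
def chainT2IdxPart1 : List (ℕ × List ℕ) :=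
  [(138, [6, 1, 5, 6]), (271, [6, 1, 6, 0]), (0, [6, 1, 6, 2]), (6, [6, 1, 6, 3]), (211, [6, 1, 6, 4]), (223, [6, 1, 6, 5]),
   (245, [6, 2, 1, 2]), (18, [6, 2, 1, 6]), (239, [6, 2, 2, 3]), (78, [6, 2, 2, 5]), (91, [6, 2, 2, 6]), (57, [6, 2, 3, 0]),
   (17, [6, 2, 3, 5]), (267, [6, 2, 3, 6]), (147, [6, 2, 4, 0]), (2, [6, 2, 4, 1]), (120, [6, 2, 4, 5]), (189, [6, 2, 5, 3]),
   (213, [6, 2, 6, 1]), (33, [6, 4, 0, 3]), (87, [6, 4, 1, 3]), (187, [6, 4, 3, 0]), (141, [6, 4, 3, 1]), (251, [6, 4, 6, 0]),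
   (61, [6, 4, 6, 3]), (242, [6, 4, 6, 4]), (132, [6, 5, 1, 6]), (103, [6, 5, 3, 5]), (263, [6, 5, 4, 6]), (86, [6, 5, 5, 4]),
   (30, [6, 5, 6, 0]), (161, [6, 5, 6, 3]), (31, [6, 0, 1, 3, 5]), (99, [6, 0, 2, 2, 6]), (127, [6, 0, 2, 4, 5]), (95, [6, 0, 2, 4, 6]),
   (1, [6, 0, 2, 5, 1]), (169, [6, 0, 2, 5, 2]), (220, [6, 0, 2, 5, 6]), (275, [6, 0, 2, 6, 0]), (119, [6, 0, 2, 6, 1]),
   (134, [6, 0, 2, 6, 4]), (248, [6, 0, 2, 6, 5]), (45, [6, 0, 3, 0, 5]), (84, [6, 0, 3, 0, 6]), (52, [6, 0, 3, 5, 1]),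
   (246, [6, 0, 3, 5, 2]), (140, [6, 0, 3, 5, 4]), (55, [6, 0, 4, 5, 4]), (218, [6, 0, 4, 5, 5]), (25, [6, 0, 5, 2, 6]),
   (228, [6, 0, 5, 4, 6]), (38, [6, 0, 5, 6, 0]), (209, [6, 0, 5, 6, 4]), (90, [6, 0, 6, 1, 6]), (83, [6, 0, 6, 4, 6]),
   (210, [6, 1, 4, 3, 6]), (24, [6, 1, 4, 6, 4]), (258, [6, 1, 4, 6, 5]), (227, [6, 1, 5, 0, 6])]

/-- Part of a table. -/
def chainT2IdxPart2 : List (ℕ × List ℕ) :=
  [(148, [6, 1, 5, 2, 3]), (123, [6, 1, 5, 2, 5]), (81, [6, 1, 5, 4, 0]), (125, [6, 1, 5, 4, 2]), (196, [6, 1, 5, 4, 6]),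
   (214, [6, 1, 5, 6, 2]), (15, [6, 1, 5, 6, 4]), (170, [6, 1, 5, 6, 5]), (180, [6, 1, 6, 0, 6]), (117, [6, 2, 1, 2, 6]),
   (12, [6, 2, 1, 6, 4]), (44, [6, 2, 2, 5, 6]), (200, [6, 2, 2, 6, 3]), (51, [6, 2, 3, 6, 2]), (69, [6, 2, 3, 6, 3]),
   (67, [6, 2, 3, 6, 5]), (116, [6, 2, 4, 1, 6]), (206, [6, 4, 1, 3, 6]), (226, [6, 4, 6, 0, 3]), (36, [6, 4, 6, 0, 6]),
   (26, [6, 4, 6, 3, 5]), (171, [6, 4, 6, 4, 4]), (121, [6, 4, 6, 4, 5]), (62, [6, 5, 4, 6, 0]), (166, [6, 5, 4, 6, 1]),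
   (175, [6, 5, 4, 6, 2]), (197, [6, 5, 4, 6, 3]), (229, [6, 5, 6, 3, 6]), (234, [6, 0, 1, 3, 5, 6]), (173, [6, 0, 2, 4, 5, 6]),
   (174, [6, 0, 2, 5, 6, 3]), (112, [6, 0, 2, 6, 0, 2]), (63, [6, 0, 2, 6, 1, 4]), (54, [6, 0, 4, 5, 5, 6]), (216, [6, 0, 5, 2, 6, 3]),
   (193, [6, 0, 5, 4, 6, 2]), (39, [6, 0, 6, 1, 6, 2]), (35, [6, 1, 5, 6, 2, 3]), (164, [6, 2, 1, 2, 6, 2]), (217, [6, 2, 1, 2, 6, 3]),
   (192, [6, 2, 1, 6, 4, 3]), (77, [6, 2, 3, 6, 5, 5])]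

/-- Paths of a level. -/
def chainT2Idx : List (ℕ × List ℕ) :=
  (chainT2IdxPart0 ++ chainT2IdxPart1 ++ chainT2IdxPart2)

/-- A level. -/
def chainT2 : SLev :=
  ⟨⟨177, chainT2Gens, chainT2Orb⟩, chainT2Idx⟩

/-- Generators of a level. -/
def chainT3Gens : List (List ℕ) :=
  [[0, 3, 2, 1, 3, 1, 3, 1, 3, 1, 2, 1, 3, 1, 3, 1, 3, 1, 3, 0], [1, 3, 2, 1, 2, 3, 2, 3, 1, 2, 1, 3, 2, 3, 2, 1, 2, 3, 1],
   [1, 3, 0, 1, 2, 1, 0, 3, 1, 0, 1, 3, 2, 1, 3, 2, 3, 2, 0, 3, 2], [2, 0, 1, 0, 3, 0, 1, 0, 2, 0, 3, 1, 3, 0],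
   [2, 1, 0, 3, 0, 2, 1, 0, 1, 2, 0, 3, 0, 3, 2, 1, 2], [0, 2, 1, 3, 0, 2, 1, 2, 3, 0, 2]]

/-- The orbit of a level. -/
def chainT3Orb : List (ℕ × ℕ × ℕ) :=
  [(16, 97, 5), (20, 16, 0), (70, 16, 1), (76, 16, 2), (50, 16, 3), (208, 16, 5), (133, 20, 1), (186, 20, 2), (75, 20, 3), (181, 20, 4),
   (98, 20, 5), (14, 70, 2), (89, 70, 3), (104, 76, 2), (159, 76, 3), (85, 76, 5), (261, 50, 0), (202, 50, 2), (238, 50, 4), (13, 50, 5),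
   (32, 208, 0), (201, 208, 1), (110, 208, 5), (129, 133, 3), (157, 186, 2), (56, 186, 3), (72, 75, 2), (158, 75, 5), (212, 181, 1),
   (105, 181, 2), (9, 181, 3), (172, 181, 5), (199, 98, 0), (179, 98, 1), (107, 98, 2), (219, 98, 3), (255, 14, 5), (139, 89, 2),
   (124, 104, 4), (100, 104, 5), (235, 159, 2), (233, 159, 5), (47, 85, 0), (182, 85, 3), (29, 85, 4), (11, 85, 5), (191, 261, 2),
   (268, 261, 3), (49, 261, 5), (106, 202, 1), (237, 202, 4), (142, 238, 2), (203, 13, 1), (115, 32, 3), (126, 56, 2)]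

/-- Paths of a level. -/
def chainT3Idx : List (ℕ × List ℕ) :=
  [(97, []), (16, [5]), (20, [5, 0]), (70, [5, 1]), (76, [5, 2]), (50, [5, 3]), (208, [5, 5]), (133, [5, 0, 1]), (186, [5, 0, 2]),
   (75, [5, 0, 3]), (181, [5, 0, 4]), (98, [5, 0, 5]), (14, [5, 1, 2]), (89, [5, 1, 3]), (104, [5, 2, 2]), (159, [5, 2, 3]),
   (85, [5, 2, 5]), (261, [5, 3, 0]), (202, [5, 3, 2]), (238, [5, 3, 4]), (13, [5, 3, 5]), (32, [5, 5, 0]), (201, [5, 5, 1]),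
   (110, [5, 5, 5]), (129, [5, 0, 1, 3]), (157, [5, 0, 2, 2]), (56, [5, 0, 2, 3]), (72, [5, 0, 3, 2]), (158, [5, 0, 3, 5]),
   (212, [5, 0, 4, 1]), (105, [5, 0, 4, 2]), (9, [5, 0, 4, 3]), (172, [5, 0, 4, 5]), (199, [5, 0, 5, 0]), (179, [5, 0, 5, 1]),
   (107, [5, 0, 5, 2]), (219, [5, 0, 5, 3]), (255, [5, 1, 2, 5]), (139, [5, 1, 3, 2]), (124, [5, 2, 2, 4]), (100, [5, 2, 2, 5]),
   (235, [5, 2, 3, 2]), (233, [5, 2, 3, 5]), (47, [5, 2, 5, 0]), (182, [5, 2, 5, 3]), (29, [5, 2, 5, 4]), (11, [5, 2, 5, 5]),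
   (191, [5, 3, 0, 2]), (268, [5, 3, 0, 3]), (49, [5, 3, 0, 5]), (106, [5, 3, 2, 1]), (237, [5, 3, 2, 4]), (142, [5, 3, 4, 2]),
   (203, [5, 3, 5, 1]), (115, [5, 5, 0, 3]), (126, [5, 0, 2, 3, 2])]

/-- A level. -/
def chainT3 : SLev :=
  ⟨⟨97, chainT3Gens, chainT3Orb⟩, chainT3Idx⟩

/-- Generators of a level. -/
def chainT4Gens : List (List ℕ) :=
  [[0, 3, 2, 1, 3, 1, 3, 1, 3, 1, 2, 1, 3, 1, 3, 1, 3, 1, 3, 0], [1, 3, 2, 1, 2, 3, 2, 3, 1, 2, 1, 3, 2, 3, 2, 1, 2, 3, 1],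
   [1, 3, 0, 1, 2, 1, 0, 3, 1, 0, 1, 3, 2, 1, 3, 2, 3, 2, 0, 3, 2], [2, 0, 1, 0, 3, 0, 1, 0, 2, 0, 3, 1, 3, 0],
   [2, 1, 0, 3, 0, 2, 1, 0, 1, 2, 0, 3, 0, 3, 2, 1, 2]]

/-- The orbit of a level. -/
def chainT4Orb : List (ℕ × ℕ × ℕ) :=
  [(37, 66, 3), (163, 66, 4), (28, 37, 0), (247, 37, 1), (87, 37, 2), (7, 37, 4), (57, 163, 0), (80, 163, 1), (260, 163, 2), (149, 163, 3),
   (241, 163, 4), (135, 28, 1), (3, 28, 2), (5, 28, 3), (257, 28, 4), (130, 247, 2), (88, 247, 4), (211, 87, 1), (231, 87, 2),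
   (150, 87, 3), (252, 87, 4), (108, 7, 0), (245, 7, 1), (111, 7, 2), (114, 7, 4), (249, 57, 1), (152, 57, 4), (92, 80, 2), (101, 80, 3),
   (213, 80, 4), (269, 260, 1), (128, 260, 2), (22, 260, 3), (151, 149, 1), (236, 149, 2), (225, 149, 4), (74, 241, 0), (33, 241, 1),
   (224, 5, 4), (6, 257, 1), (40, 130, 2), (2, 130, 3), (250, 88, 2), (195, 88, 4), (141, 211, 3), (230, 231, 3), (68, 150, 0),
   (8, 150, 1), (0, 150, 4), (271, 245, 3), (187, 245, 4), (178, 111, 1), (221, 114, 3), (239, 213, 4), (147, 225, 0), (96, 74, 4),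
   (240, 33, 3), (19, 6, 3), (189, 40, 4)]

/-- Paths of a level. -/
def chainT4Idx : List (ℕ × List ℕ) :=
  [(66, []), (37, [3]), (163, [4]), (28, [3, 0]), (247, [3, 1]), (87, [3, 2]), (7, [3, 4]), (57, [4, 0]), (80, [4, 1]), (260, [4, 2]),
   (149, [4, 3]), (241, [4, 4]), (135, [3, 0, 1]), (3, [3, 0, 2]), (5, [3, 0, 3]), (257, [3, 0, 4]), (130, [3, 1, 2]), (88, [3, 1, 4]),
   (211, [3, 2, 1]), (231, [3, 2, 2]), (150, [3, 2, 3]), (252, [3, 2, 4]), (108, [3, 4, 0]), (245, [3, 4, 1]), (111, [3, 4, 2]),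
   (114, [3, 4, 4]), (249, [4, 0, 1]), (152, [4, 0, 4]), (92, [4, 1, 2]), (101, [4, 1, 3]), (213, [4, 1, 4]), (269, [4, 2, 1]),
   (128, [4, 2, 2]), (22, [4, 2, 3]), (151, [4, 3, 1]), (236, [4, 3, 2]), (225, [4, 3, 4]), (74, [4, 4, 0]), (33, [4, 4, 1]),
   (224, [3, 0, 3, 4]), (6, [3, 0, 4, 1]), (40, [3, 1, 2, 2]), (2, [3, 1, 2, 3]), (250, [3, 1, 4, 2]), (195, [3, 1, 4, 4]),
   (141, [3, 2, 1, 3]), (230, [3, 2, 2, 3]), (68, [3, 2, 3, 0]), (8, [3, 2, 3, 1]), (0, [3, 2, 3, 4]), (271, [3, 4, 1, 3]),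
   (187, [3, 4, 1, 4]), (178, [3, 4, 2, 1]), (221, [3, 4, 4, 3]), (239, [4, 1, 4, 4]), (147, [4, 3, 4, 0]), (96, [4, 4, 0, 4]),
   (240, [4, 4, 1, 3]), (19, [3, 0, 4, 1, 3]), (189, [3, 1, 2, 2, 4])]

/-- A level. -/
def chainT4 : SLev :=
  ⟨⟨66, chainT4Gens, chainT4Orb⟩, chainT4Idx⟩

/-- Generators of a level. -/
def chainT5Gens : List (List ℕ) :=
  [[0, 3, 2, 1, 3, 1, 3, 1, 3, 1, 2, 1, 3, 1, 3, 1, 3, 1, 3, 0], [1, 3, 2, 1, 2, 3, 2, 3, 1, 2, 1, 3, 2, 3, 2, 1, 2, 3, 1],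
   [1, 3, 0, 1, 2, 1, 0, 3, 1, 0, 1, 3, 2, 1, 3, 2, 3, 2, 0, 3, 2]]

/-- The orbit of a level. -/
def chainT5Orb : List (ℕ × ℕ × ℕ) :=
  [(51, 214, 1), (216, 214, 2), (54, 51, 2), (138, 216, 2), (267, 54, 2)]

/-- Paths of a level. -/
def chainT5Idx : List (ℕ × List ℕ) :=
  [(214, []), (51, [1]), (216, [2]), (54, [1, 2]), (138, [2, 2]), (267, [1, 2, 2])]

/-- A level. -/
def chainT5 : SLev :=
  ⟨⟨214, chainT5Gens, chainT5Orb⟩, chainT5Idx⟩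

/-- Generators of a level. -/
def chainT6Gens : List (List ℕ) :=
  [[0, 3, 2, 1, 3, 1, 3, 1, 3, 1, 2, 1, 3, 1, 3, 1, 3, 1, 3, 0]]

/-- The orbit of a level. -/
def chainT6Orb : List (ℕ × ℕ × ℕ) :=
  [(45, 1, 0)]

/-- Paths of a level. -/
def chainT6Idx : List (ℕ × List ℕ) :=
  [(1, []), (45, [0])]

/-- A level. -/
def chainT6 : SLev :=
  ⟨⟨1, chainT6Gens, chainT6Orb⟩, chainT6Idx⟩

/-- The chain. -/
def chainT : List SLev :=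
  [chainT0, chainT1, chainT2, chainT3, chainT4, chainT5, chainT6]

end Cfsg.Lib.CoThreeRecog
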