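import Cfsg.Agent.CosetCert.Sift

/-!
Generated: the section of the centraliser of two commuting involutions of the second class.
-/

set_option autoImplicit false
set_option maxRecDepth 20000
set_option maxHeartbeats 1000000
set_option linter.style.longLine false

namespace Cfsg.Lib.CoThreeRecog

open Cfsg.Lib.CosetCert Cfsg.Lib.PermCert

/-- The number of generators. -/
def lNum : ℕ :=
  4

/-- Part of a table. -/
def lParPart0 : List (ℕ × ℕ × ℕ) :=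
  [(0, 0, 0), (1, 0, 0), (2, 0, 0), (3, 0, 0), (4, 0, 0), (1, 1, 0), (2, 1, 0), (3, 1, 0), (4, 1, 0), (1, 2, 0), (2, 2, 0), (3, 2, 0),
   (4, 2, 0), (1, 3, 0), (2, 3, 0), (4, 3, 0), (1, 4, 0), (2, 4, 0), (3, 4, 0), (1, 5, 0), (2, 5, 0), (3, 5, 0), (4, 5, 0), (2, 6, 0),
   (3, 6, 0), (4, 6, 0), (1, 7, 0), (2, 7, 0), (4, 7, 0), (1, 8, 0), (2, 8, 0), (3, 8, 0), (1, 9, 0), (2, 9, 0), (3, 9, 0), (4, 9, 0),
   (1, 10, 0), (3, 10, 0), (4, 10, 0), (1, 11, 0), (2, 11, 0), (4, 11, 0), (1, 12, 0), (3, 12, 0), (1, 13, 0), (2, 13, 0), (3, 13, 0),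
   (4, 13, 0), (1, 14, 0), (2, 14, 0), (3, 14, 0), (1, 15, 0), (2, 15, 0), (3, 15, 0), (1, 16, 0), (3, 16, 0), (1, 17, 0), (3, 17, 0),
   (1, 18, 0), (4, 18, 0)]

/-- Part of a table. -/
def lParPart1 : List (ℕ × ℕ × ℕ) :=
  [(3, 19, 0), (4, 19, 0), (2, 20, 0), (3, 20, 0), (4, 20, 0), (2, 21, 0), (4, 21, 0), (1, 22, 0), (2, 22, 0), (3, 23, 0), (1, 24, 0),
   (4, 24, 0), (3, 25, 0), (3, 26, 0), (4, 26, 0), (1, 27, 0), (2, 27, 0), (3, 27, 0), (1, 28, 0), (3, 28, 0), (1, 29, 0), (3, 29, 0),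
   (3, 30, 0), (1, 31, 0), (4, 31, 0), (3, 33, 0), (4, 33, 0), (1, 34, 0), (2, 34, 0), (4, 34, 0), (1, 35, 0), (3, 35, 0), (3, 36, 0),
   (4, 36, 0), (1, 37, 0), (1, 39, 0), (2, 39, 0), (1, 40, 0), (2, 40, 0), (1, 41, 0), (3, 41, 0), (1, 43, 0), (2, 44, 0), (3, 44, 0),
   (2, 45, 0), (1, 47, 0), (3, 47, 0), (2, 48, 0), (3, 48, 0), (3, 51, 0), (1, 54, 0), (3, 54, 0), (1, 56, 0), (2, 56, 0), (1, 58, 0),
   (3, 66, 0), (1, 71, 0), (1, 72, 0), (2, 75, 0), (2, 88, 0)]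

/-- Parents. -/
def lPar : List (ℕ × ℕ × ℕ) :=
  (lParPart0 ++ lParPart1)

/-- Part of a table. -/
def lRankPart0 : List ℕ :=
  [0, 1, 2, 3, 4, 5, 6, 7, 8, 9, 10, 11, 12, 13, 14, 15, 16, 17, 18, 19, 20, 21, 22, 23, 24, 25, 26, 27, 28, 29, 30, 31, 32, 33, 34, 35,
   36, 37, 38, 39, 40, 41, 42, 43, 44, 45, 46, 47, 48, 49, 50, 51, 52, 53, 54, 55, 56, 57, 58, 59]

/-- Part of a table. -/
def lRankPart1 : List ℕ :=
  [60, 61, 62, 63, 64, 65, 66, 67, 68, 69, 70, 71, 72, 73, 74, 75, 76, 77, 78, 79, 80, 81, 82, 83, 84, 85, 86, 87, 88, 89, 90, 91, 92, 93,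
   94, 95, 96, 97, 98, 99, 100, 101, 102, 103, 104, 105, 106, 107, 108, 109, 110, 111, 112, 113, 114, 115, 116, 117, 118, 119]

/-- Depths. -/
def lRank : List ℕ :=
  (lRankPart0 ++ lRankPart1)

/-- Corrections. -/
def lStepV : List (List ℕ) :=
  [[0, 0, 0, 0, 0, 0, 2, 0, 0, 0, 0, 0, 0, 0, 0, 0, 0, 0, 0, 2, 2, 0, 0, 3, 0, 3, 2, 0, 0, 0, 2, 0, 3, 0, 0, 0, 1, 0, 3, 0, 0, 0, 1, 0, 0, 2, 0, 0, 1, 1, 1, 2, 1, 2, 0, 0, 0, 1, 0, 3, 0, 3, 1, 0, 3, 2, 2, 2, 2, 2, 3, 0, 0, 3, 3, 1, 2, 3, 2, 0, 3, 0, 1, 2, 1, 2, 1, 0, 3, 3, 2, 1, 2, 0, 2, 0, 2, 0, 2, 2, 2, 3, 2, 0, 3, 3, 0, 0, 3, 3, 2, 0, 3, 0, 0, 3, 1, 1, 0, 2],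
   [0, 0, 0, 0, 0, 0, 0, 0, 0, 0, 2, 0, 3, 0, 0, 0, 0, 1, 1, 2, 0, 0, 0, 2, 2, 3, 2, 0, 1, 0, 1, 2, 3, 0, 0, 1, 1, 2, 3, 0, 0, 0, 0, 3, 0, 0, 1, 0, 0, 2, 3, 1, 1, 3, 3, 0, 0, 1, 0, 3, 2, 2, 2, 2, 3, 2, 1, 0, 2, 2, 3, 0, 3, 2, 2, 0, 2, 3, 2, 3, 3, 3, 2, 3, 3, 2, 3, 2, 0, 1, 1, 3, 1, 3, 3, 2, 0, 0, 2, 3, 0, 0, 0, 3, 2, 1, 2, 1, 3, 1, 0, 3, 1, 3, 1, 1, 3, 1, 3, 2],
   [0, 0, 0, 0, 0, 0, 0, 0, 0, 0, 0, 0, 0, 0, 0, 0, 0, 0, 0, 0, 0, 0, 2, 0, 0, 0, 0, 0, 0, 0, 0, 0, 1, 0, 0, 0, 0, 0, 2, 1, 3, 0, 1, 0, 0, 1, 0, 0, 0, 3, 0, 0, 2, 0, 0, 0, 0, 0, 2, 1, 0, 2, 1, 0, 3, 3, 0, 3, 2, 0, 3, 3, 0, 0, 3, 3, 1, 0, 0, 0, 1, 0, 0, 2, 3, 0, 2, 1, 3, 2, 0, 0, 0, 0, 1, 1, 3, 3, 1, 3, 0, 2, 3, 0, 3, 3, 0, 3, 0, 0, 3, 0, 3, 2, 2, 0, 0, 0, 1, 1],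
   [0, 0, 0, 0, 0, 0, 0, 0, 0, 0, 0, 0, 0, 0, 0, 0, 1, 1, 0, 0, 0, 0, 0, 3, 0, 0, 0, 0, 0, 1, 1, 0, 0, 0, 0, 0, 0, 1, 0, 1, 2, 0, 1, 0, 0, 1, 2, 0, 2, 2, 0, 0, 2, 1, 2, 3, 1, 2, 2, 0, 0, 0, 3, 3, 0, 3, 0, 1, 0, 1, 1, 0, 0, 2, 0, 2, 2, 3, 2, 3, 2, 3, 2, 2, 0, 2, 0, 2, 2, 0, 3, 0, 3, 0, 1, 0, 3, 2, 1, 3, 0, 2, 1, 2, 3, 0, 1, 0, 0, 3, 3, 2, 3, 2, 2, 0, 0, 0, 1, 0]]

/-- Part of a table. -/
def lOrderPart0 : List ℕ :=
  [19, 215, 236, 12, 81, 430, 361, 441, 120, 66, 305, 94, 425, 219, 54, 350, 216, 426, 53, 349, 140, 454, 179, 139, 429, 82, 442, 362, 15,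
   239, 16, 212, 306, 93, 123, 65, 143, 453, 176, 136, 214, 18, 237, 13, 80, 431, 440, 360, 95, 304, 67, 121, 218, 424, 351, 55, 427, 217,
   348, 52]

/-- Part of a table. -/
def lOrderPart1 : List ℕ :=
  [455, 141, 178, 138, 428, 83, 443, 363, 238, 14, 17, 213, 122, 64, 92, 307, 137, 177, 142, 452, 317, 33, 30, 338, 190, 444, 185, 472,
   160, 148, 230, 155, 377, 107, 322, 423, 274, 116, 248, 389, 229, 152, 163, 151, 337, 29, 34, 318, 378, 104, 321, 420, 189, 447, 475,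
   186, 251, 390, 273, 119]

/-- Part of a table. -/
def lOrderPart2 : List ℕ :=
  [60, 72, 3, 394, 456, 312, 410, 133, 20, 432, 267, 233, 126, 114, 5, 386, 385, 6, 113, 125, 78, 417, 335, 205, 134, 409, 315, 459, 234,
   264, 435, 23, 0, 393, 75, 63, 77, 418, 206, 332, 73, 61, 2, 395, 313, 457, 411, 132, 21, 433, 266, 232, 115, 127, 387, 4, 112, 124, 384,
   7]

/-- Part of a table. -/
def lOrderPart3 : List ℕ :=
  [204, 334, 416, 79, 458, 314, 135, 408, 265, 235, 434, 22, 392, 1, 74, 62, 207, 333, 76, 419, 436, 244, 243, 303, 414, 38, 365, 357, 97,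
   109, 102, 397, 164, 172, 11, 203, 325, 405, 128, 283, 406, 326, 280, 131, 110, 98, 101, 398, 247, 439, 240, 300, 200, 8, 167, 175, 358,
   366, 37, 413]

/-- Part of a table. -/
def lOrderPart4 : List ℕ :=
  [316, 32, 31, 339, 445, 191, 473, 184, 149, 161, 231, 154, 106, 376, 422, 323, 275, 117, 249, 388, 162, 150, 228, 153, 319, 35, 28, 336,
   421, 320, 379, 105, 446, 188, 187, 474, 118, 272, 391, 250, 302, 242, 245, 437, 364, 356, 39, 415, 396, 103, 96, 108, 10, 202, 165, 173,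
   129, 282, 324, 404]

/-- Part of a table. -/
def lOrderPart5 : List ℕ :=
  [327, 407, 130, 281, 111, 99, 399, 100, 241, 301, 246, 438, 201, 9, 166, 174, 367, 359, 36, 412, 344, 226, 355, 343, 263, 255, 467, 256,
   147, 182, 468, 451, 197, 42, 211, 68, 198, 41, 71, 208, 25, 309, 286, 290, 225, 347, 340, 352, 144, 181, 448, 471, 260, 252, 259, 464,
   26, 310, 289, 285]

/-- Part of a table. -/
def lOrderPart6 : List ℕ :=
  [345, 227, 342, 354, 262, 254, 466, 257, 183, 146, 450, 469, 196, 43, 210, 69, 209, 70, 199, 40, 308, 24, 287, 291, 353, 341, 224, 346,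
   180, 145, 449, 470, 253, 261, 258, 465, 288, 284, 311, 27, 91, 463, 84, 192, 278, 156, 328, 222, 370, 382, 269, 373, 295, 476, 171, 296,
   292, 479, 168, 299]

/-- Part of a table. -/
def lOrderPart7 : List ℕ :=
  [45, 57, 402, 50, 369, 381, 270, 374, 195, 87, 460, 88, 331, 221, 277, 159, 46, 58, 49, 401, 90, 462, 85, 193, 223, 329, 157, 279, 383,
   371, 372, 268, 297, 170, 477, 294, 478, 293, 169, 298, 403, 51, 44, 56, 368, 380, 375, 271, 86, 194, 461, 89, 276, 158, 220, 330, 47,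
   59, 48, 400]

/-- Sorted by signature. -/
def lOrder : List ℕ :=
  (lOrderPart0 ++ lOrderPart1 ++ lOrderPart2 ++ lOrderPart3 ++ lOrderPart4 ++ lOrderPart5 ++ lOrderPart6 ++ lOrderPart7)

/-- Part of a table. -/
def aOrderPart0 : List ℕ :=
  [186, 83, 101, 197, 194, 153, 331, 112, 65, 205, 52, 70, 154, 33, 111, 238, 359, 123, 182, 149, 370, 109, 369, 105, 172, 176, 295, 378,
   253, 327, 188, 389, 156, 393, 69, 294, 167, 133, 57, 22, 343, 264, 203, 268, 380, 385, 28, 124, 309, 354, 228, 296, 8, 7, 44, 5, 89,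
   247, 234, 75]

/-- Part of a table. -/
def aOrderPart1 : List ℕ :=
  [143, 335, 202, 330, 56, 169, 349, 281, 91, 229, 146, 241, 322, 134, 367, 155, 180, 80, 196, 162, 395, 255, 274, 289, 144, 66, 283, 392,
   24, 17, 14, 1, 345, 47, 387, 100, 259, 96, 170, 117, 235, 113, 272, 361, 288, 394, 246, 292, 221, 193, 106, 129, 325, 90, 260, 199, 0,
   4, 118, 11]

/-- Part of a table. -/
def aOrderPart2 : List ℕ :=
  [77, 29, 76, 97, 82, 290, 32, 13, 35, 126, 15, 2, 252, 37, 187, 226, 346, 46, 9, 104, 27, 42, 16, 3, 216, 48, 184, 218, 326, 34, 301,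
   128, 92, 379, 114, 363, 94, 220, 58, 265, 214, 240, 107, 206, 160, 166, 136, 78, 384, 137, 377, 157, 368, 333, 282, 243, 254, 284, 267,
   358]

/-- Part of a table. -/
def aOrderPart3 : List ℕ :=
  [273, 163, 140, 173, 261, 152, 200, 329, 192, 142, 40, 245, 287, 71, 266, 127, 388, 21, 286, 141, 299, 356, 116, 93, 217, 43, 271, 227,
   321, 376, 55, 280, 366, 256, 293, 223, 277, 41, 263, 209, 323, 371, 10, 39, 50, 68, 6, 45, 269, 62, 148, 159, 302, 279, 161, 344, 181,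
   125, 364, 213]

/-- Part of a table. -/
def aOrderPart4 : List ℕ :=
  [306, 145, 328, 390, 95, 121, 147, 351, 285, 174, 30, 171, 85, 249, 130, 307, 381, 190, 338, 84, 233, 49, 336, 74, 300, 132, 119, 242,
   244, 81, 210, 231, 51, 251, 365, 61, 348, 318, 353, 304, 314, 177, 212, 383, 67, 72, 135, 54, 248, 386, 208, 86, 315, 98, 316, 225, 297,
   178, 298, 211]

/-- Part of a table. -/
def aOrderPart5 : List ℕ :=
  [239, 237, 60, 382, 207, 270, 334, 222, 168, 303, 99, 312, 102, 183, 110, 347, 150, 372, 73, 151, 291, 179, 310, 195, 25, 23, 18, 120,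
   350, 19, 219, 139, 230, 339, 319, 204, 313, 108, 64, 375, 236, 342, 340, 189, 357, 308, 53, 63, 131, 20, 122, 165, 362, 115, 258, 324,
   360, 198, 59, 337]

/-- Part of a table. -/
def aOrderPart6 : List ℕ :=
  [373, 201, 341, 175, 257, 352, 250, 224, 305, 38, 262, 320, 276, 88, 332, 311, 215, 158, 191, 138, 12, 185, 278, 79, 103, 26, 355, 31,
   232, 391, 164, 275, 374, 317, 36, 87]

/-- Sorted by signature. -/
def aOrder : List ℕ :=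
  (aOrderPart0 ++ aOrderPart1 ++ aOrderPart2 ++ aOrderPart3 ++ aOrderPart4 ++ aOrderPart5 ++ aOrderPart6)

/-- An element of order four. -/
def fIdx : ℕ :=
  8

/-- Its square. -/
def dIdx : ℕ :=
  70

/-- An outer involution. -/
def sIdx : ℕ :=
  53

/-- A Sylow subgroup. -/
def pEight : List ℕ :=
  [0, 8, 9, 53, 68, 70, 96, 113]

/-- A cyclic subgroup. -/
def fFour : List ℕ :=
  [0, 8, 70, 113]

end Cfsg.Lib.CoThreeRecog
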