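import Cfsg.Agent.CosetCert.Sift

/-!
Generated: the double cover of the symplectic group.
-/

set_option autoImplicit false
set_option maxRecDepth 20000
set_option maxHeartbeats 1000000
set_option linter.style.longLine false

namespace Cfsg.Lib.CoThreeRecog

open Cfsg.Lib.CosetCert Cfsg.Lib.PermCert

/-- Part of a table. -/
def kWordsPart0 : List (List ℕ) :=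
  [[], [1, 4, 1, 4, 0, 2, 4, 1, 2, 0, 1, 0, 4], [4, 0, 2, 1, 0, 4, 0, 4, 0, 2, 0, 4, 0], [2, 4, 1, 2, 0, 1, 0, 4, 1, 4, 1, 4, 0],
   [4, 1, 4, 0, 1, 0, 2, 1, 4, 2, 0, 4, 1], [0, 4, 2, 4, 0, 2, 0, 4, 2, 4, 0, 1], [4, 1, 4, 2, 0, 4, 0, 4, 1, 4, 0, 1, 2, 1, 4],
   [2, 4, 2, 4, 0, 2, 1, 2, 0, 4, 2, 4, 2, 0], [1, 4, 2, 1, 0, 1, 2, 4, 2, 0, 1, 0, 2, 1], [1, 2, 4, 0, 2, 0, 1, 0, 2, 0, 4, 2, 1, 0],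
   [2, 4, 0, 2, 4, 1, 2, 0, 1, 0, 4, 1, 4, 1, 2], [2, 4, 2, 0, 4, 0, 4, 1, 4, 0, 1], [0, 1, 0, 2, 1, 4, 2, 0, 4, 1, 4, 1, 4],
   [2, 4, 0, 2, 4, 2, 1, 0, 4, 1, 4, 0, 2], [0, 1, 2, 4, 2, 0, 4, 0, 4, 1, 4], [2, 4, 2, 1, 2, 4, 2, 1, 0, 2, 1, 4, 2, 0],
   [0, 2, 4, 0, 2, 4, 2, 1, 0, 4, 1, 4, 0, 2, 0], [0, 1, 4, 1, 4, 1, 4, 0], [2, 4, 0, 4, 0, 1, 2, 0, 4, 0, 4, 2, 0],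
   [1, 4, 1, 4, 0, 1, 0, 2, 1, 4, 2, 0, 4], [4, 0, 2, 4, 2, 1, 0, 4, 1, 4, 0], [0, 1, 2, 1, 0, 4, 1, 4, 0, 4, 0, 2, 4, 1, 0],
   [4, 1, 4, 0, 2, 4, 1, 2, 0, 1, 0, 4, 1], [4, 1, 0, 2, 0, 4, 0, 2, 0, 1, 4, 2, 1, 2], [0, 4, 2, 1, 0, 2, 1, 4, 0, 2, 0, 4, 2, 1, 2, 0],
   [1, 2, 0, 4, 0, 4, 1, 4, 0, 1, 2, 4, 1], [0, 4, 1, 4, 0, 4, 1, 4, 0, 4, 1, 4], [2, 4, 0, 2, 0, 4, 1, 2, 0, 1, 2, 4, 2, 1],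
   [4, 2, 1, 0, 4, 1, 4, 0, 4, 0, 2], [2, 4, 2, 1, 2, 4, 0, 2, 0, 1, 4, 2, 0, 1], [0, 2, 4, 1, 2, 0, 1, 0, 4, 1, 4, 1, 4],
   [2, 1, 0, 1, 4, 1, 4, 1, 4, 0, 1, 2], [4, 0, 4, 0, 2, 1, 0, 4, 0, 4, 0, 2, 0], [2, 0, 4, 1, 4, 1, 4, 1, 0, 2],
   [4, 2, 0, 4, 0, 4, 1, 4, 0, 1, 2], [1, 0, 2, 1, 4, 2, 0, 4, 1, 4, 1, 4, 0], [0, 1, 0, 4, 1, 4, 0, 4, 0, 2, 4, 2, 0],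
   [2, 4, 0, 2, 0, 1, 0, 2, 0, 4, 2, 1, 0, 1], [1, 2, 4, 0, 2, 0, 1, 4, 2, 0, 1, 2, 4, 2], [1, 2, 1, 0, 4, 1, 4, 0, 4, 0, 2, 4, 1],
   [1, 0, 2, 1, 0, 4, 1, 4, 0, 4, 0, 2, 4, 0, 1], [2, 1, 2, 1, 0, 4, 1, 0, 4, 2, 4, 0, 1, 4, 0], [0, 1, 0, 2, 4, 2, 1, 0, 1, 2, 4, 2],
   [4, 0, 4, 1, 4, 0, 4, 2, 1, 2, 4, 0, 4, 1], [2, 1, 0, 4, 0, 4, 0, 2, 0, 4, 0, 4, 0], [0, 4, 0, 2, 1, 0, 4, 0, 4, 0, 2, 0, 4],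
   [0, 4, 2, 4, 0, 1, 0, 4, 2, 4, 0, 2], [1, 0, 1, 4, 1, 4, 1, 4, 0, 1], [4, 0, 1, 2, 4, 2, 0, 4, 0, 4, 1],
   [1, 0, 4, 1, 4, 1, 4, 0, 2, 4, 1, 2, 0], [4, 0, 2, 0, 4, 1, 2, 0, 1, 2, 4, 2, 1, 2], [2, 1, 0, 1, 2, 4, 2, 0, 1, 0, 2, 4],
   [1, 2, 4, 2, 1, 0, 2, 4, 1, 0, 2, 0, 4, 2], [2, 4, 2, 1, 0, 4, 1, 4, 0, 4, 0], [1, 4, 2, 4, 1, 4, 0, 4, 0, 1, 0, 4, 1, 2, 1],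
   [2, 4, 2, 1, 0, 2, 1, 4, 0, 2, 0, 4, 2, 1], [4, 2, 4, 0, 1, 4, 0, 2, 1, 2, 1, 0, 4, 1, 0],
   [1, 4, 1, 4, 0, 4, 0, 2, 1, 2, 0, 1, 4, 1, 0], [0, 1, 4, 2, 4, 0, 4, 0, 1, 0, 2, 0, 4, 1], [2, 0, 4, 0, 4, 0, 2, 1, 0, 4, 0, 4, 0]]

/-- Part of a table. -/
def kWordsPart1 : List (List ℕ) :=
  [[4, 0, 1, 4, 1, 2, 4, 1, 4, 2, 1, 4, 1, 0, 4, 0], [2, 4, 1, 2, 0, 1, 2, 4, 2, 1, 2, 4, 2, 0], [1, 4, 1, 4, 1, 4],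
   [0, 2, 1, 0, 4, 1, 4, 0, 4, 0, 2, 4, 0]]

/-- Lifts of the transvections. -/
def kWords : List (List ℕ) :=
  (kWordsPart0 ++ kWordsPart1)

/-- Seven of them. -/
def genW : List (List ℕ) :=
  [[1, 4, 1, 4, 0, 2, 4, 1, 2, 0, 1, 0, 4], [4, 0, 2, 1, 0, 4, 0, 4, 0, 2, 0, 4, 0], [0, 4, 2, 4, 0, 2, 0, 4, 2, 4, 0, 1],
   [2, 4, 1, 2, 0, 1, 0, 4, 1, 4, 1, 4, 0], [4, 0, 4, 0, 2, 1, 0, 4, 0, 4, 0, 2, 0], [1, 4, 2, 1, 0, 1, 2, 4, 2, 0, 1, 0, 2, 1],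
   [0, 2, 4, 0, 2, 4, 2, 1, 0, 4, 1, 4, 0, 2, 0]]

/-- The letters in the seven. -/
def letSp : List (List ℕ) :=
  [[4, 3, 2, 5, 0, 5, 2, 3, 4, 1, 6, 3, 2, 5, 0, 5, 2, 3, 6, 1, 6, 2, 5, 4, 3, 2, 5, 0, 5, 2, 3, 4, 5, 2, 6],
   [6, 1, 6, 4, 2, 5, 0, 5, 2, 4, 5, 3, 1, 6, 2, 5, 4, 3, 2, 5, 0, 5, 2, 3, 4, 5, 2, 6, 1, 3, 5],
   [5, 3, 6, 1, 6, 3, 5, 1, 6, 2, 5, 4, 3, 2, 5, 0, 5, 2, 3, 4, 5, 2, 6, 1, 3, 6, 0, 5, 3, 1, 6, 2, 5, 4, 3, 2, 5, 0, 5, 2, 3, 4, 5, 2, 6, 1, 3, 5, 0, 6, 3],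
   [],
   [5, 2, 5, 3, 1, 6, 2, 5, 4, 3, 2, 5, 0, 5, 2, 3, 4, 5, 2, 6, 1, 3, 5, 3, 6, 0, 5, 3, 1, 6, 2, 5, 4, 3, 2, 5, 0, 5, 2, 3, 4, 5, 2, 6, 1, 3, 5, 0, 6, 3, 5]]

end Cfsg.Lib.CoThreeRecog
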