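import Cfsg.Agent.CoThreeRecog.DataS
import Cfsg.Agent.CoThreeRecog.Checks

/-!
Kernel checks: the centraliser of the elementary subgroup and the lifts of its automorphisms.
-/

set_option autoImplicit false
set_option maxRecDepth 20000
set_option maxHeartbeats 1000000
set_option Elab.async false

namespace Cfsg.Lib.CoThreeRecog

open Cfsg.Lib.CosetCert Cfsg.Lib.PermCert Cfsg.Lib.CosetCert.OutCert

/-- The filter for the centraliser of the elementary subgroup. -/
def keepE (pre : List ℕ) (b y : ℕ) : Bool :=
  (List.range 16).all fun e => (fixW (eW e) y == fixW (eW e) b) &&
    pre.all fun a => (evalW letTabs (eW e) y == a) == (evalW letTabs (eW e) b == a)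

theorem centE_upper : fullChain chainE = true ∧ chainUpper keepE [] chainE = 16 := by decide +kernel

/-- The image of a point under the linear map with given images of the basis. -/
def linImg (v : List ℕ) (i : ℕ) : ℕ := (eSpan.getD i []).foldl (fun a b => tb eMul a (v.getD (eBasis.idxOf b) 0)) 0

theorem span_ok : ((List.range 16).all fun i => linImg eBasis i == i && (eSpan.getD i []).all eBasis.contains) = true ∧
    eBasis = [1, 2, 3, 5] := by decide +kernel

/-- The candidates for an involution fixing the involution and four points in all. -/
def invTriples : List (List ℕ) :=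
  (((List.range 16).flatMap fun i => (List.range 16).flatMap fun j => (List.range 16).map fun k => [1, i, j, k]).filter
    fun v => ((List.range 16).all fun i => linImg v (linImg v i) == i) &&
      ((List.range 16).countP (fun i => linImg v i == i) == 4))

theorem lifts_ok : (invTriples.all fun v => invLifts.any fun p =>
    ((List.range 16).all fun i => pap p.1 i == linImg v i)) = true := by decide +kernel

theorem lifts_words : (invLifts.all fun p => lets cLet p.2 && eqW (p.2 ++ p.2) [] &&
    (List.range 16).all fun i => Nat.blt (pap p.1 i) 16 && eqW (cjW p.2 (eW i)) (eW (pap p.1 i))) = true := by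
  decide +kernel

/-- The action of the extra letter. -/
def sig : List ℕ := eAct.getD 3 []

theorem sig_ok : ((List.range 16).all fun i => pap sig (pap sig i) == i && Nat.blt (pap sig i) 16 &&
    (pap sig i == linImg (eBasis.map (pap sig)) i) &&
    ((List.range 16).all fun j => pap sig (tb eMul i j) == tb eMul (pap sig i) (pap sig j))) = true ∧
    (List.range 16).countP (fun i => pap sig i == i) = 4 ∧ pap sig 5 = 5 := by decide +kernel

end Cfsg.Lib.CoThreeRecog
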