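import Cfsg.Agent.CoThreeRecog.EChecks

/-!
Kernel checks: the possible images of the generators of the intersection under the extra involution.
-/

set_option autoImplicit false
set_option maxRecDepth 20000
set_option maxHeartbeats 1000000
set_option Elab.async false

namespace Cfsg.Lib.CoThreeRecog

open Cfsg.Lib.CosetCert Cfsg.Lib.PermCert Cfsg.Lib.CosetCert.OutCert

/-- A generator of the intersection. -/
def gW (j : ℕ) : List ℕ := gWords.getD j []
/-- The image of a generator in the model. -/
def iW (j : ℕ) : List ℕ := iWords.getD j []
/-- The image of a generator with a correction. -/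
def esW (es : List ℕ) (j : ℕ) : List ℕ := iW j ++ eW (es.getD j 0)
/-- A word in symbols, spelled out. -/
def expand (sub : ℕ → List ℕ) (u : List ℕ) : List ℕ := u.flatMap sub
/-- The action of a word on the elementary subgroup, found by search. -/
def actI (w : List ℕ) (i : ℕ) : ℕ :=
  ((List.range 16).find? fun k => key (cjW w (eW i)) == key (eW k)).getD 16

theorem gi_ok : ((List.range 4).all fun j => lets cLet (gW j) && lets cLet (iW j) && (List.range 16).all fun i =>
    Nat.blt (actI (gW j) i) 16 && eqW (cjW (gW j) (eW i)) (eW (actI (gW j) i)) &&
      eqW (cjW (iW j) (eW i)) (eW (pap sig (actI (gW j) (pap sig i))))) = true := by decide +kernel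

theorem tgt_ok : ((List.range 4).all fun j => (tgt.getD j []).all (Nat.blt · 4) &&
    eqW (iW j) (expand gW (tgt.getD j []))) = true := by decide +kernel

theorem stages_ok : (stages.length == 4 && (List.range 4).all fun k => (stages.getD k []).all fun p =>
    p.1.all (Nat.blt · (k + 1)) && p.2.all (Nat.blt · (k + 1)) && eqW (expand gW p.1) (expand gW p.2)) = true := by
  decide +kernel

/-- A partial correction respects the relations of a stage. -/
def stageOK (k : ℕ) (es : List ℕ) : Bool :=
  (stages.getD k []).all fun p => key (expand (esW es) p.1) == key (expand (esW es) p.2)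

/-- The partial corrections that pass. -/
def cand : ℕ → List (List ℕ)
  | 0 => [[]]
  | k + 1 => ((cand k).flatMap fun es => (List.range 16).map fun e => es ++ [e]).filter (stageOK k)

/-- The condition coming from the extra letter being an involution. -/
def invOK (es : List ℕ) : Bool :=
  (List.range 4).all fun j => key (expand (esW es) (tgt.getD j []) ++ eW (pap sig (es.getD j 0))) == key (gW j)

theorem cand_ok : ((cand 4).filter invOK).all (fun es => (normTable.map Prod.fst).contains es) = true := by
  decide +kernel

theorem norm_ok : (normTable.all fun q =>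
    Nat.blt q.2.1 16 && pap sig q.2.1 == q.2.1 && (q.2.2.2 == 0 || q.2.2.2 == 15) && (List.range 4).all fun j =>
      Nat.blt (q.2.2.1.getD j 0) 16 && eqW (eW q.2.1 ++ gW j ++ eW q.2.1) (gW j ++ eW (q.2.2.1.getD j 0)) &&
        (tb eMul (q.1.getD j 0) (pap sig (q.2.2.1.getD j 0)) == if j < 3 then 0 else q.2.2.2)) = true := by
  decide +kernel

/-- The three products acting trivially. -/
theorem triv_ok : ((List.range 16).all fun i =>
    ([0, 2].all fun l => let f := fun u => pap sig (tb eAct l u); f (f (f i)) == i) &&
    (!(pap sig i == i && tb eAct 0 i == i) || i == 0) &&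
    (!(pap sig i == i && tb eAct 2 i == i) || i == 0 || i == 5)) = true ∧ pap sig 1 ≠ 1 := by decide +kernel

/-- A symbol of the subgroup used for the second local subgroup. -/
def symW (u : ℕ) : List ℕ := if u < 3 then gW u else eW (u - 3)
/-- The image of a symbol. -/
def symI (u : ℕ) : List ℕ := if u < 3 then iW u else eW (pap sig (u - 3))

theorem relV_ok : (relV.all fun q => lets cLet q.1 && q.2.1.all (Nat.blt · 19) && q.2.2.all (Nat.blt · 19) &&
    eqW (cjW [0] q.1) (expand symW q.2.1) && eqW (cjW [0] (cjW [1] q.1)) (expand symW q.2.2) &&
    eqW (cjW [1] (expand symI q.2.1)) (expand symI q.2.2)) = true := by decide +kernel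

theorem relV_basis : (eBasis.all fun b => relV.any fun q => key (expand symI q.2.1) == key (eW b)) = true := by
  decide +kernel

theorem relV_cent : ((List.range 16).all fun s => [0, 1, 7, 15].contains s ||
    relV.any fun q => !comW (eW s) (expand symI q.2.1)) = true := by decide +kernel

theorem q_comm : comW [1] (eW (tb eAct 0 (pap sig 1))) = true := by decide +kernel

end Cfsg.Lib.CoThreeRecog
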