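import Cfsg.Agent.CoThreeRecog.Ctx
import Cfsg.Agent.CoThreeRecog.HomChecks
import Cfsg.Agent.CoThreeRecog.CaseChecks

/-!
The extra involution: it normalises the elementary subgroup and satisfies the relators up to three parameters.
-/

set_option autoImplicit false
set_option maxRecDepth 20000
set_option linter.style.haveILetI false

namespace Cfsg.Lib.CoThreeRecog

open Cfsg Cfsg.Lib.CosetCert Cfsg.Lib.CosetCert.OutCert
open Cfsg.Lib.CoThreeModel (data valid_data grp_eq)

attribute [local irreducible] val lt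

theorem sig_facts {i : ℕ} (hi : i < 16) : pap sig (pap sig i) = i ∧ pap sig i < 16 ∧
    ∀ j < 16, pap sig (tb eMul i j) = tb eMul (pap sig i) (pap sig j) := by
  have h := List.all_eq_true.1 sig_ok.1 i (List.mem_range.2 hi)
  simp only [Bool.and_eq_true, beq_iff_eq, List.all_eq_true, List.mem_range] at h
  exact ⟨h.1.1.1, Nat.le_of_ble_eq_true h.1.1.2, h.2⟩

theorem eMul_zero {i : ℕ} (hi : i < 16) : tb eMul 0 i = i :=
  eE_inj (eMul_lt (by norm_num) hi) hi (by rw [← eE_mul (by norm_num) hi, eE_zero, one_mul])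

theorem eAct_spec {l i : ℕ} (hl : l ∈ nLet) (hi : i < 16) :
    tb eAct l i < 16 ∧ val (cjW [l] (eW i)) = eE (tb eAct l i) := by
  have h := List.all_eq_true.1 (List.all_eq_true.1 act_ok l hl) i (List.mem_range.2 hi)
  rw [Bool.and_eq_true] at h
  exact ⟨Nat.le_of_ble_eq_true h.1, eqW_sound h.2⟩

theorem gW_three : gW 3 = [4] ∧ iW 3 = [4] := by decide

theorem gW_words {j : ℕ} (hj : j < 4) : lets cLet (gW j) = true ∧ lets cLet (iW j) = true := by
  have h := List.all_eq_true.1 gi_ok j (List.mem_range.2 hj)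
  simp only [Bool.and_eq_true] at h
  exact ⟨h.1.1, h.1.2⟩

theorem lets_expand {S : List ℕ} {sub : ℕ → List ℕ} : ∀ {u : List ℕ}, (∀ x ∈ u, lets S (sub x) = true) →
    lets S (expand sub u) = true
  | [], _ => rfl
  | x :: u, h => by
    rw [show expand sub (x :: u) = sub x ++ expand sub u from List.flatMap_cons ..]
    exact lets_app (h x List.mem_cons_self) (lets_expand fun y hy => h y (List.mem_cons_of_mem _ hy))

theorem lets_esW {es : List ℕ} {j : ℕ} (hj : j < 4) (he : es.getD j 0 < 16) : lets cLet (esW es j) = true :=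
  lets_app (gW_words hj).2 (eW_ok he).1

namespace Ctx

variable {G : Type*} [Group G] [Finite G] (c : Ctx G)

theorem f_app {v w : List ℕ} (hv : lets cLet v = true) (hw : lets cLet w = true) :
    c.f (val (v ++ w)) = c.f (val v) * c.f (val w) := by
  rw [val_app, c.f_mul (val_centP hv) (val_centP hw)]

theorem f_cj {v w : List ℕ} (hv : lets cLet v = true) (hw : lets cLet w = true) :
    c.f (val (cjW v w)) = c.f (val v) * c.f (val w) * (c.f (val v))⁻¹ := by
  rw [val_cj (lets_inL cLet_lt hv), c.f_conj (val_centP hv) (val_centP hw)]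

/-- An involution acting on the elementary subgroup as the extra letter. -/
theorem exists_a : ∃ a : G, a * a = 1 ∧ ∀ i < 16, a * c.ge i * a⁻¹ = c.ge (pap sig i) := by
  classical
  obtain ⟨n, hn, hn5⟩ := c.exists_norm
  choose P hP hPe using fun i : Fin 16 => hn i i.2
  let p : Fin 16 → Fin 16 := fun i => ⟨P i, hP i⟩
  have hpe : ∀ i : Fin 16, n * c.ge i * n⁻¹ = c.ge (p i) := hPe
  have hinj : Function.Injective p := fun a b h => by
    have e : n * c.ge a * n⁻¹ = n * c.ge b * n⁻¹ := by rw [hpe, hpe, h]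
    exact Fin.ext (c.ge_inj a.2 b.2 (mul_left_cancel (mul_right_cancel e)))
  let π := Equiv.ofBijective p (Finite.injective_iff_bijective.1 hinj)
  let s : Fin 16 → Fin 16 := fun i => ⟨pap sig i, (sig_facts i.2).2.1⟩
  let mF : Fin 16 → Fin 16 → Fin 16 := fun i j => ⟨tb eMul i j, eMul_lt i.2 j.2⟩
  have hhom : ∀ i j, π (mF i j) = mF (π i) (π j) := fun i j => Fin.ext (c.ge_inj (π _).2 (eMul_lt (π i).2 (π j).2) (by
    show c.ge (p (mF i j)) = c.ge (tb eMul (p i) (p j))
    rw [← hpe, ← c.ge_mul (p i).2 (p j).2, ← hpe, ← hpe]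
    show n * c.ge (tb eMul i j) * n⁻¹ = _
    rw [← c.ge_mul i.2 j.2]
    group))
  have hshom : ∀ i j, s (mF i j) = mF (s i) (s j) := fun i j => Fin.ext ((sig_facts i.2).2.2 j j.2)
  let τ : Fin 16 → Fin 16 := fun i => π (s (π.symm i))
  have hτhom : ∀ i j, τ (mF i j) = mF (τ i) (τ j) := fun i j => by
    have e : π.symm (mF i j) = mF (π.symm i) (π.symm j) := by
      rw [Equiv.symm_apply_eq, hhom, Equiv.apply_symm_apply, Equiv.apply_symm_apply]
    simp only [τ, e, hshom, hhom]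
  have hτinv : ∀ i, τ (τ i) = i := fun i => by
    simp only [τ, Equiv.symm_apply_apply]
    rw [show s (s (π.symm i)) = π.symm i from Fin.ext (sig_facts (π.symm i).2).1, Equiv.apply_symm_apply]
  have h5 : π 5 = 1 := Fin.ext (c.ge_inj (π 5).2 (by norm_num) (by
    show c.ge (p 5) = c.ge 1
    rw [← hpe, c.ge_one]
    exact hn5))
  have hτ1 : τ 1 = 1 := by
    have e : π.symm 1 = 5 := by rw [Equiv.symm_apply_eq, h5]
    simp only [τ, e]
    rw [show s 5 = 5 from Fin.ext sig_ok.2.2, h5]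
  -- a list of images of the basis determines the map
  let v : List ℕ := [1, (τ 2).1, (τ 3).1, (τ 5).1]
  have hlin : ∀ i : Fin 16, linImg v i = (τ i).1 := by
    have hb : ∀ b ∈ eBasis, ∃ hb : b < 16, v.getD (eBasis.idxOf b) 0 = (τ ⟨b, hb⟩).1 ∧
        eBasis.getD (eBasis.idxOf b) 0 = b := by
      rw [span_ok.2]
      intro b hb
      simp only [List.mem_cons, List.not_mem_nil, or_false] at hb
      rcases hb with rfl | rfl | rfl | rfl
      · exact ⟨by norm_num, (congrArg Fin.val hτ1).symm, rfl⟩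
      all_goals exact ⟨by norm_num, rfl, rfl⟩
    have hz : τ 0 = 0 := by
      have h := hτhom 0 0
      rw [show mF 0 0 = 0 from Fin.ext (eMul_zero (i := 0) (by norm_num))] at h
      have e : (τ 0).1 = tb eMul (τ 0).1 (τ 0).1 := congrArg Fin.val h
      exact Fin.ext (e.trans (eW_ok (τ 0).2).2.1)
    intro i
    have h := List.all_eq_true.1 span_ok.1 i.1 (List.mem_range.2 i.2)
    rw [Bool.and_eq_true, beq_iff_eq] at h
    have key : ∀ (l : List ℕ) (a : Fin 16), (∀ b ∈ l, b ∈ eBasis) →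
        ∃ b : Fin 16, l.foldl (fun x y => tb eMul x (eBasis.getD (eBasis.idxOf y) 0)) a.1 = b.1 ∧
          l.foldl (fun x y => tb eMul x (v.getD (eBasis.idxOf y) 0)) (τ a).1 = (τ b).1 := by
      intro l
      induction l with
      | nil => exact fun a _ => ⟨a, rfl, rfl⟩
      | cons y l ih =>
        intro a hl
        obtain ⟨hy, e1, e2⟩ := hb y (hl y List.mem_cons_self)
        obtain ⟨b, hb1, hb2⟩ := ih (mF a ⟨y, hy⟩) fun z hz => hl z (List.mem_cons_of_mem _ hz)
        refine ⟨b, ?_, ?_⟩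
        · rw [List.foldl_cons, e2]
          exact hb1
        · rw [List.foldl_cons, e1, ← hb2, hτhom]
    obtain ⟨b, hb1, hb2⟩ := key (eSpan.getD i.1 []) 0 fun z hz => List.contains_iff_mem.1 (List.all_eq_true.1 h.2 z hz)
    have hbi : b = i := Fin.ext (hb1.symm.trans h.1)
    subst hbi
    rw [linImg, ← hb2, hz]
    rfl
  have hmem : v ∈ invTriples := by
    refine List.mem_filter.2 ⟨List.mem_flatMap.2 ⟨_, List.mem_range.2 (τ 2).2, List.mem_flatMap.2
      ⟨_, List.mem_range.2 (τ 3).2, List.mem_map.2 ⟨_, List.mem_range.2 (τ 5).2, rfl⟩⟩⟩, ?_⟩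
    rw [Bool.and_eq_true, List.all_eq_true, beq_iff_eq]
    refine ⟨fun i hi => ?_, ?_⟩
    · rw [List.mem_range] at hi
      rw [beq_iff_eq, show linImg v i = (τ ⟨i, hi⟩).1 from hlin ⟨i, hi⟩, hlin, hτinv]
    · have h1 : ∀ f : Fin 16 → Fin 16, ∀ g : ℕ → ℕ, (∀ i : Fin 16, g i = (f i).1) →
          (List.range 16).countP (fun i => g i == i) = (Finset.univ.filter fun i => f i = i).card := by
        intro f g hg
        rw [List.countP_eq_length_filter, ← List.toFinset_card_of_nodup (List.nodup_range.filter _)]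
        refine (Finset.card_bij (fun x _ => x.val) (fun x hx => ?_) (fun a _ b _ e => Fin.ext e) fun y hy => ?_).symm
        · simp only [Finset.mem_filter, Finset.mem_univ, true_and] at hx
          rw [List.mem_toFinset, List.mem_filter, List.mem_range, beq_iff_eq, hg, hx]
          exact ⟨x.2, rfl⟩
        · rw [List.mem_toFinset, List.mem_filter, List.mem_range, beq_iff_eq] at hy
          refine ⟨⟨y, hy.1⟩, ?_, rfl⟩
          simp only [Finset.mem_filter, Finset.mem_univ, true_and]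
          exact Fin.ext ((hg ⟨y, hy.1⟩).symm.trans hy.2)
      rw [h1 τ (linImg v) hlin, ← sig_ok.2.1, h1 s (pap sig) fun i => rfl]
      exact Finset.card_equiv π.symm fun i => by simp [τ, Equiv.symm_apply_eq, ← Equiv.eq_symm_apply]
  obtain ⟨L, hL, hLeq⟩ := List.any_eq_true.1 (List.all_eq_true.1 lifts_ok v hmem)
  have hw := List.all_eq_true.1 lifts_words L hL
  simp only [Bool.and_eq_true, List.all_eq_true, List.mem_range] at hw
  set z := c.f (val L.2) with hz
  have hz2 : z * z = 1 := by rw [hz, ← c.f_app hw.1.1 hw.1.1, eqW_sound hw.1.2, val_nil, c.f_one]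
  have hzact : ∀ i : Fin 16, z * c.ge i * z⁻¹ = c.ge (τ i) := fun i => by
    obtain ⟨-, h2⟩ := hw.2 i i.2
    have e := List.all_eq_true.1 hLeq i.1 (List.mem_range.2 i.2)
    rw [beq_iff_eq, hlin] at e
    rw [hz, Ctx.ge, Ctx.ge, eE, ← c.f_cj hw.1.1 (eW_ok i.2).1, eqW_sound h2, e]
    rfl
  refine ⟨n⁻¹ * z * n, by rw [show n⁻¹ * z * n * (n⁻¹ * z * n) = n⁻¹ * (z * z) * n by group, hz2]; group,
    fun i hi => ?_⟩
  have e1 := hpe ⟨i, hi⟩
  have e2 := hzact (p ⟨i, hi⟩)
  have e3 := hpe (s ⟨i, hi⟩)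
  have hτp : τ (p ⟨i, hi⟩) = p (s ⟨i, hi⟩) := by
    show π (s (π.symm (π ⟨i, hi⟩))) = _
    rw [Equiv.symm_apply_apply]
    rfl
  rw [hτp, ← e3, ← e1] at e2
  calc n⁻¹ * z * n * c.ge i * (n⁻¹ * z * n)⁻¹ = n⁻¹ * (z * (n * c.ge i * n⁻¹) * z⁻¹) * n := by group
    _ = c.ge (pap sig i) := by
      rw [e2]
      show n⁻¹ * (n * c.ge (pap sig i) * n⁻¹) * n = _
      group

/-- Conjugating a spelled-out word. -/
theorem conj_expand (a : G) {g h : ℕ → List ℕ} : ∀ {u : List ℕ},
    (∀ x ∈ u, lets cLet (g x) = true ∧ lets cLet (h x) = true ∧ a * c.f (val (g x)) * a⁻¹ = c.f (val (h x))) →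
    a * c.f (val (expand g u)) * a⁻¹ = c.f (val (expand h u))
  | [], _ => by simp [expand, val_nil, c.f_one]
  | x :: u, H => by
    obtain ⟨h1, h2, h3⟩ := H x List.mem_cons_self
    have H' := fun y hy => H y (List.mem_cons_of_mem x hy)
    rw [show expand g (x :: u) = g x ++ expand g u from List.flatMap_cons ..,
      show expand h (x :: u) = h x ++ expand h u from List.flatMap_cons ..,
      c.f_app h1 (lets_expand fun y hy => (H' y hy).1), c.f_app h2 (lets_expand fun y hy => (H' y hy).2.1),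
      ← conj_expand a H', ← h3]
    group

/-- An involution with the action of the extra letter and the right action on the intersection. -/
theorem exists_norm_a : ∃ (a : G) (pv : ℕ), (pv = 0 ∨ pv = 15) ∧ a * a = 1 ∧
    (∀ i < 16, a * c.ge i * a⁻¹ = c.ge (pap sig i)) ∧
    (∀ j < 3, a * c.f (val (gW j)) * a⁻¹ = c.f (val (iW j))) ∧
    a * c.f (val [4]) * a⁻¹ = c.f (val ([4] ++ eW pv)) := by
  obtain ⟨a, ha2, hact⟩ := c.exists_a
  have hainv : a⁻¹ = a := inv_eq_of_mul_eq_one_left ha2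
  have hex : ∀ j : Fin 4, ∃ e : Fin 16, a * c.f (val (gW j)) * a⁻¹ = c.f (val (iW j)) * c.ge e := by
    intro j
    have h := List.all_eq_true.1 gi_ok j.1 (List.mem_range.2 j.2)
    simp only [Bool.and_eq_true, List.all_eq_true, List.mem_range] at h
    obtain ⟨⟨hg, hi⟩, hall⟩ := h
    set g := c.f (val (gW j)) with hgdef
    set h := c.f (val (iW j)) with hhdef
    obtain ⟨e, he, heq⟩ := c.cent_ge (g := h⁻¹ * (a * g * a⁻¹)) fun i hi' => by
      obtain ⟨h2, -, -⟩ := sig_facts hi'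
      obtain ⟨⟨hA, hgA⟩, -⟩ := hall _ (sig_facts hi').2.1
      obtain ⟨-, hiA⟩ := hall _ hi'
      have e1 : g * c.ge (pap sig i) * g⁻¹ = c.ge (actI (gW j) (pap sig i)) := by
        rw [hgdef, Ctx.ge, eE, ← c.f_cj hg (eW_ok (sig_facts hi').2.1).1, eqW_sound hgA]
        rfl
      have e2 : h * c.ge i * h⁻¹ = c.ge (pap sig (actI (gW j) (pap sig i))) := by
        rw [hhdef, Ctx.ge, eE, ← c.f_cj hi (eW_ok hi').1, eqW_sound hiA]
        rfl
      have e3 : a * g * a⁻¹ * c.ge i * (a * g * a⁻¹)⁻¹ = h * c.ge i * h⁻¹ := by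
        rw [show a * g * a⁻¹ * c.ge i * (a * g * a⁻¹)⁻¹ = a * (g * (a⁻¹ * c.ge i * a) * g⁻¹) * a⁻¹ by group, e2]
        have e4 : a⁻¹ * c.ge i * a = c.ge (pap sig i) := by
          rw [← hact i hi']
          simp only [hainv]
        rw [e4, e1, hact _ (Nat.le_of_ble_eq_true hA)]
      calc h⁻¹ * (a * g * a⁻¹) * c.ge i
          = h⁻¹ * (a * g * a⁻¹ * c.ge i * (a * g * a⁻¹)⁻¹) * (a * g * a⁻¹) := by group
        _ = _ := by rw [e3]; group
    exact ⟨⟨e, he⟩, by rw [← heq]; group⟩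
  choose E hE using hex
  let es : List ℕ := [(E 0).1, (E 1).1, (E 2).1, (E 3).1]
  have hes : ∀ j : Fin 4, es.getD j 0 = (E j).1 := fun j => by fin_cases j <;> rfl
  have hlt : ∀ j < 4, es.getD j 0 < 16 := fun j hj => (hes ⟨j, hj⟩).symm ▸ (E ⟨j, hj⟩).2
  have himg : ∀ j < 4, a * c.f (val (gW j)) * a⁻¹ = c.f (val (esW es j)) := fun j hj => by
    rw [esW, c.f_app (gW_words hj).2 (eW_ok (hlt j hj)).1, hes ⟨j, hj⟩]
    exact hE ⟨j, hj⟩
  have hexp : ∀ u : List ℕ, (∀ x ∈ u, x < 4) →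
      a * c.f (val (expand gW u)) * a⁻¹ = c.f (val (expand (esW es) u)) := fun u hu =>
    c.conj_expand a fun x hx => ⟨(gW_words (hu x hx)).1, lets_esW (hu x hx) (hlt x (hu x hx)), himg x (hu x hx)⟩
  have hgl : ∀ u : List ℕ, (∀ x ∈ u, x < 4) → lets cLet (expand gW u) = true ∧ lets cLet (expand (esW es) u) = true :=
    fun u hu => ⟨lets_expand fun x hx => (gW_words (hu x hx)).1, lets_expand fun x hx => lets_esW (hu x hx) (hlt x (hu x hx))⟩
  -- the filter keeps the true corrections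
  have hst : ∀ k ≤ 4, es.take k ∈ cand k := by
    intro k
    induction k with
    | zero => exact fun _ => by simp [cand]
    | succ k ih =>
      intro hk
      refine List.mem_filter.2 ⟨List.mem_flatMap.2 ⟨_, ih (by omega), List.mem_map.2 ⟨es.getD k 0,
        List.mem_range.2 (hlt k (by omega)), ?_⟩⟩, ?_⟩
      · rw [List.getD_eq_getElem _ _ (show k < es.length from hk), List.take_append_getElem]
      · refine List.all_eq_true.2 fun p hp => ?_
        have hs := stages_ok
        simp only [Bool.and_eq_true, List.all_eq_true, List.mem_range, beq_iff_eq] at hs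
        obtain ⟨⟨h1, h2⟩, h3⟩ := hs.2 k (by omega) p hp
        have hu1 : ∀ x ∈ p.1, x < k + 1 := fun x hx => Nat.le_of_ble_eq_true (h1 x hx)
        have hu2 : ∀ x ∈ p.2, x < k + 1 := fun x hx => Nat.le_of_ble_eq_true (h2 x hx)
        have hpre : ∀ u : List ℕ, (∀ x ∈ u, x < k + 1) → expand (esW (es.take (k + 1))) u = expand (esW es) u :=
          fun u hu => List.flatMap_congr fun x hx => by
            rw [esW, esW, List.getD_eq_getElem?_getD, List.getElem?_take, if_pos (hu x hx),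
              ← List.getD_eq_getElem?_getD]
        have h4 : ∀ x : ℕ, x < k + 1 → x < 4 := fun x hx => by omega
        rw [beq_iff_eq, hpre _ hu1, hpre _ hu2]
        obtain ⟨l1, l2⟩ := hgl p.1 fun x hx => h4 x (hu1 x hx)
        obtain ⟨r1, r2⟩ := hgl p.2 fun x hx => h4 x (hu2 x hx)
        refine key_of_eq (lets_inL cLet_lt l2) (lets_inL cLet_lt r2) (c.f_inj (val_centP l2) (val_centP r2) ?_)
        rw [← hexp _ fun x hx => h4 x (hu1 x hx), ← hexp _ fun x hx => h4 x (hu2 x hx), eqW_sound h3]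
  have hmem : es ∈ (cand 4).filter invOK := by
    refine List.mem_filter.2 ⟨hst 4 le_rfl, List.all_eq_true.2 fun j hj => ?_⟩
    rw [List.mem_range] at hj
    have ht := List.all_eq_true.1 tgt_ok j (List.mem_range.2 hj)
    rw [Bool.and_eq_true, List.all_eq_true] at ht
    have hu : ∀ x ∈ tgt.getD j [], x < 4 := fun x hx => Nat.le_of_ble_eq_true (ht.1 x hx)
    obtain ⟨u1, u2⟩ := hgl _ hu
    have hs : pap sig (es.getD j 0) < 16 := (sig_facts (hlt j hj)).2.1
    have e1 : a * (c.f (val (iW j)) * c.ge (es.getD j 0)) * a⁻¹ = c.f (val (gW j)) := by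
      rw [show c.f (val (iW j)) * c.ge (es.getD j 0) = c.f (val (esW es j)) from
        (c.f_app (gW_words hj).2 (eW_ok (hlt j hj)).1).symm, ← himg j hj]
      simp only [hainv]
      calc a * (a * c.f (val (gW j)) * a) * a = a * a * c.f (val (gW j)) * (a * a) := by group
        _ = _ := by rw [ha2, one_mul, mul_one]
    rw [beq_iff_eq]
    refine key_of_eq (lets_inL cLet_lt (lets_app u2 (eW_ok hs).1)) (lets_inL cLet_lt (gW_words hj).1)
      (c.f_inj (val_centP (lets_app u2 (eW_ok hs).1)) (val_centP (gW_words hj).1) ?_)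
    rw [c.f_app u2 (eW_ok hs).1, ← hexp _ hu, ← eqW_sound ht.2, ← e1,
      show c.f (val (eW (pap sig (es.getD j 0)))) = c.ge (pap sig (es.getD j 0)) from rfl, ← hact _ (hlt j hj)]
    group
  obtain ⟨q, hq, hqe⟩ := List.mem_map.1 (List.contains_iff_mem.1 (List.all_eq_true.1 cand_ok es hmem))
  have hn := List.all_eq_true.1 norm_ok q hq
  simp only [Bool.and_eq_true, Bool.or_eq_true, beq_iff_eq, List.all_eq_true, List.mem_range] at hn
  obtain ⟨⟨⟨he, hefix⟩, hpv⟩, hj⟩ := hn
  have he' : q.2.1 < 16 := Nat.le_of_ble_eq_true he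
  have hae : a * c.ge q.2.1 = c.ge q.2.1 * a := by
    have := hact _ he'
    rw [hefix, mul_inv_eq_iff_eq_mul] at this
    exact this
  have hges : (c.ge q.2.1)⁻¹ = c.ge q.2.1 := inv_eq_of_mul_eq_one_left (c.ge_sq he')
  have hnew : ∀ j < 4, a * c.ge q.2.1 * c.f (val (gW j)) * (a * c.ge q.2.1)⁻¹ =
      c.f (val (iW j ++ eW (if j < 3 then 0 else q.2.2.2))) := by
    intro j hj4
    obtain ⟨⟨hd, hconj⟩, hr⟩ := hj j hj4
    have hd' : q.2.2.1.getD j 0 < 16 := Nat.le_of_ble_eq_true hd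
    have hr' : tb eMul (es.getD j 0) (pap sig (q.2.2.1.getD j 0)) = if j < 3 then 0 else q.2.2.2 := by
      rw [← hqe]; exact hr
    have e1 : c.ge q.2.1 * c.f (val (gW j)) * (c.ge q.2.1)⁻¹ = c.f (val (gW j)) * c.ge (q.2.2.1.getD j 0) := by
      rw [hges, Ctx.ge, Ctx.ge, eE, eE, ← c.f_app (eW_ok he').1 (gW_words hj4).1,
        ← c.f_app (lets_app (eW_ok he').1 (gW_words hj4).1) (eW_ok he').1, eqW_sound hconj,
        c.f_app (gW_words hj4).1 (eW_ok hd').1]
    have hr16 : (if j < 3 then 0 else q.2.2.2) < 16 := by rw [← hr']; exact eMul_lt (hlt j hj4) (sig_facts hd').2.1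
    calc a * c.ge q.2.1 * c.f (val (gW j)) * (a * c.ge q.2.1)⁻¹
        = a * (c.ge q.2.1 * c.f (val (gW j)) * (c.ge q.2.1)⁻¹) * a⁻¹ := by group
      _ = a * c.f (val (gW j)) * a⁻¹ * (a * c.ge (q.2.2.1.getD j 0) * a⁻¹) := by rw [e1]; group
      _ = _ := by
        rw [himg j hj4, hact _ hd', esW, c.f_app (gW_words hj4).2 (eW_ok (hlt j hj4)).1,
          c.f_app (gW_words hj4).2 (eW_ok hr16).1, mul_assoc, ← hr']
        exact congrArg (_ * ·) (c.ge_mul (hlt j hj4) (sig_facts hd').2.1)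
  refine ⟨a * c.ge q.2.1, q.2.2.2, hpv, ?_, fun i hi => ?_, fun j hj3 => ?_, ?_⟩
  · nth_rw 2 [hae]
    rw [show a * c.ge q.2.1 * (c.ge q.2.1 * a) = a * (c.ge q.2.1 * c.ge q.2.1) * a by group, c.ge_sq he', mul_one, ha2]
  · rw [show a * c.ge q.2.1 * c.ge i * (a * c.ge q.2.1)⁻¹ = a * (c.ge q.2.1 * c.ge i * (c.ge q.2.1)⁻¹) * a⁻¹ by group,
      c.ge_comm he' hi, mul_inv_cancel_right, hact i hi]
  · rw [hnew j (by omega), if_pos hj3, e_ok.2.1, List.append_nil]
  · have := hnew 3 (by norm_num)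
    rwa [gW_three.1, gW_three.2, if_neg (by norm_num)] at this

end Ctx

end Cfsg.Lib.CoThreeRecog
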