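import Cfsg.Agent.CoThreeRecog.Params
import Cfsg.Agent.CoThreeRecog.CertT.Valid
import Cfsg.Agent.CoThreeRecog.CertL.Valid

/-!
An embedding of the model extending the copy of the centraliser.
-/

set_option autoImplicit false
set_option maxRecDepth 20000
set_option linter.style.haveILetI false

namespace Cfsg.Lib.CoThreeRecog

open Cfsg Cfsg.Lib.CosetCert Cfsg.Lib.CosetCert.OutCert
open Cfsg.Lib.CoThreeModel (data valid_data grp_eq)

/-- The generators of the model as words in the letters. -/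
def genLow : List (List ℕ) := [[3, 2, 1, 2, 1, 0, 1, 3, 2, 1, 2, 1, 0, 2, 1, 2, 3, 2, 1, 2, 1],
  [1, 3, 2, 1, 4, 1, 0, 1, 0, 2, 3, 1, 2, 0, 1, 2, 3, 1, 2, 3, 0, 2, 1, 0, 2, 1, 3, 0, 2, 1, 0],
  [0, 4, 3, 1, 2, 1, 4, 2, 3, 1, 2, 1, 0, 1, 2, 1, 3, 2, 1, 2, 1, 3, 0],
  [4, 0, 2, 0, 3, 0, 2, 1, 4, 1, 3, 2, 1, 3, 2, 0, 3, 2, 1, 2, 1, 2, 0, 3, 2, 1, 0, 1, 2, 3, 1, 0, 2, 0, 1, 0]]

theorem genLow_ok : ((List.range 4).all fun l =>
    inL (genLow.getD l []) && key (genLow.getD l []) == keyLow [l]) = true := by decide +kernel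

/-- The points reached from the first one in the centraliser. -/
def orb0 : ℕ → List ℕ
  | 0 => [0]
  | k + 1 => ((orb0 k) ++ cLet.flatMap fun l => (orb0 k).map (evalW letTabs [l])).dedup

theorem orb0_ok : Nat.ble 36 (orb0 8).length = true ∧ ([0, 1, 2].all fun l => evalW letTabs [l] 0 == 0) = true := by
  decide +kernel

attribute [local irreducible] val lt

theorem imgs_low {w : List ℕ} (h : Data.isLow w = true) : imgs (wval data.im w) = keyLow w :=
  List.map_congr_left fun c hc => by rw [imgN, dif_pos (base_lt hc), valid_data.evalX (low_word h).1]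

theorem gen_letters : data.grp ≤ Subgroup.closure (lt '' Set.Iio 5) := by
  rw [Data.grp, Subgroup.closure_le]
  rintro _ ⟨l, hl, rfl⟩
  have hl' : l < 4 := hl
  have h := List.all_eq_true.1 genLow_ok l (List.mem_range.2 hl')
  rw [Bool.and_eq_true, beq_iff_eq] at h
  have hlow : Data.isLow [l] = true := by simp [Data.isLow]; omega
  have e : val (genLow.getD l []) = data.im l :=
    ext7 (val_mem h.1) (Subgroup.subset_closure ⟨l, hl, rfl⟩)
      (by rw [imgs_val h.1, h.2, ← Data.wval_one (D := data) l, imgs_low hlow])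
  rw [← e]
  exact Subgroup.closure_mono (by
    rintro _ ⟨j, hj, rfl⟩
    exact ⟨j, inL_lt h.1 j hj, rfl⟩) (lets_mem (S := genLow.getD l []) (List.all_eq_true.2 fun j hj =>
      List.contains_iff_mem.2 hj))

/-- The centraliser's stabiliser of the first point. -/
def stab0 : Subgroup Pm := centP ⊓ MulAction.stabilizer Pm (⟨0, by decide⟩ : Fin data.n)

theorem card_stab0 : Nat.card stab0 ≤ 80640 := by
  set p : Fin data.n := ⟨0, by decide⟩
  have horb : ∀ k, ∀ x ∈ orb0 k, ∃ z ∈ centP, (z p).val = x := by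
    intro k
    induction k with
    | zero =>
      intro x hx
      rw [orb0, List.mem_singleton] at hx
      exact ⟨1, one_mem _, hx.symm⟩
    | succ k ih =>
      intro x hx
      rw [orb0, List.mem_dedup, List.mem_append] at hx
      rcases hx with hx | hx
      · exact ih x hx
      obtain ⟨l, hl, hx⟩ := List.mem_flatMap.1 hx
      obtain ⟨y, hy, rfl⟩ := List.mem_map.1 hx
      obtain ⟨z, hz, rfl⟩ := ih y hy
      refine ⟨(lt l)⁻¹ * z, mul_mem (inv_mem (lt_centP hl)) hz, ?_⟩
      rw [Equiv.Perm.mul_apply, ← val_one l]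
      exact val_inv_apply (lets_inL cLet_lt (show lets cLet [l] = true by simp [lets, hl])) _
  haveI : Finite centP := Nat.finite_of_card_ne_zero (by rw [card_centP]; norm_num)
  have e := Nat.card_congr (MulAction.orbitProdStabilizerEquivGroup centP p)
  rw [Nat.card_prod, Nat.card_coe_set_eq, card_centP] at e
  have hs : Nat.card (MulAction.stabilizer centP p) = Nat.card stab0 := by
    rw [← Subgroup.card_map_of_injective (f := centP.subtype) centP.subtype_injective]
    refine Nat.card_congr (Equiv.subtypeEquivRight fun z => ?_)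
    simp only [stab0, Subgroup.mem_map, Subgroup.mem_inf, MulAction.mem_stabilizer_iff]
    exact ⟨fun ⟨x, hx, e⟩ => e ▸ ⟨x.2, hx⟩, fun hz => ⟨⟨z, hz.1⟩, hz.2, rfl⟩⟩
  have h36 : 36 ≤ (MulAction.orbit centP p).ncard := by
    have hsub : ((orb0 8).toFinset : Set ℕ) ⊆ (fun q : Fin data.n => q.val) '' MulAction.orbit centP p := by
      intro x hx
      rw [Finset.mem_coe, List.mem_toFinset] at hx
      obtain ⟨z, hz, rfl⟩ := horb 8 x hx
      exact ⟨z p, ⟨⟨z, hz⟩, rfl⟩, rfl⟩
    have := Set.ncard_le_ncard hsub (Set.toFinite _)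
    rw [Set.ncard_coe_finset, Set.ncard_image_of_injective _ Fin.val_injective,
      List.toFinset_card_of_nodup (by rw [show orb0 8 = ((orb0 7) ++ cLet.flatMap fun l =>
        (orb0 7).map (evalW letTabs [l])).dedup from rfl]; exact List.nodup_dedup _)] at this
    exact le_trans (Nat.le_of_ble_eq_true orb0_ok.1) this
  rw [← hs]
  refine Nat.le_of_mul_le_mul_left ?_ (show 0 < 36 by norm_num)
  calc 36 * Nat.card (MulAction.stabilizer centP p)
      ≤ (MulAction.orbit centP p).ncard * Nat.card (MulAction.stabilizer centP p) := Nat.mul_le_mul_right _ h36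
    _ = 36 * 80640 := e.trans (by norm_num)

theorem first_stab0 : Subgroup.closure (lt '' {l | l ∈ [0, 1, 2]}) ≤ stab0 := by
  rw [Subgroup.closure_le]
  rintro _ ⟨l, hl, rfl⟩
  have hl' : l ∈ cLet := by
    simp only [Set.mem_ofPred_eq, List.mem_cons, List.not_mem_nil, or_false] at hl
    rcases hl with rfl | rfl | rfl <;> decide
  refine Subgroup.mem_inf.2 ⟨lt_centP hl', MulAction.mem_stabilizer_iff.2 ?_⟩
  have h := List.all_eq_true.1 orb0_ok.2 l hl
  rw [beq_iff_eq] at h
  have e : (lt l)⁻¹ (⟨0, by decide⟩ : Fin data.n) = ⟨0, by decide⟩ := Fin.ext (by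
    rw [← val_one l]
    exact (val_inv_apply (lets_inL cLet_lt (show lets cLet [l] = true by simp [lets, hl'])) _).trans h)
  exact (Equiv.Perm.inv_eq_iff_eq.1 e).symm

theorem model_simple : IsSimpleGroup data.grp := by
  haveI : IsSimpleGroup Cfsg.Lib.CoThreeModel.coGrp :=
    (Cfsg.Lib.Leech.isCo3_stabilizer (v := Cfsg.Lib.Leech.Stab.bD) Cfsg.Lib.Leech.vD_ok.2.1).1
  let e : ↥Cfsg.Lib.CoThreeModel.coGrp ≃* ↥data.grp :=
    (MonoidHom.ofInjective Cfsg.Lib.CoThreeModel.phi_injective).trans (MulEquiv.subgroupCongr grp_eq.1.symm)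
  exact e.symm.isSimpleGroup

namespace Ctx

variable {G : Type*} [Group G] [Finite G] (c : Ctx G)

/-- An injective map of the model extending the copy. -/
theorem exists_embedding : ∃ φ : data.grp →* G, Function.Injective φ ∧
    ∀ (z : Pm) (hz : z ∈ centP), φ ⟨z, (mem_centP.1 hz).1⟩ = c.f z := by
  classical
  obtain ⟨a, ha, hrels⟩ := c.exists_extra
  let im : ℕ → G × data.grp := fun l => if h : l < 5 then (c.X a l, ⟨lt l, lt_mem h⟩) else 1
  have him : ∀ {w : List ℕ}, inL w = true → (wval im w).1 = wval (c.X a) w ∧ ((wval im w).2 : Pm) = val w := by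
    intro w
    induction w with
    | nil => intro _; simp [wval, val_nil]
    | cons l w ih =>
      intro h
      have hl : l < 5 := inL_lt h l List.mem_cons_self
      have hw : inL w = true := List.all_eq_true.2 fun u hu => List.all_eq_true.1 h u (List.mem_cons_of_mem _ hu)
      obtain ⟨h1, h2⟩ := ih hw
      have e : wval im (l :: w) = (c.X a l, ⟨lt l, lt_mem hl⟩) * wval im w := by simp [wval, im, hl]
      refine ⟨?_, ?_⟩
      · rw [e, Prod.fst_mul, h1]
        simp [wval]
      · rw [e, Prod.snd_mul, Subgroup.coe_mul, h2, val_cons]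
  have hmain := main_ok
  simp only [Bool.and_eq_true] at hmain
  have hall : ∀ r ∈ CertT.rels ++ CertL.rels, wval im r = 1 := fun r hr => by
    obtain ⟨hin, h1⟩ := hrels r hr
    obtain ⟨i1, i2⟩ := him hin
    exact Prod.ext (i1.trans h1) (Subtype.ext (i2.trans (by rw [eqW_sound (List.all_eq_true.1 hmain.2 r hr), val_nil]; rfl)))
  have hXsq : ∀ l < 5, c.X a l * c.X a l = 1 := fun l hl => by
    unfold X
    by_cases h : l = 3
    · rw [if_pos h]; exact ha
    · rw [if_neg h]
      exact c.f_sq (by simp only [cLet, List.mem_cons, List.not_mem_nil, or_false]; omega)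
  have hsq : ∀ l < 5, im l * im l = 1 := fun l hl => by
    simp only [im, dif_pos hl]
    exact Prod.ext (hXsq l hl) (Subtype.ext (lt_sq hl))
  -- the stabiliser of a point in the centraliser
  set K0 := Subgroup.closure (im '' {l | l ∈ [0, 1, 2]}) with hK0
  haveI : Finite stab0 := Finite.of_injective (fun z : stab0 => (z : Pm)) Subtype.val_injective
  have hgraph : ∀ x ∈ K0, (x.2 : Pm) ∈ stab0 ∧ x.1 = c.f x.2 := by
    intro x hx
    induction hx using Subgroup.closure_induction with
    | mem y hy =>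
      obtain ⟨l, hl, rfl⟩ := hy
      have hl2 : (l : ℕ) ∈ [0, 1, 2] := hl
      have hl5 : l < 5 := by simp at hl2; omega
      refine ⟨?_, ?_⟩ <;> simp only [im, dif_pos hl5]
      · exact first_stab0 (Subgroup.subset_closure ⟨l, hl, rfl⟩)
      · rw [X, if_neg (by simp at hl2; omega)]
    | one => exact ⟨by simp, by simp [c.f_one]⟩
    | mul y z _ _ hy hz =>
      exact ⟨mul_mem hy.1 hz.1, by rw [Prod.fst_mul, hy.2, hz.2, Prod.snd_mul, Subgroup.coe_mul, c.f_mul hy.1.1 hz.1.1]⟩
    | inv y _ hy => exact ⟨inv_mem hy.1, by rw [Prod.fst_inv, hy.2, Prod.snd_inv, Subgroup.coe_inv, c.f_inv hy.1.1]⟩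
  let g0 : K0 → stab0 := fun x => ⟨(x.1.2 : Pm), (hgraph x.1 x.2).1⟩
  have hg0 : Function.Injective g0 := fun x y e => by
    have e2 : (x.1.2 : Pm) = (y.1.2 : Pm) := congrArg (fun u : stab0 => (u : Pm)) e
    refine Subtype.ext (Prod.ext ?_ (Subtype.ext e2))
    rw [(hgraph x.1 x.2).2, (hgraph y.1 y.2).2, e2]
  haveI : Finite K0 := Finite.of_injective g0 hg0
  have hK0c : Nat.card K0 ≤ 80640 := (Nat.card_le_card_of_injective g0 hg0).trans card_stab0
  obtain ⟨hL1, hL2⟩ := card_le CertL.cert im CertL.valid (fun l hl => hsq l (lt_of_lt_of_le hl (by decide)))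
    (fun r hr => hall r (List.mem_append_right _ hr))
    (fun r hr l hl => hsq l (inL_lt (hrels r (List.mem_append_right _ hr)).1 l hl)) (K := K0)
    (fun s hs => Subgroup.subset_closure ⟨s, hs, rfl⟩) (L := Subgroup.closure (im '' Set.Iio 4)) le_rfl
  haveI := hL1
  obtain ⟨hT1, hT2⟩ := card_le CertT.cert im CertT.valid (fun l hl => hsq l hl)
    (fun r hr => hall r (List.mem_append_left _ hr))
    (fun r hr l hl => hsq l (inL_lt (hrels r (List.mem_append_left _ hr)).1 l hl))
    (K := Subgroup.closure (im '' Set.Iio 4))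
    (fun s hs => Subgroup.subset_closure ⟨s, by
      simp only [CertT.cert, List.mem_cons, List.not_mem_nil, or_false] at hs
      simp only [Set.mem_Iio]; omega, rfl⟩)
    (L := Subgroup.closure (im '' Set.Iio 5)) le_rfl
  haveI := hT1
  rw [CertL.fin_len] at hL2
  rw [CertT.fin_len] at hT2
  set L := Subgroup.closure (im '' Set.Iio 5) with hL
  let p : L →* data.grp := (MonoidHom.snd G data.grp).comp L.subtype
  have hp : Function.Surjective p := by
    intro m
    have hgo : ∀ z ∈ Subgroup.closure (lt '' Set.Iio 5), ∃ x : L, (p x : Pm) = z := by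
      intro z hz
      induction hz using Subgroup.closure_induction with
      | mem x hx =>
        obtain ⟨l, hl, rfl⟩ := hx
        refine ⟨⟨im l, Subgroup.subset_closure ⟨l, hl, rfl⟩⟩, ?_⟩
        show ((im l).2 : Pm) = lt l
        have hl' : l < 5 := hl
        simp [im, hl']
      | one => exact ⟨1, by simp⟩
      | mul u v _ _ hu hv =>
        obtain ⟨x, hx⟩ := hu
        obtain ⟨y, hy⟩ := hv
        exact ⟨x * y, by rw [map_mul, Subgroup.coe_mul, hx, hy]⟩
      | inv u _ hu =>
        obtain ⟨x, hx⟩ := hu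
        exact ⟨x⁻¹, by rw [map_inv, Subgroup.coe_inv, hx]⟩
    obtain ⟨x, hx⟩ := hgo _ (gen_letters m.2)
    exact ⟨x, Subtype.ext hx⟩
  have hpb : Function.Bijective p := by
    refine (Nat.bijective_iff_surjective_and_card p).2 ⟨hp, le_antisymm ?_ (Nat.card_le_card_of_surjective p hp)⟩
    refine hT2.trans ?_
    rw [grp_eq.2]
    calc 276 * Nat.card (Subgroup.closure (im '' Set.Iio 4)) ≤ 276 * (22275 * 80640) :=
          Nat.mul_le_mul_left _ (hL2.trans (Nat.mul_le_mul_left _ hK0c))
      _ = 495766656000 := by norm_num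
  let e := MulEquiv.ofBijective p hpb
  let q : L →* G := (MonoidHom.fst G data.grp).comp L.subtype
  have hlift : ∀ z ∈ centP, ∃ x : L, q x = c.f z ∧ (p x : Pm) = z := by
    intro z hz
    rw [centP_gen] at hz
    induction hz using Subgroup.closure_induction with
    | mem x hx =>
      obtain ⟨l, hl, rfl⟩ := hx
      have hl5 := cLet_lt l hl
      refine ⟨⟨im l, Subgroup.subset_closure ⟨l, hl5, rfl⟩⟩, ?_, ?_⟩
      · show (im l).1 = _
        simp only [im, dif_pos hl5]
        rw [X, if_neg (fun e => by subst e; exact absurd hl (by decide))]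
      · show ((im l).2 : Pm) = lt l
        simp [im, hl5]
    | one => exact ⟨1, by rw [map_one, c.f_one], by simp⟩
    | mul u v hu' hv' hu hv =>
      obtain ⟨x, hx1, hx2⟩ := hu
      obtain ⟨y, hy1, hy2⟩ := hv
      exact ⟨x * y, by rw [map_mul, hx1, hy1, c.f_mul (centGrp_le hu') (centGrp_le hv')],
        by rw [map_mul, Subgroup.coe_mul, hx2, hy2]⟩
    | inv u hu' hu =>
      obtain ⟨x, hx1, hx2⟩ := hu
      exact ⟨x⁻¹, by rw [map_inv, hx1, c.f_inv (centGrp_le hu')], by rw [map_inv, Subgroup.coe_inv, hx2]⟩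
  have hext : ∀ (z : Pm) (hz : z ∈ centP), q.comp e.symm.toMonoidHom ⟨z, (mem_centP.1 hz).1⟩ = c.f z := fun z hz => by
    obtain ⟨x, hx, hpx⟩ := hlift z hz
    rw [MonoidHom.comp_apply, MulEquiv.coe_toMonoidHom,
      show e.symm ⟨z, (mem_centP.1 hz).1⟩ = x from e.symm_apply_eq.2 (Subtype.ext hpx.symm), hx]
  refine ⟨q.comp e.symm.toMonoidHom, ?_, hext⟩
  haveI := model_simple
  rcases (MonoidHom.normal_ker (q.comp e.symm.toMonoidHom)).eq_bot_or_eq_top with h | h
  · exact (MonoidHom.ker_eq_bot_iff _).1 h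
  · exfalso
    have hmem : (⟨tP, tP_mem⟩ : data.grp) ∈ (q.comp e.symm.toMonoidHom).ker := h ▸ Subgroup.mem_top _
    rw [MonoidHom.mem_ker, hext tP tP_centP, c.f_t] at hmem
    exact c.t_ne hmem

end Ctx

end Cfsg.Lib.CoThreeRecog
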