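import Cfsg.Agent.CoThreeRecog.DataS
import Cfsg.Agent.CoThreeRecog.Checks

/-!
A Sylow 2-subgroup of the centraliser of the involution: checkers.
-/

set_option autoImplicit false
set_option maxRecDepth 20000
set_option maxHeartbeats 1000000
set_option Elab.async false

namespace Cfsg.Lib.CoThreeRecog

open Cfsg.Lib.CosetCert Cfsg.Lib.PermCert Cfsg.Lib.CosetCert.OutCert

/-- An element of the Sylow subgroup. -/
def sW (i : ℕ) : List ℕ := sWords.getD i []
/-- A generator of the Sylow subgroup. -/
def sG (k : ℕ) : ℕ := sGens.getD k 0

/-- The step check for a range. -/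
def stepPart (a k : ℕ) : Bool :=
  (List.range' a k).all fun i => lets cLet (sW i) && (List.range 5).all fun j =>
    Nat.blt (tb sStep i j) 1024 && eqW (sW i ++ sW (sG j)) (sW (tb sStep i j))

/-- The parent check for a range. -/
def treePart (a k : ℕ) : Bool :=
  (List.range' a k).all fun i => i == 0 ||
    (Nat.blt (sPar.getD i (0, 0)).2 5 && (tb sStep (sPar.getD i (0, 0)).1 (sPar.getD i (0, 0)).2 == i) &&
      Nat.blt (sPar.getD i (0, 0)).1 i)

/-- The code of a signature. -/
def code (k : List ℕ) : ℕ := k.foldl (fun c v => 276 * c + v) 0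

/-- A strictly increasing list. -/
def incr : List ℕ → Bool
  | [] => true
  | a :: r => (match r with
    | [] => true
    | b :: _ => Nat.blt a b) && incr r

/-- The class claimed for an element of the Sylow subgroup. -/
def tagOK (i : ℕ) : Bool :=
  match tags.getD i (5, [], 0) with
  | (0, _, j) => Nat.blt j 1024 && eqW (sW i ++ sW i) (sW j) && key (sW j) != key [] &&
      ((tags.getD j (5, [], 0)).1 != 3)
  | (1, _, _) => eqW (sW i) tW
  | (2, w, _) => lets cLet w && eqW (sW i) (cjW w (eW eX)) && xs.contains i
  | (3, w, _) => lets cLet w && eqW (sW i) (cjW w [1])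
  | (4, _, _) => eqW (sW i) []
  | _ => false

/-- A number of fixed points. -/
def nFix (w : List ℕ) : ℕ := (List.range 276).countP (fixW w)

/-- The indices that may occur in a conjugate of the elementary subgroup. -/
def smallIdx : List ℕ := 0 :: 1 :: xs

/-- The table entry of a product. -/
def xPart (a k : ℕ) : Bool :=
  (List.range' a k).all fun i => (List.range 54).all fun j =>
    let v := tb xTab i j
    if smallIdx.contains v then eqW (sW (xs.getD i 0) ++ sW (xs.getD j 0)) (sW v) else
      v == 1024 && inL (sW (xs.getD i 0) ++ sW (xs.getD j 0)) &&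
        !smallCodes.contains (code (key (sW (xs.getD i 0) ++ sW (xs.getD j 0))))

/-- Multiplication by the involution. -/
def tmul (x : ℕ) : ℕ := tb sStep x 0
/-- The product of two indices. -/
def xmul (x y : ℕ) : ℕ := tb xTab (xs.idxOf x) (xs.idxOf y)

end Cfsg.Lib.CoThreeRecog
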