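import Cfsg.Agent.CoThreeRecog.DataJ
import Cfsg.Agent.CoThreeRecog.DataJTwo
import Cfsg.Agent.CoThreeRecog.SylDefs

/-!
The centraliser of an involution of the second class: checkers.
-/

set_option autoImplicit false
set_option maxRecDepth 20000

namespace Cfsg.Lib.CoThreeRecog

open Cfsg.Lib.CosetCert Cfsg.Lib.PermCert Cfsg.Lib.CosetCert.OutCert

/-- A representative of a class of involutions: 0 to 3. -/
def repW (k : ℕ) : List ℕ := [tW, tW ++ [1], aWord, aWord ++ [1]].getD k []
/-- An element of the four-group. -/
def vW (k : ℕ) : List ℕ := vWords.getD k []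
/-- A coset representative. -/
def rW (i : ℕ) : List ℕ := lReps.getD i []
/-- An element of the centraliser of both involutions. -/
def kW' (x : ℕ) : List ℕ := rW (x / 4) ++ vW (x % 4)
/-- A conjugate of the second involution. -/
def aW (i : ℕ) : List ℕ := cjW (aOrb.getD i []) aWord
/-- An element of the Sylow subgroup. -/
def jW (i : ℕ) : List ℕ := jsWords.getD i []
/-- A generator of the Sylow subgroup. -/
def jG (k : ℕ) : ℕ := jsGens.getD k 0
/-- The table of the quotient. -/
def lm (i j : ℕ) : ℕ := tb lMul i j
/-- The kind of an element of the quotient. -/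
def lk (i : ℕ) : ℕ := lKind.getD i 0

/-- The witnesses for the four members of a coset of involutions. -/
def witOK (i : ℕ) : Bool :=
  (List.range 4).all fun k =>
    let w := (lWit.getD i []).getD k (4, [])
    Nat.blt w.1 4 && inL w.2 && eqW (cjW w.2 (rW i ++ vW k)) (repW w.1)

/-- The number of members of the first class. -/
def witCount (i : ℕ) : ℕ := (List.range 4).countP fun k => ((lWit.getD i []).getD k (4, [])).1 == 0

/-- A power in the quotient is the identity. -/
def powOne (x : ℕ) (n : ℕ) : Bool := ((List.range n).foldl (fun y _ => lm y x) 0) == 0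

/-- A conjugacy in the quotient. -/
def cjL (k x y : ℕ) : Bool := lm k x == lm y k

end Cfsg.Lib.CoThreeRecog
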