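import Cfsg.Agent.CoThreeRecog.JDefs

/-!
Kernel checks: order and Sylow subgroup of the centraliser of an involution of the second class.
-/

set_option autoImplicit false
set_option maxRecDepth 20000
set_option maxHeartbeats 1000000
set_option Elab.async false

namespace Cfsg.Lib.CoThreeRecog

open Cfsg.Lib.CosetCert Cfsg.Lib.PermCert Cfsg.Lib.CosetCert.OutCert

theorem centU_upper : fullChain chainU = true ∧ chainUpper (keepFix [1]) [] chainU = 190080 := by decide +kernel

theorem rep_ok : (inL aWord && comW aWord [1] && eqW (aWord ++ aWord) [] && comW tW [1] &&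
    (List.range 4).all (fun k => inL (repW k) && key (repW k) != key [] && key (repW k) != key [1]) &&
    (key [] != key [1]) && (key aWord != key (aWord ++ [1])) &&
    nFix (repW 0) == 36 && nFix (repW 1) == 12 && nFix (repW 2) == 12 && nFix (repW 3) == 12) = true := by decide +kernel

theorem aOrb_ok : (aOrb.length == 396 && (List.range 396).all fun i =>
    inL (aOrb.getD i []) && comW (aOrb.getD i []) [1]) = true := by decide +kernel

theorem aOrder_ok : (incr (aOrder.map fun i => code (key (aW i))) && aOrder.all (Nat.blt · 396) &&
    aOrder.length == 396 &&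
    !(aOrder.map fun i => code (key (aW i))).contains (code (key (aWord ++ [1])))) = true := by decide +kernel

theorem j_step : ((List.range 128).all fun i => inL (jW i) && comW (jW i) [1] && (List.range 5).all fun k =>
    Nat.blt (tb jsStep i k) 128 && Nat.blt (jG k) 128 && eqW (jW i ++ jW (jG k)) (jW (tb jsStep i k))) = true ∧
    jW 0 = [] := by decide +kernel

theorem j_tree : ((List.range' 1 127).all fun i => Nat.blt (jsPar.getD i (0, 0)).2 5 &&
    (tb jsStep (jsPar.getD i (0, 0)).1 (jsPar.getD i (0, 0)).2 == i) && Nat.blt (jsPar.getD i (0, 0)).1 i) = true := by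
  decide +kernel

theorem j_nodup : ((List.range 128).map fun i => code (key (jW i))).Nodup := by decide +kernel

theorem j_tags : ((List.range 128).all fun i =>
    match jsTags.getD i (6, [], 0) with
    | (4, _, _) => eqW (jW i) [] || eqW (jW i) [1]
    | (5, _, j) => Nat.blt j 128 && eqW (jW i ++ jW i) (jW j) && key (jW j) != key [] && key (jW j) != key [1]
    | (k, w, _) => Nat.blt k 4 && inL w && comW w [1] && eqW (cjW w (jW i)) (repW k)) = true := by decide +kernel

end Cfsg.Lib.CoThreeRecog
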