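import Cfsg.Agent.CoThreeRecog.JDefs

/-!
Kernel checks: the section of the centraliser of two commuting involutions of the second class.
-/

set_option autoImplicit false
set_option maxRecDepth 20000
set_option maxHeartbeats 1000000
set_option Elab.async false

namespace Cfsg.Lib.CoThreeRecog

open Cfsg.Lib.CosetCert Cfsg.Lib.PermCert Cfsg.Lib.CosetCert.OutCert

theorem v_ok : (vW 0 == [] && vW 1 == [1] && vW 2 == aWord && eqW (vW 3) (aWord ++ [1])) = true := by decide +kernel

theorem r_ok : ((List.range 120).all fun i => inL (rW i) && comW (rW i) [1] && comW (rW i) aWord) = true ∧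
    rW 0 = [] := by decide +kernel

theorem k_order : (incr (lOrder.map fun x => code (key (kW' x))) && lOrder.all (Nat.blt · 480) &&
    lOrder.length == 480) = true := by decide +kernel

theorem l_step : ((List.range lNum).all fun g => (List.range 120).all fun j =>
    Nat.blt (lm (g + 1) j) 120 && Nat.blt (tb lStepV g j) 4 &&
      eqW (rW (g + 1) ++ rW j) (rW (lm (g + 1) j) ++ vW (tb lStepV g j))) = true := by decide +kernel

theorem l_par : ((List.range' 1 119).all fun i =>
    let p := lPar.getD i (0, 0, 0)
    Nat.blt 0 p.1 && Nat.ble p.1 lNum && Nat.blt p.2.1 120 && Nat.blt (lRank.getD p.2.1 0) (lRank.getD i 0) &&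
      lm p.1 p.2.1 == i) = true ∧ ((List.range 120).all fun j => lm 0 j == j) = true := by decide +kernel

theorem l_assoc : ((List.range' 1 119).all fun i =>
    let p := lPar.getD i (0, 0, 0)
    (List.range 120).all fun j => lm i j == lm p.1 (lm p.2.1 j) && Nat.blt (lm i j) 120) = true := by decide +kernel

theorem l_kinds : ((List.range 120).all fun i => i == 0 || lm i i != 0 ||
    ((lk i == 1 || lk i == 2) && witOK i && witCount i == if lk i == 1 then 1 else 0)) = true := by decide +kernel

theorem l_conj : ((List.range 120).all fun i =>
    (!(lk i == 1) || ((List.range 120).any (fun g => lm g g == i) &&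
      (List.range 120).any fun k => (powOne k 3 || powOne k 5) && cjL k dIdx i)) &&
    (!(lk i == 2) || (List.range 120).any fun k => cjL k sIdx i)) = true := by decide +kernel

theorem l_sylow : (lk dIdx == 1 && lk sIdx == 2 && lm fIdx fIdx == dIdx && lm dIdx dIdx == 0 && lm sIdx sIdx == 0 &&
    pEight.length == 8 && decide pEight.Nodup && pEight.all (Nat.blt · 120) && pEight.contains 0 &&
    pEight.contains fIdx && pEight.contains sIdx && fFour.length == 4 && decide fFour.Nodup &&
    fFour.contains 0 && fFour.contains fIdx && fFour.contains dIdx && fFour.all (Nat.blt · 120) &&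
    pEight.all (fun x => pEight.all (fun y => pEight.contains (lm x y)) && (x == 0 || x == dIdx ||
      pEight.any fun y => lm x y != lm y x)) &&
    fFour.all (fun x => fFour.all (fun y => fFour.contains (lm x y)) && (x == 0 || x == dIdx || lm x x != 0))) = true := by
  decide +kernel

theorem l_fifteen : ((List.range 120).all fun x => !(powOne x 3) || x == 0 || (List.range 120).all fun y =>
    !(powOne y 5) || y == 0 || lm x y != lm y x) = true := by decide +kernel

end Cfsg.Lib.CoThreeRecog
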