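import Cfsg.Agent.CoThreeRecog.Classes
import Cfsg.Agent.CoThreeRecog.JMain
import Cfsg.Agent.CoThreeRecog.JTable

/-!
The centraliser of an involution of the second class in the model.
-/

set_option autoImplicit false
set_option maxRecDepth 20000
set_option linter.style.haveILetI false

namespace Cfsg.Lib.CoThreeRecog

open Cfsg Cfsg.Lib.CosetCert Cfsg.Lib.CosetCert.OutCert
open Cfsg.Lib.CoThreeModel (data valid_data grp_eq)

attribute [local irreducible] val lt

/-- The centraliser of the involution of the second class. -/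
def centQ : Subgroup Pm := data.grp ⊓ Subgroup.centralizer {qP}

theorem mem_centQ {z : Pm} : z ∈ centQ ↔ z ∈ data.grp ∧ z * qP = qP * z := by
  rw [centQ, Subgroup.mem_inf, Subgroup.mem_centralizer_singleton_iff]

theorem val_centQ {w : List ℕ} (hw : inL w = true) (h : comW w [1] = true) : val w ∈ centQ :=
  mem_centQ.2 ⟨val_mem hw, comW_sound h⟩

theorem qP_centQ : qP ∈ centQ := mem_centQ.2 ⟨(mem_centP.1 qP_centP).1, rfl⟩

/-- The second involution. -/
def aP : Pm := val aWord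

/-- A representative of a class. -/
def repP (k : ℕ) : Pm := val (repW k)

theorem inL_nil_one : inL [] = true ∧ inL [1] = true := ⟨rfl, rfl⟩

section
attribute [local irreducible] key inL nFix

theorem repP_eqs : repP 0 = tP ∧ repP 1 = tP * qP ∧ repP 2 = aP ∧ repP 3 = aP * qP := by
  refine ⟨?_, ?_, ?_, ?_⟩
  · simp only [repP, repW, List.getD_cons_zero, tP]
  · simp only [repP, repW, List.getD_cons_succ, List.getD_cons_zero, tP, qP, val_app]
  · simp only [repP, repW, List.getD_cons_succ, List.getD_cons_zero, aP]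
  · simp only [repP, repW, List.getD_cons_succ, List.getD_cons_zero, aP, qP, val_app]

theorem rep_facts : (aP ∈ centQ ∧ aP * aP = 1) ∧ (tP ∈ centQ) ∧ aP * qP ≠ aP ∧ qP ≠ 1 ∧
    (∀ k < 4, repP k ∈ data.grp ∧ repP k ≠ 1 ∧ repP k ≠ qP) ∧
    nfp (repP 0) = 36 ∧ nfp (repP 1) = 12 ∧ nfp (repP 2) = 12 ∧ nfp (repP 3) = 12 := by
  obtain ⟨i0, i1⟩ := inL_nil_one
  have h := rep_ok
  simp only [Bool.and_eq_true, List.all_eq_true, List.mem_range, bne_iff_ne, beq_iff_eq] at h
  obtain ⟨⟨⟨⟨⟨⟨⟨⟨⟨⟨ha, hac⟩, ha2⟩, htc⟩, hk⟩, hne⟩, hne2⟩, f0⟩, f1⟩, f2⟩, f3⟩ := h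
  refine ⟨⟨val_centQ ha hac, ?_⟩, mem_centQ.2 ⟨tP_mem, comW_sound htc⟩, fun e => ?_, fun e => ?_,
    fun k hk' => ⟨val_mem (hk k hk').1.1, fun e => ?_, fun e => ?_⟩, ?_, ?_, ?_, ?_⟩
  · rw [aP, ← val_app, eqW_sound ha2, val_nil]
  · exact hne2.symm (key_of_eq (inL_app ha i1) ha (by rw [val_app]; exact e))
  · exact hne.symm (key_of_eq i1 i0 (by rw [val_nil]; exact e))
  · exact (hk k hk').1.2 (key_of_eq (hk k hk').1.1 i0 (by rw [val_nil]; exact e))
  · exact (hk k hk').2 (key_of_eq (hk k hk').1.1 i1 e)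
  all_goals
    rw [repP, nfp_val (hk _ (by norm_num)).1.1]
    assumption

end

/-- A conjugator of the second involution. -/
def oP (i : ℕ) : Pm := val (aOrb.getD i [])

/-- An element centralising both involutions. -/
def kE (x : ℕ) : Pm := val (kW' x)

/-- A coset representative. -/
def rE (i : ℕ) : Pm := val (rW i)

/-- An element of the four-group. -/
def vE (k : ℕ) : Pm := val (vW k)

theorem vE_facts : vE 0 = 1 ∧ vE 1 = qP ∧ vE 2 = aP ∧ vE 3 = aP * qP := by
  have h := v_ok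
  simp only [Bool.and_eq_true, beq_iff_eq] at h
  refine ⟨by rw [vE, h.1.1.1, val_nil], by rw [vE, h.1.1.2]; rfl, by rw [vE, h.1.2]; rfl, ?_⟩
  rw [vE, eqW_sound h.2, val_app]
  rfl

theorem vE_centQ {k : ℕ} (hk : k < 4) : vE k ∈ centQ ∧ vE k * aP = aP * vE k := by
  obtain ⟨h0, h1, h2, h3⟩ := vE_facts
  have ha := rep_facts.1.1
  have hqa : qP * aP = aP * qP := (mem_centQ.1 ha).2.symm
  interval_cases k
  · rw [h0]; exact ⟨one_mem _, by rw [one_mul, mul_one]⟩
  · rw [h1]; exact ⟨qP_centQ, hqa⟩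
  · rw [h2]; exact ⟨ha, rfl⟩
  · rw [h3]; exact ⟨mul_mem ha qP_centQ, by rw [mul_assoc, hqa]⟩

theorem rE_facts {i : ℕ} (hi : i < 120) : inL (rW i) = true ∧ rE i ∈ centQ ∧ rE i * aP = aP * rE i := by
  have h := List.all_eq_true.1 r_ok.1 i (List.mem_range.2 hi)
  simp only [Bool.and_eq_true] at h
  exact ⟨h.1.1, val_centQ h.1.1 h.1.2, comW_sound h.2⟩

theorem rE_zero : rE 0 = 1 := by rw [rE, r_ok.2, val_nil]

theorem kE_eq (x : ℕ) : kE x = rE (x / 4) * vE (x % 4) := val_app _ _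

theorem kE_mem {x : ℕ} (hx : x < 480) : kE x ∈ centQ ∧ kE x * aP = aP * kE x := by
  obtain ⟨-, h1, h2⟩ := rE_facts (show x / 4 < 120 by omega)
  obtain ⟨h3, h4⟩ := vE_centQ (show x % 4 < 4 by omega)
  rw [kE_eq]
  exact ⟨mul_mem h1 h3, by rw [mul_assoc, h4, ← mul_assoc, h2, mul_assoc]⟩

theorem vW_inL {k : ℕ} (hk : k < 4) : inL (vW k) = true := by
  interval_cases k <;> decide +kernel

theorem kW_inL' {x : ℕ} (hx : x < 480) : inL (kW' x) = true :=
  inL_app (rE_facts (show x / 4 < 120 by omega)).1 (vW_inL (show x % 4 < 4 by omega))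

theorem sorted_inj {n : ℕ} {L : List ℕ} {f : ℕ → ℕ} (h1 : incr (L.map f) = true) (h2 : ∀ x ∈ L, x < n)
    (h3 : L.length = n) : (∀ i < n, i ∈ L) ∧ ∀ i < n, ∀ j < n, f i = f j → i = j := by
  have hnd : (L.map f).Nodup := (incr_pairwise _ h1).imp fun h => ne_of_lt h
  have hL : L.Nodup := hnd.of_map _
  have hall : L.toFinset = Finset.range n := Finset.eq_of_subset_of_card_le
    (fun x hx => Finset.mem_range.2 (h2 x (List.mem_toFinset.1 hx)))
    (by rw [Finset.card_range, List.toFinset_card_of_nodup hL, h3])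
  have mem : ∀ i < n, i ∈ L := fun i hi => List.mem_toFinset.1 (hall ▸ Finset.mem_range.2 hi)
  exact ⟨mem, fun i hi j hj e => List.inj_on_of_nodup_map hnd (mem i hi) (mem j hj) e⟩

theorem kE_inj {x y : ℕ} (hx : x < 480) (hy : y < 480) (h : kE x = kE y) : x = y := by
  have hs := k_order
  simp only [Bool.and_eq_true, beq_iff_eq, List.all_eq_true] at hs
  exact (sorted_inj hs.1.1 (fun z hz => Nat.le_of_ble_eq_true (hs.1.2 z hz)) hs.2).2 x hx y hy
    (congrArg code (key_of_eq (kW_inL' hx) (kW_inL' hy) h))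

theorem oP_centQ {i : ℕ} (hi : i < 396) : inL (aOrb.getD i []) = true ∧ oP i ∈ centQ := by
  have h := aOrb_ok
  simp only [Bool.and_eq_true, List.all_eq_true, List.mem_range] at h
  exact ⟨(h.2 i hi).1, val_centQ (h.2 i hi).1 (h.2 i hi).2⟩

theorem aW_spec {i : ℕ} (hi : i < 396) : inL (aW i) = true ∧ val (aW i) = oP i * aP * (oP i)⁻¹ :=
  ⟨inL_cj (oP_centQ hi).1 (by have h := rep_ok; simp only [Bool.and_eq_true] at h; exact h.1.1.1.1.1.1.1.1.1.1),
    val_cj (oP_centQ hi).1 aWord⟩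

theorem orbit_facts : (∀ i < 396, ∀ j < 396, val (aW i) = val (aW j) → i = j) ∧
    ∀ i < 396, val (aW i) ≠ aP * qP := by
  have hs := aOrder_ok
  simp only [Bool.and_eq_true, Bool.not_eq_true', beq_iff_eq, List.all_eq_true] at hs
  obtain ⟨⟨⟨h1, h2⟩, h3⟩, h4⟩ := hs
  obtain ⟨hmem, hinj⟩ := sorted_inj h1 (fun z hz => Nat.le_of_ble_eq_true (h2 z hz)) h3
  refine ⟨fun i hi j hj e => hinj i hi j hj (congrArg code (key_of_eq (aW_spec hi).1 (aW_spec hj).1 e)),
    fun i hi e => ?_⟩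
  have ha : inL aWord = true := by have h := rep_ok; simp only [Bool.and_eq_true] at h; exact h.1.1.1.1.1.1.1.1.1.1
  have hk : key (aW i) = key (aWord ++ [1]) :=
    key_of_eq (aW_spec hi).1 (inL_app ha rfl) (by rw [val_app]; exact e)
  rw [List.contains_iff_mem.2 (List.mem_map.2 ⟨i, hmem i hi, by rw [hk]⟩)] at h4
  exact Bool.noConfusion h4

theorem aOrb_zero : oP 0 = 1 := by
  have : aOrb.getD 0 [] = [] := by decide +kernel
  rw [oP, this, val_nil]

theorem centQ_facts : Nat.card centQ = 190080 ∧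
    ∀ z ∈ centQ, ∃ i < 396, ∃ x < 480, z = oP i * kE x := by
  have hle : Nat.card centQ ≤ 190080 :=
    centU_upper.2 ▸ card_le_fix centU_upper.1 (w := [1]) rfl centQ inf_le_left fun z hz => (mem_centQ.1 hz).2
  let F : Fin 396 × Fin 480 → centQ := fun p =>
    ⟨oP p.1 * kE p.2, mul_mem (oP_centQ p.1.2).2 (kE_mem p.2.2).1⟩
  have hF : Function.Injective F := fun p p' e => by
    have e' : oP p.1 * kE p.2 = oP p'.1 * kE p'.2 := congrArg Subtype.val e
    have hconj : ∀ r : Fin 396 × Fin 480, oP r.1 * kE r.2 * aP * (oP r.1 * kE r.2)⁻¹ = val (aW r.1) := fun r => by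
      rw [(aW_spec r.1.2).2, show oP r.1 * kE r.2 * aP * (oP r.1 * kE r.2)⁻¹ =
        oP r.1 * (kE r.2 * aP) * (kE r.2)⁻¹ * (oP r.1)⁻¹ by group, (kE_mem r.2.2).2]
      group
    have hi : p.1 = p'.1 := Fin.ext (orbit_facts.1 _ p.1.2 _ p'.1.2 (by rw [← hconj p, ← hconj p', e']))
    rw [hi] at e'
    exact Prod.ext hi (Fin.ext (kE_inj p.2.2 p'.2.2 (mul_left_cancel e')))
  haveI : Finite centQ := Subtype.finite
  have hge := Nat.card_le_card_of_injective F hF
  rw [Nat.card_prod, Nat.card_fin, Nat.card_fin] at hge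
  have hbij : Function.Bijective F := (Nat.bijective_iff_injective_and_card F).2 ⟨hF, by
    rw [Nat.card_prod, Nat.card_fin, Nat.card_fin]; omega⟩
  refine ⟨by omega, fun z hz => ?_⟩
  obtain ⟨⟨i, x⟩, e⟩ := hbij.2 ⟨z, hz⟩
  exact ⟨i, i.2, x, x.2, (congrArg Subtype.val e).symm⟩

/-- The stabiliser of the pair. -/
theorem cent_pair {z : Pm} (hz : z ∈ centQ) (h : z * aP * z⁻¹ = aP ∨ z * aP * z⁻¹ = aP * qP) :
    ∃ x < 480, z = kE x := by
  obtain ⟨i, hi, x, hx, rfl⟩ := centQ_facts.2 z hz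
  have e : oP i * kE x * aP * (oP i * kE x)⁻¹ = val (aW i) := by
    rw [(aW_spec hi).2, show oP i * kE x * aP * (oP i * kE x)⁻¹ = oP i * (kE x * aP) * (kE x)⁻¹ * (oP i)⁻¹ by group,
      (kE_mem hx).2]
    group
  rcases h with h | h
  · have h0 : i = 0 := by
      refine orbit_facts.1 i hi 0 (by norm_num) ?_
      rw [← e, h, (aW_spec (by norm_num)).2, aOrb_zero]
      group
    subst h0
    exact ⟨x, hx, by rw [aOrb_zero, one_mul]⟩
  · exact absurd (e.symm.trans h) (orbit_facts.2 i hi)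

/-- An element of the Sylow subgroup. -/
def jE (i : ℕ) : Pm := val (jW i)

theorem j_part {i : ℕ} (hi : i < 128) : inL (jW i) = true ∧ jE i ∈ centQ ∧
    ∀ k < 5, tb jsStep i k < 128 ∧ jG k < 128 ∧ jE i * jE (jG k) = jE (tb jsStep i k) := by
  have h := List.all_eq_true.1 j_step.1 i (List.mem_range.2 hi)
  simp only [Bool.and_eq_true, List.all_eq_true, List.mem_range] at h
  refine ⟨h.1.1, val_centQ h.1.1 h.1.2, fun k hk => ⟨Nat.le_of_ble_eq_true (h.2 k hk).1.1,
    Nat.le_of_ble_eq_true (h.2 k hk).1.2, ?_⟩⟩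
  rw [jE, jE, jE, ← val_app]
  exact eqW_sound (h.2 k hk).2

/-- The Sylow subgroup of the centraliser of the second class. -/
def SJ : Subgroup Pm := Subgroup.closure ((fun k => jE (jG k)) '' Set.Iio 5)

theorem jE_zero : jE 0 = 1 := by rw [jE, j_step.2, val_nil]

theorem SJ_mem : ∀ i < 128, jE i ∈ SJ := by
  intro i
  induction i using Nat.strong_induction_on with
  | _ i ih =>
    intro hi
    rcases Nat.eq_zero_or_pos i with rfl | hpos
    · exact jE_zero ▸ one_mem _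
    have h := List.all_eq_true.1 j_tree i (List.mem_range'_1.2 ⟨hpos, by omega⟩)
    simp only [Bool.and_eq_true, beq_iff_eq] at h
    have hp : (jsPar.getD i (0, 0)).1 < i := Nat.le_of_ble_eq_true h.2
    obtain ⟨-, -, e⟩ := (j_part (lt_trans hp hi)).2.2 _ (Nat.le_of_ble_eq_true h.1.1)
    rw [h.1.2] at e
    rw [← e]
    exact mul_mem (ih _ hp (lt_trans hp hi)) (Subgroup.subset_closure ⟨_, Nat.le_of_ble_eq_true h.1.1, rfl⟩)

theorem SJ_exhaust {z : Pm} (hz : z ∈ SJ) : ∃ i < 128, z = jE i := by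
  have hfin : ((fun k => jE (jG k)) '' Set.Iio 5).Finite := (Set.finite_Iio _).image _
  rw [SJ, ← Subgroup.mem_toSubmonoid, Subgroup.closure_toSubmonoid_of_finite] at hz
  induction hz using Submonoid.closure_induction_right with
  | one => exact ⟨0, by norm_num, jE_zero.symm⟩
  | mul_right x _ y hy ih =>
    obtain ⟨k, hk, rfl⟩ := hy
    obtain ⟨i, hi, rfl⟩ := ih
    obtain ⟨h1, -, h2⟩ := (j_part hi).2.2 k hk
    exact ⟨_, h1, h2⟩

theorem SJ_card : Nat.card SJ = 128 := by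
  rw [← Nat.card_fin 128]
  refine (Nat.card_eq_of_bijective (fun i : Fin 128 => (⟨jE i, SJ_mem i i.2⟩ : SJ)) ⟨?_, ?_⟩).symm
  · intro a b h
    exact Fin.ext (List.inj_on_of_nodup_map j_nodup (List.mem_range.2 a.2) (List.mem_range.2 b.2)
      (congrArg code (key_of_eq (j_part a.2).1 (j_part b.2).1 (congrArg Subtype.val h))))
  · rintro ⟨z, hz⟩
    obtain ⟨i, hi, rfl⟩ := SJ_exhaust hz
    exact ⟨⟨i, hi⟩, rfl⟩

/-- An element squaring into the central four cases. -/
theorem centQ_cases {z : Pm} (hz : z ∈ centQ) (h2 : z * z = 1 ∨ z * z = qP) (h1 : z ≠ 1) (hq : z ≠ qP) :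
    ∃ w ∈ centQ, ∃ k < 4, w * z * w⁻¹ = repP k := by
  haveI : Fact (Nat.Prime 2) := ⟨Nat.prime_two⟩
  haveI : Finite centQ := Subtype.finite
  have hle : SJ ≤ centQ := fun x hx => by
    obtain ⟨i, hi, rfl⟩ := SJ_exhaust hx
    exact (j_part hi).2.1
  obtain ⟨S, hS⟩ := ((IsPGroup.of_card (p := 2) (n := 7) (G := SJ) (by rw [SJ_card]; norm_num)).of_equiv
    (Subgroup.subgroupOfEquivOfLe hle).symm).exists_le_sylow
  have hSJ : (S : Subgroup centQ).map centQ.subtype = SJ := by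
    refine (Subgroup.eq_of_le_of_card_ge (H := SJ) (K := (S : Subgroup centQ).map centQ.subtype)
      (fun x hx => ⟨⟨x, hle hx⟩, hS hx, rfl⟩) ?_).symm
    rw [Subgroup.card_map_of_injective centQ.subtype_injective, SJ_card]
    obtain ⟨k, hk⟩ := IsPGroup.iff_card.1 S.isPGroup'
    have hdvd := Subgroup.card_subgroup_dvd_card (S : Subgroup centQ)
    rw [centQ_facts.1, hk] at hdvd
    rw [hk, show (128 : ℕ) = 2 ^ 7 by norm_num]
    refine Nat.pow_le_pow_right (by norm_num) (not_lt.1 fun h => ?_)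
    exact absurd ((pow_dvd_pow 2 (show 8 ≤ k by omega)).trans hdvd) (by norm_num)
  have h4 : z ^ 4 = 1 := by
    rw [show z ^ 4 = z * z * (z * z) by simp only [pow_succ, pow_zero, one_mul, mul_assoc]]
    rcases h2 with e | e <;> rw [e]
    · rw [one_mul]
    · exact qP_sq
  obtain ⟨k, -, hk⟩ := (Nat.dvd_prime_pow Nat.prime_two).1 (orderOf_dvd_of_pow_eq_one h4 : orderOf z ∣ 2 ^ 2)
  have hQ : Subgroup.zpowers z ≤ centQ := Subgroup.zpowers_le.2 hz
  obtain ⟨R, hR⟩ := ((IsPGroup.of_card (n := k) (G := Subgroup.zpowers z) (by rw [Nat.card_zpowers, hk])).of_equiv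
    (Subgroup.subgroupOfEquivOfLe hQ).symm).exists_le_sylow
  obtain ⟨c, hc⟩ := MulAction.exists_smul_eq centQ R S
  have hmem : (c : Pm) * z * (c : Pm)⁻¹ ∈ SJ := by
    rw [← hSJ, ← hc, Sylow.coe_subgroup_smul]
    exact ⟨c * ⟨z, hz⟩ * c⁻¹, ⟨⟨z, hz⟩, hR (Subgroup.mem_zpowers z), rfl⟩, rfl⟩
  obtain ⟨i, hi, he⟩ := SJ_exhaust hmem
  have hcq : (c : Pm) * qP * (c : Pm)⁻¹ = qP := by rw [(mem_centQ.1 c.2).2, mul_inv_cancel_right]
  have htag := List.all_eq_true.1 j_tags i (List.mem_range.2 hi)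
  generalize hT : jsTags.getD i (6, [], 0) = T at htag
  have hij := (j_part hi).1
  have four : (eqW (jW i) [] || eqW (jW i) [1]) = true → False := fun h => by
    rw [Bool.or_eq_true] at h
    rcases h with h | h
    · exact h1 (conj_eq_one_iff.1 (he.trans (by rw [jE, eqW_sound h, val_nil])))
    · exact hq ((MulAut.conj (c : Pm)).injective ((he.trans (by rw [jE, eqW_sound h]; rfl)).trans hcq.symm))
  have five : ∀ j, (Nat.blt j 128 && eqW (jW i ++ jW i) (jW j) && key (jW j) != key [] && key (jW j) != key [1]) = true →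
      False := fun j h => by
    simp only [Bool.and_eq_true, bne_iff_ne] at h
    have hj := (j_part (Nat.le_of_ble_eq_true h.1.1.1)).1
    have e : val (jW j) = (c : Pm) * (z * z) * (c : Pm)⁻¹ := by
      rw [← eqW_sound h.1.1.2, val_app, show val (jW i) = (c : Pm) * z * (c : Pm)⁻¹ from he.symm]
      group
    rcases h2 with e2 | e2
    · exact h.1.2 (key_of_eq hj rfl (by rw [e, e2, val_nil]; group))
    · exact h.2 (key_of_eq hj rfl (by rw [e, e2, hcq]; rfl))
  have gen : ∀ k w, (Nat.blt k 4 && inL w && comW w [1] && eqW (cjW w (jW i)) (repW k)) = true →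
      ∃ w ∈ centQ, ∃ k < 4, w * z * w⁻¹ = repP k := fun k w h => by
    simp only [Bool.and_eq_true] at h
    refine ⟨val w * c, mul_mem (val_centQ h.1.1.2 h.1.2) c.2, k, Nat.le_of_ble_eq_true h.1.1.1, ?_⟩
    rw [repP, ← eqW_sound h.2, val_cj h.1.1.2, show val (jW i) = (c : Pm) * z * (c : Pm)⁻¹ from he.symm]
    group
  rcases T with ⟨k', w', j'⟩
  rcases k' with _ | _ | _ | _ | _ | _ | k' <;> simp only at htag
  · exact gen _ _ htag
  · exact gen _ _ htag
  · exact gen _ _ htag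
  · exact gen _ _ htag
  · exact absurd htag four
  · exact absurd htag (five j')
  · exact gen _ _ htag

theorem lm_zero {j : ℕ} (hj : j < 120) : lm 0 j = j :=
  beq_iff_eq.1 (List.all_eq_true.1 l_par.2 j (List.mem_range.2 hj))

theorem lm_lt {i j : ℕ} (hi : i < 120) (hj : j < 120) : lm i j < 120 := by
  rcases Nat.eq_zero_or_pos i with rfl | hpos
  · rw [lm_zero hj]; exact hj
  have h := List.all_eq_true.1 (List.all_eq_true.1 l_assoc i (List.mem_range'_1.2 ⟨hpos, by omega⟩)) j (List.mem_range.2 hj)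
  rw [Bool.and_eq_true] at h
  exact Nat.le_of_ble_eq_true h.2

theorem vE_comm {i k : ℕ} (hi : i < 120) (hk : k < 4) : rE i * vE k = vE k * rE i := by
  obtain ⟨h0, h1, h2, h3⟩ := vE_facts
  have hq := (mem_centQ.1 (rE_facts hi).2.1).2
  have ha := (rE_facts hi).2.2
  interval_cases k
  · rw [h0, mul_one, one_mul]
  · rw [h1]; exact hq
  · rw [h2]; exact ha
  · rw [h3, ← mul_assoc, ha, mul_assoc, hq, ← mul_assoc]

/-- The four-group. -/
def Vset : Set Pm := {v | ∃ k < 4, v = vE k}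

theorem Vset_mul {u v : Pm} (hu : u ∈ Vset) (hv : v ∈ Vset) : u * v ∈ Vset := by
  obtain ⟨k, hk, rfl⟩ := hu
  obtain ⟨l, hl, rfl⟩ := hv
  obtain ⟨h0, h1, h2, h3⟩ := vE_facts
  have hqa : qP * aP = aP * qP := (mem_centQ.1 rep_facts.1.1).2.symm
  have ha := rep_facts.1.2
  have m1 : ∀ w : Pm, w = 1 ∨ w = qP ∨ w = aP ∨ w = aP * qP → w ∈ Vset := fun w hw => by
    rcases hw with rfl | rfl | rfl | rfl
    exacts [⟨0, by norm_num, h0.symm⟩, ⟨1, by norm_num, h1.symm⟩, ⟨2, by norm_num, h2.symm⟩, ⟨3, by norm_num, h3.symm⟩]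
  refine m1 _ ?_
  have ca : ∀ w, qP * (aP * w) = aP * (qP * w) := fun w => by rw [← mul_assoc, hqa, mul_assoc]
  have cc : ∀ w, aP * (aP * w) = w := fun w => by rw [← mul_assoc, ha, one_mul]
  interval_cases k <;> interval_cases l <;>
    simp [h0, h1, h2, h3, mul_assoc, qP_sq, ha, hqa, ca, cc]

/-- The table gives the products of the representatives modulo the four-group. -/
theorem rE_mul : ∀ n i, lRank.getD i 0 < n → i < 120 → ∀ j < 120, ∃ v ∈ Vset, rE i * rE j = rE (lm i j) * v := by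
  intro n
  induction n with
  | zero => exact fun i h => absurd h (Nat.not_lt_zero _)
  | succ n ih =>
    intro i hin hi j hj
    rcases Nat.eq_zero_or_pos i with rfl | hpos
    · exact ⟨1, ⟨0, by norm_num, vE_facts.1.symm⟩, by rw [rE_zero, lm_zero hj, one_mul, mul_one]⟩
    have h := List.all_eq_true.1 l_par.1 i (List.mem_range'_1.2 ⟨hpos, by omega⟩)
    simp only [Bool.and_eq_true, beq_iff_eq] at h
    obtain ⟨⟨⟨⟨hg0, hg⟩, hp⟩, hr⟩, he⟩ := h
    have h2 := List.all_eq_true.1 (List.all_eq_true.1 l_assoc i (List.mem_range'_1.2 ⟨hpos, by omega⟩)) j (List.mem_range.2 hj)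
    rw [Bool.and_eq_true, beq_iff_eq] at h2
    set g := (lPar.getD i (0, 0, 0)).1 with hgdef
    set p := (lPar.getD i (0, 0, 0)).2.1 with hpdef
    have hg0' : 1 ≤ g := Nat.le_of_ble_eq_true hg0
    have hgN : g ≤ lNum := Nat.le_of_ble_eq_true hg
    have hg120 : g < 120 := by
      have : lNum < 120 := by decide
      omega
    have hp' : p < 120 := Nat.le_of_ble_eq_true hp
    have hr' : lRank.getD p 0 < n := by
      have : lRank.getD p 0 < lRank.getD i 0 := Nat.le_of_ble_eq_true hr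
      omega
    have step : ∀ x < 120, ∃ v ∈ Vset, rE g * rE x = rE (lm g x) * v := fun x hx => by
      have h3 := List.all_eq_true.1 (List.all_eq_true.1 l_step (g - 1) (List.mem_range.2 (by omega))) x (List.mem_range.2 hx)
      rw [show g - 1 + 1 = g by omega] at h3
      simp only [Bool.and_eq_true] at h3
      exact ⟨_, ⟨_, Nat.le_of_ble_eq_true h3.1.2, rfl⟩, by rw [rE, rE, ← val_app, eqW_sound h3.2, val_app]; rfl⟩
    obtain ⟨v1, ⟨k1, hk1, rfl⟩, e1⟩ := step p hp'
    rw [he] at e1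
    obtain ⟨v2, hv2, e2⟩ := ih p hr' hp' j hj
    obtain ⟨v3, hv3, e3⟩ := step _ (lm_lt hp' hj)
    have hv1 : vE k1 * vE k1 = 1 := by
      obtain ⟨h0, h1, h2', h3'⟩ := vE_facts
      have ha := rep_facts.1.2
      have hqa : qP * aP = aP * qP := (mem_centQ.1 rep_facts.1.1).2.symm
      interval_cases k1
      · rw [h0, mul_one]
      · rw [h1, qP_sq]
      · rw [h2', ha]
      · rw [h3', mul_assoc, ← mul_assoc qP, hqa, mul_assoc, qP_sq, mul_one, ha]
    refine ⟨v3 * v2 * vE k1, Vset_mul (Vset_mul hv3 hv2) ⟨k1, hk1, rfl⟩, ?_⟩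
    calc rE i * rE j = rE g * rE p * vE k1 * rE j := by rw [e1, mul_assoc (rE i), hv1, mul_one]
      _ = rE g * (rE p * rE j) * vE k1 := by rw [mul_assoc (rE g * rE p), ← vE_comm hj hk1]; group
      _ = rE g * rE (lm p j) * v2 * vE k1 := by rw [e2]; group
      _ = rE (lm i j) * (v3 * v2 * vE k1) := by rw [e3, ← h2.1]; group

end Cfsg.Lib.CoThreeRecog
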