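import Cfsg.Agent.CoThreeRecog.Syl
import Cfsg.Agent.CoThreeRecog.EChecks

/-!
Classes of involutions and elementary subgroups of the centraliser in the model.
-/

set_option autoImplicit false
set_option maxRecDepth 20000

namespace Cfsg.Lib.CoThreeRecog

open Cfsg Cfsg.Lib.CosetCert Cfsg.Lib.CosetCert.OutCert
open Cfsg.Lib.CoThreeModel (data valid_data grp_eq)

attribute [local irreducible] val lt

/-- The elementary subgroup, as a set. -/
def Eset : Set Pm := {z | ∃ i < 16, z = eE i}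

theorem SM_pgroup : IsPGroup 2 SM := IsPGroup.of_card (n := 10) (by rw [SM_card]; norm_num)

/-- A 2-subgroup of the centraliser is conjugate into the Sylow subgroup. -/
theorem conj_SM {Q : Subgroup Pm} (hQ : Q ≤ centP) (hQp : IsPGroup 2 Q) :
    ∃ d ∈ centP, ∀ x ∈ Q, d * x * d⁻¹ ∈ SM := by
  haveI : Fact (Nat.Prime 2) := ⟨Nat.prime_two⟩
  haveI : Finite centP := Nat.finite_of_card_ne_zero (by rw [card_centP]; norm_num)
  obtain ⟨S, hS⟩ := (SM_pgroup.of_equiv (Subgroup.subgroupOfEquivOfLe SM_le).symm).exists_le_sylow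
  have hSM : (S : Subgroup centP).map centP.subtype = SM := by
    refine (Subgroup.eq_of_le_of_card_ge (H := SM) (K := (S : Subgroup centP).map centP.subtype)
      (fun x hx => ⟨⟨x, SM_le hx⟩, hS hx, rfl⟩) ?_).symm
    rw [Subgroup.card_map_of_injective centP.subtype_injective, SM_card]
    obtain ⟨k, hk⟩ := IsPGroup.iff_card.1 S.isPGroup'
    have hdvd := Subgroup.card_subgroup_dvd_card (S : Subgroup centP)
    rw [card_centP, hk] at hdvd
    rw [hk, show (1024 : ℕ) = 2 ^ 10 by norm_num]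
    refine Nat.pow_le_pow_right (by norm_num) (not_lt.1 fun h => ?_)
    exact absurd ((pow_dvd_pow 2 (show 11 ≤ k by omega)).trans hdvd) (by norm_num)
  obtain ⟨R, hR⟩ := (hQp.of_equiv (Subgroup.subgroupOfEquivOfLe hQ).symm).exists_le_sylow
  obtain ⟨c, hc⟩ := MulAction.exists_smul_eq centP R S
  refine ⟨c, c.2, fun q hq => ?_⟩
  rw [← hSM, ← hc, Sylow.coe_subgroup_smul]
  exact ⟨c * ⟨q, hQ hq⟩ * c⁻¹, ⟨⟨q, hQ hq⟩, hR hq, rfl⟩, rfl⟩

theorem conj_cases {d z : Pm} (hd : d ∈ centP) (h : d * z * d⁻¹ = tP ∨ IsX (d * z * d⁻¹) ∨ IsY (d * z * d⁻¹)) :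
    z = tP ∨ IsX z ∨ IsY z := by
  have e : z = d⁻¹ * (d * z * d⁻¹) * d⁻¹⁻¹ := by group
  rcases h with h | h | h
  · left
    rw [e, h, inv_inv, mul_assoc, ← tP_comm hd, inv_mul_cancel_left]
  · exact Or.inr (Or.inl (e ▸ h.conj (inv_mem hd)))
  · exact Or.inr (Or.inr (e ▸ h.conj (inv_mem hd)))

/-- The involutions of the centraliser. -/
theorem invol_cases {z : Pm} (hz : z ∈ centP) (h : z * z = 1) (h1 : z ≠ 1) : z = tP ∨ IsX z ∨ IsY z := by
  obtain ⟨d, hd, hdS⟩ := conj_SM (Subgroup.zpowers_le.2 hz) (IsPGroup.of_card (n := 1) (by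
    rw [Nat.card_zpowers, pow_one]
    exact orderOf_eq_prime (by rw [pow_two, h]) h1))
  refine conj_cases hd (invol_SM (hdS z (Subgroup.mem_zpowers z)) ?_ fun e => h1 (conj_eq_one_iff.1 e))
  rw [show d * z * d⁻¹ * (d * z * d⁻¹) = d * (z * z) * d⁻¹ by group, h, mul_one, mul_inv_cancel]

/-- No element of the centraliser squares to an involution of the second class. -/
theorem root_Y {z : Pm} (hz : z ∈ centP) (h : IsY (z * z)) : False := by
  have h4 : z ^ 4 = 1 := by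
    obtain ⟨d, hd, hde⟩ := h
    rw [show z ^ 4 = z * z * (z * z) by simp only [pow_succ, pow_zero, one_mul, mul_assoc], ← hde,
      show d * qP * d⁻¹ * (d * qP * d⁻¹) = d * (qP * qP) * d⁻¹ by group, qP_sq, mul_one, mul_inv_cancel]
  obtain ⟨k, -, hk⟩ := (Nat.dvd_prime_pow Nat.prime_two).1 (orderOf_dvd_of_pow_eq_one h4 : orderOf z ∣ 2 ^ 2)
  obtain ⟨d, hd, hdS⟩ := conj_SM (Subgroup.zpowers_le.2 hz) (IsPGroup.of_card (n := k) (by rw [Nat.card_zpowers, hk]))
  refine no_root_Y (hdS z (Subgroup.mem_zpowers z)) ?_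
  rw [show d * z * d⁻¹ * (d * z * d⁻¹) = d * (z * z) * d⁻¹ by group]
  exact h.conj hd

theorem xs_facts : xs.length = 54 ∧ (∀ x ∈ xs, x < 1024 ∧ 1 < x) ∧
    (∀ u ∈ smallIdx, tmul u ∈ smallIdx) ∧ sG 0 = 1 := by
  have h := xs_ok
  simp only [Bool.and_eq_true, beq_iff_eq, List.all_eq_true] at h
  exact ⟨h.1.1.1, fun x hx => ⟨Nat.le_of_ble_eq_true (h.1.1.2 x hx).1, Nat.le_of_ble_eq_true (h.1.1.2 x hx).2⟩,
    fun u hu => List.contains_iff_mem.1 (h.1.2 u hu), h.2⟩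

theorem tmul_spec {u : ℕ} (hu : u < 1024) : tmul u < 1024 ∧ sE' u * tP = sE' (tmul u) := by
  have := s_step hu (show (0 : ℕ) < 5 by norm_num)
  rw [xs_facts.2.2.2, s_facts.2.1] at this
  exact this

theorem xmul_spec {u v w : ℕ} (hu : u ∈ xs) (hv : v ∈ xs) (hw : w ∈ smallIdx) (e : sE' u * sE' v = sE' w) :
    xmul u v = w := by
  have hi : xs.idxOf u < 54 := xs_facts.1 ▸ List.idxOf_lt_length_iff.2 hu
  have hj : xs.idxOf v < 54 := xs_facts.1 ▸ List.idxOf_lt_length_iff.2 hv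
  have gu : xs.getD (xs.idxOf u) 0 = u := by
    rw [List.getD_eq_getElem _ _ (List.idxOf_lt_length_iff.2 hu)]
    exact List.getElem_idxOf _
  have gv : xs.getD (xs.idxOf v) 0 = v := by
    rw [List.getD_eq_getElem _ _ (List.idxOf_lt_length_iff.2 hv)]
    exact List.getElem_idxOf _
  have hp : ∀ a, xPart a 9 = true → a ≤ xs.idxOf u → xs.idxOf u < a + 9 → xmul u v = w := by
    intro a h h1 h2
    have := List.all_eq_true.1 (List.all_eq_true.1 h _ (List.mem_range'_1.2 ⟨h1, h2⟩)) _ (List.mem_range.2 hj)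
    simp only [gu, gv] at this
    by_cases hs : smallIdx.contains (tb xTab (xs.idxOf u) (xs.idxOf v)) = true
    · rw [if_pos hs] at this
      refine sE_inj (small_lt (List.contains_iff_mem.1 hs)) (small_lt hw) ?_
      rw [← e, sE', sE', sE', ← val_app]
      exact (eqW_sound this).symm
    · rw [if_neg hs] at this
      simp only [Bool.and_eq_true, Bool.not_eq_true'] at this
      have hu' := s_inL (xs_facts.2.1 u hu).1
      have hv' := s_inL (xs_facts.2.1 v hv).1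
      have hk : key (sW u ++ sW v) = key (sW w) :=
        key_of_eq (inL_app hu' hv') (s_inL (small_lt hw)) (by rw [val_app]; exact e)
      rw [hk, List.contains_iff_mem.2 (smallCodes_ok ▸ List.mem_map.2 ⟨w, hw, rfl⟩)] at this
      exact Bool.noConfusion this.2
  rcases (by omega : xs.idxOf u < 9 ∨ (9 ≤ xs.idxOf u ∧ xs.idxOf u < 18) ∨ (18 ≤ xs.idxOf u ∧ xs.idxOf u < 27) ∨
    (27 ≤ xs.idxOf u ∧ xs.idxOf u < 36) ∨ (36 ≤ xs.idxOf u ∧ xs.idxOf u < 45) ∨ 45 ≤ xs.idxOf u) with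
    h | h | h | h | h | h
  exacts [hp 0 x0 (Nat.zero_le _) h, hp 9 x1 h.1 h.2, hp 18 x2 h.1 h.2, hp 27 x3 h.1 h.2, hp 36 x4 h.1 h.2,
    hp 45 x5 h (by omega)]

theorem triple_spec {x y z : ℕ} (hx : x ∈ xs) (hy : y ∈ xs) (hz : z ∈ xs) (hyx : y ≠ x) (hyt : y ≠ tmul x)
    (hz' : z ∉ [x, tmul x, y, tmul y, xmul x y, tmul (xmul x y)]) (h1 : xmul x y ∈ xs) (h2 : xmul x z ∈ xs)
    (h3 : xmul y z ∈ xs) (h4 : xmul (xmul x y) z ∈ xs) :
    ∃ q ∈ subs, ∀ e ∈ q.1, e ∈ span3 x y z := by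
  have hi : xs.idxOf x < 54 := xs_facts.1 ▸ List.idxOf_lt_length_iff.2 hx
  have gx : xs.getD (xs.idxOf x) 0 = x := by
    rw [List.getD_eq_getElem _ _ (List.idxOf_lt_length_iff.2 hx)]
    exact List.getElem_idxOf _
  have hp : ∀ a, triPart a 6 = true → a ≤ xs.idxOf x → xs.idxOf x < a + 6 → ∃ q ∈ subs, ∀ e ∈ q.1, e ∈ span3 x y z := by
    intro a h h1' h2'
    have := List.all_eq_true.1 (List.all_eq_true.1 h _ (List.mem_range'_1.2 ⟨h1', h2'⟩)) y
    simp only [gx] at this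
    have := this hy
    simp only [Bool.or_eq_true, beq_iff_eq, hyx, hyt, false_or, Bool.not_eq_true', List.all_eq_true] at this
    rcases this with h | h
    · rw [List.contains_iff_mem.2 h1] at h; exact Bool.noConfusion h
    rcases h z hz with (((h | h) | h) | h) | h
    · exact absurd (List.contains_iff_mem.1 h) hz'
    · rw [List.contains_iff_mem.2 h2] at h; exact Bool.noConfusion h
    · rw [List.contains_iff_mem.2 h3] at h; exact Bool.noConfusion h
    · rw [List.contains_iff_mem.2 h4] at h; exact Bool.noConfusion h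
    · obtain ⟨q, hq, hqq⟩ := List.any_eq_true.1 h
      exact ⟨q, hq, fun e he => List.contains_iff_mem.1 (List.all_eq_true.1 hqq e he)⟩
  rcases (by omega : xs.idxOf x < 6 ∨ (6 ≤ xs.idxOf x ∧ xs.idxOf x < 12) ∨ (12 ≤ xs.idxOf x ∧ xs.idxOf x < 18) ∨
    (18 ≤ xs.idxOf x ∧ xs.idxOf x < 24) ∨ (24 ≤ xs.idxOf x ∧ xs.idxOf x < 30) ∨ (30 ≤ xs.idxOf x ∧ xs.idxOf x < 36) ∨
    (36 ≤ xs.idxOf x ∧ xs.idxOf x < 42) ∨ (42 ≤ xs.idxOf x ∧ xs.idxOf x < 48) ∨ 48 ≤ xs.idxOf x) with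
    h | h | h | h | h | h | h | h | h
  exacts [hp 0 tri0 (Nat.zero_le _) h, hp 6 tri1 h.1 h.2, hp 12 tri2 h.1 h.2, hp 18 tri3 h.1 h.2,
    hp 24 tri4 h.1 h.2, hp 30 tri5 h.1 h.2, hp 36 tri6 h.1 h.2, hp 42 tri7 h.1 h.2, hp 48 tri8 h (by omega)]

/-- An elementary subgroup of order sixteen of first-class involutions is conjugate to the elementary subgroup. -/
theorem elem16 {B : Subgroup Pm} (hB : B ≤ centP) (hcard : Nat.card B = 16)
    (hkind : ∀ b ∈ B, b * b = 1 ∧ (b = 1 ∨ b = tP ∨ IsX b)) (ht : tP ∈ B) :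
    ∃ d ∈ centP, ∀ b ∈ B, d * b * d⁻¹ ∈ Eset := by
  classical
  obtain ⟨d, hd, hdS⟩ := conj_SM hB (IsPGroup.of_card (n := 4) (by rw [hcard]; norm_num))
  let B' : Subgroup Pm := B.map (MulAut.conj d).toMonoidHom
  have hidx : ∀ b ∈ B', ∃ u ∈ smallIdx, b = sE' u := by
    rintro _ ⟨b, hb, rfl⟩
    show ∃ u ∈ smallIdx, d * b * d⁻¹ = sE' u
    refine idx_small (hdS b hb) ?_
    rcases (hkind b hb).2 with rfl | rfl | h
    · exact Or.inl (by group)
    · exact Or.inr (Or.inl (by rw [tP_comm hd, mul_inv_cancel_right]))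
    · exact Or.inr (Or.inr (h.conj hd))
  let T : Finset ℕ := smallIdx.toFinset.filter fun u => sE' u ∈ B'
  have hmem : ∀ u, u ∈ T ↔ u ∈ smallIdx ∧ sE' u ∈ B' := fun u => by simp [T]
  have hT : T.card = 16 := by
    rw [← hcard, ← Subgroup.card_map_of_injective (f := (MulAut.conj d).toMonoidHom) (K := B)
      (MulAut.conj d).injective, ← Nat.card_eq_finsetCard]
    refine Nat.card_eq_of_bijective (fun i : T => (⟨sE' i, ((hmem i).1 i.2).2⟩ : B')) ⟨fun a b h => ?_, fun z => ?_⟩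
    · exact Subtype.ext (sE_inj (small_lt ((hmem a).1 a.2).1) (small_lt ((hmem b).1 b.2).1) (congrArg Subtype.val h))
    · obtain ⟨u, hu, e⟩ := hidx z.1 z.2
      exact ⟨⟨u, (hmem u).2 ⟨hu, e ▸ z.2⟩⟩, Subtype.ext e.symm⟩
  have htB : tP ∈ B' := ⟨tP, ht, show d * tP * d⁻¹ = tP by rw [tP_comm hd, mul_inv_cancel_right]⟩
  have h0 : 0 ∈ T := (hmem 0).2 ⟨by simp [smallIdx], s_facts.1 ▸ one_mem _⟩
  have h1 : 1 ∈ T := (hmem 1).2 ⟨by simp [smallIdx], s_facts.2.1 ▸ htB⟩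
  have tT : ∀ u ∈ T, tmul u ∈ T := fun u hu => by
    obtain ⟨hu', huB⟩ := (hmem u).1 hu
    exact (hmem _).2 ⟨xs_facts.2.2.1 u hu', (tmul_spec (small_lt hu')).2 ▸ mul_mem huB htB⟩
  have xT : ∀ u ∈ T, ∀ v ∈ T, u ∈ xs → v ∈ xs → xmul u v ∈ T ∧ sE' u * sE' v = sE' (xmul u v) := by
    intro u hu v hv hu2 hv2
    obtain ⟨w, hw, e⟩ := hidx _ (mul_mem ((hmem u).1 hu).2 ((hmem v).1 hv).2)
    rw [xmul_spec hu2 hv2 hw e]
    exact ⟨(hmem w).2 ⟨hw, e ▸ mul_mem ((hmem u).1 hu).2 ((hmem v).1 hv).2⟩, e⟩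
  have big : ∀ u ∈ T, u ≠ 0 → u ≠ 1 → u ∈ xs := fun u hu a b => by
    have := ((hmem u).1 hu).1
    simpa [smallIdx, a, b] using this
  have sq : ∀ u ∈ T, sE' u * sE' u = 1 := fun u hu => by
    obtain ⟨b, hb, e⟩ := ((hmem u).1 hu).2
    rw [← e]
    show d * b * d⁻¹ * (d * b * d⁻¹) = 1
    rw [show d * b * d⁻¹ * (d * b * d⁻¹) = d * (b * b) * d⁻¹ by group, (hkind b hb).1, mul_one, mul_inv_cancel]
  have pick : ∀ L : List ℕ, L.length < 16 → ∃ u ∈ T, u ∉ L := fun L hL => by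
    obtain ⟨u, hu, hu'⟩ := Finset.exists_mem_notMem_of_card_lt_card
      (show L.toFinset.card < T.card from lt_of_le_of_lt (List.toFinset_card_le L) (by omega))
    exact ⟨u, hu, fun h => hu' (List.mem_toFinset.2 h)⟩
  obtain ⟨x, hx, hx'⟩ := pick [0, 1] (by simp)
  simp only [List.mem_cons, List.not_mem_nil, or_false, not_or] at hx'
  have hxx := big x hx hx'.1 hx'.2
  obtain ⟨y, hy, hy'⟩ := pick [0, 1, x, tmul x] (by simp)
  simp only [List.mem_cons, List.not_mem_nil, or_false, not_or] at hy'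
  have hyy := big y hy hy'.1 hy'.2.1
  obtain ⟨hxy, exy⟩ := xT x hx y hy hxx hyy
  -- products of independent elements are of the first class
  have ne01 : ∀ u ∈ T, ∀ v ∈ T, u ∈ xs → v ∈ xs → v ≠ u → v ≠ tmul u → xmul u v ∈ xs := by
    intro u hu v hv hu2 hv2 hne hnt
    obtain ⟨hw, e⟩ := xT u hu v hv hu2 hv2
    have hu3 := (xs_facts.2.1 u hu2).1
    have hv3 := (xs_facts.2.1 v hv2).1
    refine big _ hw (fun h => hne ?_) fun h => hnt ?_
    · rw [h, s_facts.1] at e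
      refine sE_inj hv3 hu3 ?_
      calc sE' v = sE' u * sE' u * sE' v := by rw [sq u hu, one_mul]
        _ = sE' u := by rw [mul_assoc, e, mul_one]
    · rw [h, s_facts.2.1] at e
      refine sE_inj hv3 (tmul_spec hu3).1 ?_
      calc sE' v = sE' u * sE' u * sE' v := by rw [sq u hu, one_mul]
        _ = sE' (tmul u) := by rw [mul_assoc, e, (tmul_spec hu3).2]
  have hxy2 := ne01 x hx y hy hxx hyy hy'.2.2.1 hy'.2.2.2
  obtain ⟨z, hz, hz'⟩ := pick [0, 1, x, tmul x, y, tmul y, xmul x y, tmul (xmul x y)] (by simp)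
  simp only [List.mem_cons, List.not_mem_nil, or_false, not_or] at hz'
  obtain ⟨z0, z1, zx, ztx, zy, zty, zw, ztw⟩ := hz'
  have hzz := big z hz z0 z1
  obtain ⟨q, hq, hqs⟩ := triple_spec hxx hyy hzz hy'.2.2.1 hy'.2.2.2
    (by simp only [List.mem_cons, List.not_mem_nil, or_false, not_or]; exact ⟨zx, ztx, zy, zty, zw, ztw⟩)
    hxy2 (ne01 x hx z hz hxx hzz zx ztx) (ne01 y hy z hz hyy hzz zy zty) (ne01 _ hxy z hz hxy2 hzz zw ztw)
  have hsp : ∀ e ∈ span3 x y z, e ∈ T := by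
    intro e he
    obtain ⟨hxz, -⟩ := xT x hx z hz hxx hzz
    obtain ⟨hyz, -⟩ := xT y hy z hz hyy hzz
    obtain ⟨hwz, -⟩ := xT _ hxy z hz hxy2 hzz
    simp only [span3, List.mem_cons, List.not_mem_nil, or_false] at he
    rcases he with rfl | rfl | rfl | rfl | rfl | rfl | rfl | rfl | rfl | rfl | rfl | rfl | rfl | rfl | rfl | rfl <;>
      first
      | assumption
      | exact tT _ (by assumption)
  have hs := List.all_eq_true.1 subs_ok.1 q hq
  simp only [Bool.and_eq_true, List.all_eq_true, List.mem_range, beq_iff_eq, decide_eq_true_eq] at hs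
  obtain ⟨⟨⟨⟨⟨hw, hlen⟩, hnd⟩, hsm⟩, hlen2⟩, hconj⟩ := hs
  have hTq : ∀ u ∈ T, u ∈ q.1 := by
    have := Finset.eq_of_subset_of_card_le (s := q.1.toFinset) (t := T)
      (fun e he => hsp e (hqs e (List.mem_toFinset.1 he)))
      (by rw [hT, List.toFinset_card_of_nodup hnd, hlen])
    exact fun u hu => List.mem_toFinset.1 (this ▸ hu)
  refine ⟨(val q.2.1)⁻¹ * d, mul_mem (inv_mem (val_centP hw)) hd, fun b hb => ?_⟩
  obtain ⟨u, hu, e⟩ := hidx (d * b * d⁻¹) ⟨b, hb, rfl⟩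
  have huT : u ∈ T := (hmem u).2 ⟨hu, e ▸ ⟨b, hb, rfl⟩⟩
  have hu2 : u ∈ q.2.2 := List.contains_iff_mem.1 (hsm u (hTq u huT)).2
  obtain ⟨k, hk, ek⟩ := List.getElem_of_mem hu2
  have hk16 : k < 16 := hlen2 ▸ hk
  obtain ⟨-, heq⟩ := hconj k hk16
  rw [List.getD_eq_getElem _ _ hk, ek] at heq
  refine ⟨k, hk16, ?_⟩
  have h2 := eqW_sound heq
  rw [val_cj (lets_inL cLet_lt hw)] at h2
  rw [show (val q.2.1)⁻¹ * d * b * ((val q.2.1)⁻¹ * d)⁻¹ = (val q.2.1)⁻¹ * (d * b * d⁻¹) * val q.2.1 by group, e,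
    sE', ← h2, eE]
  group

/-- The elements centralising the elementary subgroup. -/
def centE : Subgroup Pm where
  carrier := {z | z ∈ data.grp ∧ ∀ i < 16, z * eE i = eE i * z}
  one_mem' := ⟨one_mem _, fun i _ => by simp⟩
  mul_mem' := fun {a b} ha hb => ⟨mul_mem ha.1 hb.1, fun i hi => by
    rw [mul_assoc, hb.2 i hi, ← mul_assoc, ha.2 i hi, mul_assoc]⟩
  inv_mem' := fun {a} ha => ⟨inv_mem ha.1, fun i hi => by
    rw [inv_mul_eq_iff_eq_mul, ← mul_assoc, ha.2 i hi, mul_inv_cancel_right]⟩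

theorem card_centE : Nat.card centE ≤ 16 := by
  refine le_trans (card_le_upper centE_upper.1 keepE centE (fun _ hz => hz.1) fun z hz pre b hb hpre => ?_)
    (le_of_eq centE_upper.2)
  refine List.all_eq_true.2 fun e he => ?_
  rw [List.mem_range] at he
  have hw := eW_inL he
  have hcom : evalW letTabs (eW e) (imgN z b) = imgN z (evalW letTabs (eW e) b) := by
    rw [← imgN_val hw (imgN_lt z hb), ← imgN_val hw hb]
    exact imgN_comm (hz.2 e he) hb
  have hlt : evalW letTabs (eW e) b < data.n := imgN_val hw hb ▸ imgN_lt _ hb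
  have inj : ∀ {u v : ℕ}, u < data.n → v < data.n → imgN z u = imgN z v → u = v := fun {u v} hu hv h => by
    rw [imgN, imgN, dif_pos hu, dif_pos hv] at h
    exact congrArg Fin.val (z⁻¹.injective (Fin.ext h))
  rw [Bool.and_eq_true, beq_iff_eq, List.all_eq_true]
  refine ⟨?_, fun a ha => ?_⟩
  · rw [fixW, fixW, Bool.eq_iff_iff, beq_iff_eq, beq_iff_eq, hcom]
    exact ⟨fun h => inj hlt hb h, fun h => by rw [h]⟩
  · obtain ⟨ha', hza⟩ := hpre a ha
    rw [beq_iff_eq, Bool.eq_iff_iff, beq_iff_eq, beq_iff_eq, hcom]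
    exact ⟨fun h => inj hlt ha' (h.trans hza.symm), fun h => by rw [h, hza]⟩

/-- The elementary subgroup is its own centraliser. -/
theorem cent_E {z : Pm} (hz : z ∈ centP) (h : ∀ i < 16, z * eE i = eE i * z) : z ∈ Eset := by
  by_contra hne
  let f : Option (Fin 16) → centE := fun o => o.elim ⟨z, (mem_centP.1 hz).1, h⟩
    fun i => ⟨eE i, (mem_centP.1 (eE_centP i.2)).1, fun j hj => eE_comm i.2 hj⟩
  have hf : Function.Injective f := by
    rintro (_ | i) (_ | j) e <;> have e' := congrArg Subtype.val e <;> simp only [f, Option.elim] at e'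
    · rfl
    · exact absurd ⟨j, j.2, e'⟩ hne
    · exact absurd ⟨i, i.2, e'.symm⟩ hne
    · exact congrArg some (Fin.ext (eE_inj i.2 j.2 e'))
  have := (Nat.card_le_card_of_injective f hf).trans card_centE
  rw [Nat.card_eq_fintype_card, Fintype.card_option, Fintype.card_fin] at this
  omega

end Cfsg.Lib.CoThreeRecog
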