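import Cfsg.Agent.CoThreeRecog.Hom
import Cfsg.Agent.CoThreeRecog.CertV1.Valid
import Cfsg.Agent.CoThreeRecog.CertV7.Valid
import Cfsg.Agent.CoThreeRecog.CertX.Valid
import Cfsg.Agent.CoThreeRecog.CertXs.Valid
import Cfsg.Agent.CoThreeRecog.CertP.Valid
import Cfsg.Agent.CoThreeRecog.CertPs.Valid
import Cfsg.Agent.CoThreeRecog.CertPsp.Valid

/-!
The three parameters of the extra involution vanish.
-/

set_option autoImplicit false
set_option maxRecDepth 20000
set_option linter.style.haveILetI false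

namespace Cfsg.Lib.CoThreeRecog

open Cfsg Cfsg.Lib.CosetCert Cfsg.Lib.CosetCert.OutCert
open Cfsg.Lib.CoThreeModel (data valid_data grp_eq)

attribute [local irreducible] val lt

theorem eE_eW {i : ℕ} : val (eW i) = eE i := rfl

namespace Ctx

variable {G : Type*} [Group G] [Finite G] (c : Ctx G)

/-- The images of the five letters. -/
noncomputable def X (a : G) (l : ℕ) : G := if l = 3 then a else c.f (lt l)

theorem wval_X (a : G) : ∀ {w : List ℕ}, lets cLet w = true → wval (c.X a) w = c.f (val w)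
  | [], _ => by simp [wval, val_nil, c.f_one]
  | l :: w, h => by
    have h' := h
    rw [lets, List.all_cons, Bool.and_eq_true, List.contains_iff_mem] at h'
    have hl : l ≠ 3 := fun e => by subst e; exact absurd h'.1 (by decide)
    rw [show wval (c.X a) (l :: w) = c.X a l * wval (c.X a) w by simp [wval], wval_X a h'.2, X, if_neg hl, val_cons,
      c.f_mul (lt_centP h'.1) (val_centP h'.2)]

theorem acts_letter {l i : ℕ} (hl : l ∈ cLet) (hn : l ∈ nLet) (hi : i < 16) :
    c.f (lt l) * c.ge i * (c.f (lt l))⁻¹ = c.ge (tb eAct l i) := by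
  have h1 : lets cLet [l] = true := by simp [lets, hl]
  rw [Ctx.ge, ← val_one l, eE, ← c.f_cj h1 (eW_ok hi).1, (eAct_spec hn hi).2]
  rfl

theorem f_sq {l : ℕ} (hl : l ∈ cLet) : c.f (lt l) * c.f (lt l) = 1 := by
  rw [← c.f_mul (lt_centP hl) (lt_centP hl), lt_sq (cLet_lt l hl), c.f_one]

theorem cube {a : G} (ha : a * a = 1) (hact : ∀ i < 16, a * c.ge i * a⁻¹ = c.ge (pap sig i)) {l : ℕ}
    (hl : l = 0 ∨ l = 2) : ∃ e < 16, (a * c.f (lt l) * (a * c.f (lt l)) * (a * c.f (lt l)) = c.ge e) ∧
      (c.f (lt l) * a * (c.f (lt l) * a) * (c.f (lt l) * a) = c.ge e) ∧ (e = 0 ∨ (l = 2 ∧ e = 5)) := by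
  have hl' : l ∈ cLet ∧ l ∈ nLet := by rcases hl with rfl | rfl <;> decide
  set y := a * c.f (lt l) with hy
  have hya : ∀ i < 16, y * c.ge i * y⁻¹ = c.ge (pap sig (tb eAct l i)) := fun i hi => by
    rw [hy, show a * c.f (lt l) * c.ge i * (a * c.f (lt l))⁻¹ = a * (c.f (lt l) * c.ge i * (c.f (lt l))⁻¹) * a⁻¹ by
      group, c.acts_letter hl'.1 hl'.2 hi, hact _ (eAct_spec hl'.2 hi).1]
  have hF : ∀ i < 16, pap sig (tb eAct l i) < 16 := fun i hi => (sig_facts (eAct_spec hl'.2 hi).1).2.1
  have htriv := fun i hi => List.all_eq_true.1 triv_ok.1 i (List.mem_range.2 hi)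
  obtain ⟨e, he, hye⟩ := c.cent_ge (g := y * y * y) fun i hi => by
    have h := htriv i hi
    simp only [Bool.and_eq_true, List.all_eq_true, beq_iff_eq] at h
    have h3 := h.1.1 l (by rcases hl with rfl | rfl <;> simp)
    calc y * y * y * c.ge i = y * (y * (y * c.ge i * y⁻¹) * y⁻¹) * y⁻¹ * (y * y * y) := by group
      _ = c.ge i * (y * y * y) := by rw [hya i hi, hya _ (hF i hi), hya _ (hF _ (hF i hi)), h3]
  have hli : (c.f (lt l))⁻¹ = c.f (lt l) := inv_eq_of_mul_eq_one_left (c.f_sq hl'.1)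
  have hai : a⁻¹ = a := inv_eq_of_mul_eq_one_left ha
  have hrev : c.f (lt l) * a = y⁻¹ := by rw [hy, mul_inv_rev, hli, hai]
  have hinv : c.f (lt l) * a * (c.f (lt l) * a) * (c.f (lt l) * a) = c.ge e := by
    rw [hrev, show y⁻¹ * y⁻¹ * y⁻¹ = (y * y * y)⁻¹ by group, hye, inv_eq_of_mul_eq_one_left (c.ge_sq he)]
  refine ⟨e, he, hye, hinv, ?_⟩
  have hfix : pap sig e = e := c.ge_inj (sig_facts he).2.1 he (by
    rw [← hact e he]
    nth_rw 1 [← hye]
    rw [hai]
    calc a * (y * y * y) * a = a * a * (c.f (lt l) * a * (c.f (lt l) * a) * (c.f (lt l) * a)) := by rw [hy]; group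
      _ = _ := by rw [ha, one_mul, hinv])
  have hfix2 : pap sig (tb eAct l e) = e := c.ge_inj (hF e he) he (by
    rw [← hya e he, ← hye]
    group)
  have hl3 : tb eAct l e = e := by
    have := congrArg (pap sig) hfix2
    rwa [(sig_facts (eAct_spec hl'.2 he).1).1, hfix] at this
  have h := htriv e he
  simp only [Bool.and_eq_true, Bool.or_eq_true, Bool.not_eq_true', Bool.and_eq_false_iff, beq_iff_eq,
    beq_eq_false_iff_ne, ne_eq] at h
  rcases hl with rfl | rfl
  · rcases h.1.2 with (h' | h') | h'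
    · exact absurd hfix h'
    · exact absurd hl3 h'
    · exact Or.inl h'
  · rcases h.2 with ((h' | h') | h') | h'
    · exact absurd hfix h'
    · exact absurd hl3 h'
    · exact Or.inl h'
    · exact Or.inr ⟨rfl, h'⟩

/-- The second class moves as in the model up to one parameter. -/
theorem exists_s {a : G} (ha : a * a = 1) (hact : ∀ i < 16, a * c.ge i * a⁻¹ = c.ge (pap sig i))
    (hg : ∀ j < 3, a * c.f (val (gW j)) * a⁻¹ = c.f (val (iW j))) :
    ∃ s, (s = 0 ∨ s = 1 ∨ s = 7 ∨ s = 15) ∧
      a * c.f (lt 0) * c.f (lt 1) * c.f (lt 0) * a = c.f (val ([1] ++ eW s)) := by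
  set C0 := c.f (lt 0) with hC0
  set C1 := c.f (lt 1) with hC1
  have h00 : C0 * C0 = 1 := c.f_sq (by decide)
  have h11 : C1 * C1 = 1 := c.f_sq (by decide)
  have hai : a⁻¹ = a := inv_eq_of_mul_eq_one_left ha
  have h0i : C0⁻¹ = C0 := inv_eq_of_mul_eq_one_left h00
  have h1i : C1⁻¹ = C1 := inv_eq_of_mul_eq_one_left h11
  have hl1 : lets cLet [1] = true := rfl
  have hl0 : lets cLet [0] = true := rfl
  -- the conjugate lies in the centraliser
  have hs1 : pap sig 1 < 16 := (sig_facts (by norm_num)).2.1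
  have hq : C1 * c.ge (tb eAct 0 (pap sig 1)) = c.ge (tb eAct 0 (pap sig 1)) * C1 := by
    have hlt := (eAct_spec (show 0 ∈ nLet by decide) hs1).1
    rw [hC1, ← val_one 1, Ctx.ge, eE, ← c.f_app hl1 (eW_ok hlt).1, ← c.f_app (eW_ok hlt).1 hl1, val_app,
      comW_sound q_comm, ← val_app]
  have hz : a * C0 * C1 * C0 * a * c.t = c.t * (a * C0 * C1 * C0 * a) := by
    have e1 : C0 * (a * c.t * a) * C0 = c.ge (tb eAct 0 (pap sig 1)) := by
      rw [← c.ge_one]
      have h := hact 1 (by norm_num)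
      rw [hai] at h
      rw [h]
      have h2 := c.acts_letter (show 0 ∈ cLet by decide) (show 0 ∈ nLet by decide) hs1
      rwa [← hC0, h0i] at h2
    have e3 : a * C0 * (C0 * (a * c.t * a) * C0) = c.t * a * C0 := by
      calc a * C0 * (C0 * (a * c.t * a) * C0) = a * (C0 * C0) * a * (c.t * a * C0) := by group
        _ = _ := by rw [h00, mul_one, ha, one_mul]
    calc a * C0 * C1 * C0 * a * c.t
        = a * C0 * C1 * C0 * (a * c.t * a) * (C0 * C0) * a := by
          rw [h00, mul_one, show a * C0 * C1 * C0 * (a * c.t * a) * a = a * C0 * C1 * C0 * a * c.t * (a * a) by group,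
            ha, mul_one]
      _ = a * C0 * C1 * (C0 * (a * c.t * a) * C0) * C0 * a := by group
      _ = a * C0 * (C0 * (a * c.t * a) * C0) * C1 * C0 * a := by
          rw [e1, show a * C0 * C1 * c.ge (tb eAct 0 (pap sig 1)) = a * C0 * (C1 * c.ge (tb eAct 0 (pap sig 1))) by group, hq]
          group
      _ = c.t * (a * C0 * C1 * C0 * a) := by rw [e3]; group
  obtain ⟨z, hz', hze⟩ := c.exists_f hz
  -- the images of the symbols
  have hsym : ∀ x, x < 19 → lets cLet (symW x) = true ∧ lets cLet (symI x) = true ∧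
      a * c.f (val (symW x)) * a⁻¹ = c.f (val (symI x)) := fun x hx => by
    unfold symW symI
    by_cases h : x < 3
    · rw [if_pos h, if_pos h]
      exact ⟨(gW_words (by omega)).1, (gW_words (by omega)).2, hg x h⟩
    · rw [if_neg h, if_neg h]
      have hx' : x - 3 < 16 := by omega
      exact ⟨(eW_ok hx').1, (eW_ok (sig_facts hx').2.1).1, hact _ hx'⟩
  have hrel : ∀ q ∈ relV, lets cLet (expand symI q.2.1) = true ∧
      qP * z * val (expand symI q.2.1) = val (expand symI q.2.1) * (qP * z) := by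
    intro q hq'
    have h := List.all_eq_true.1 relV_ok q hq'
    simp only [Bool.and_eq_true, List.all_eq_true] at h
    obtain ⟨⟨⟨⟨⟨hy, hu1⟩, hu2⟩, e1⟩, e2⟩, e3⟩ := h
    have hu1' : ∀ x ∈ q.2.1, x < 19 := fun x hx => Nat.le_of_ble_eq_true (hu1 x hx)
    have hu2' : ∀ x ∈ q.2.2, x < 19 := fun x hx => Nat.le_of_ble_eq_true (hu2 x hx)
    have hI1 := lets_expand (S := cLet) fun x hx => (hsym x (hu1' x hx)).2.1
    have hI2 := lets_expand (S := cLet) fun x hx => (hsym x (hu2' x hx)).2.1
    refine ⟨hI1, ?_⟩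
    set Y := c.f (val q.1) with hY
    have a1 : a * (C0 * Y * C0) * a = c.f (val (expand symI q.2.1)) := by
      rw [← c.conj_expand a (u := q.2.1) fun x hx => hsym x (hu1' x hx), hai, ← eqW_sound e1, c.f_cj hl0 hy, val_one,
        ← hC0, h0i]
    have a2 : a * (C0 * (C1 * Y * C1) * C0) * a = c.f (val (expand symI q.2.2)) := by
      rw [← c.conj_expand a (u := q.2.2) fun x hx => hsym x (hu2' x hx), hai, ← eqW_sound e2,
        c.f_cj hl0 (lets_cj hl1 hy), c.f_cj hl1 hy, val_one, val_one, ← hC0, ← hC1, h0i, h1i]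
    have a3 : C1 * c.f (val (expand symI q.2.1)) * C1 = c.f (val (expand symI q.2.2)) := by
      rw [← eqW_sound e3, c.f_cj hl1 hI1, val_one, ← hC1, h1i]
    refine c.f_inj (mul_mem (mul_mem qP_centP hz') (val_centP hI1)) (mul_mem (val_centP hI1) (mul_mem qP_centP hz')) ?_
    rw [c.f_mul (mul_mem qP_centP hz') (val_centP hI1), c.f_mul (val_centP hI1) (mul_mem qP_centP hz'),
      c.f_mul qP_centP hz', hze, show c.f qP = C1 by rw [hC1, qP, val_one]]
    rw [← a1] at a3 ⊢
    calc C1 * (a * C0 * C1 * C0 * a) * (a * (C0 * Y * C0) * a)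
        = C1 * (a * C0 * C1 * (C0 * (a * a) * C0) * Y * C0 * a) := by group
      _ = C1 * (a * (C0 * (C1 * Y * C1) * C0) * a) * (a * C0 * C1 * C0 * a) := by
          rw [ha, mul_one, h00, mul_one,
            show C1 * (a * (C0 * (C1 * Y * C1) * C0) * a) * (a * C0 * C1 * C0 * a) =
              C1 * (a * C0 * C1 * Y * C1 * (C0 * (a * a) * C0) * C1 * C0 * a) by group, ha, mul_one, h00, mul_one,
            show C1 * (a * C0 * C1 * Y * C1 * C1 * C0 * a) = C1 * (a * C0 * C1 * Y * (C1 * C1) * C0 * a) by group,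
            h11, mul_one]
      _ = (a * (C0 * Y * C0) * a) * (C1 * (a * C0 * C1 * C0 * a)) := by
          rw [a2, ← a3, show C1 * (C1 * (a * (C0 * Y * C0) * a) * C1) = C1 * C1 * (a * (C0 * Y * C0) * a) * C1 by group,
            h11, one_mul]
          group
  have hqz : qP * z ∈ centP := mul_mem qP_centP hz'
  have hb : ∀ b ∈ eBasis, qP * z * eE b = eE b * (qP * z) := fun b hb => by
    obtain ⟨q, hq', he⟩ := List.any_eq_true.1 (List.all_eq_true.1 relV_basis b hb)
    rw [beq_iff_eq] at he
    have hb16 : b < 16 := by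
      have hb' := hb
      rw [span_ok.2] at hb'
      simp only [List.mem_cons, List.not_mem_nil, or_false] at hb'
      omega
    obtain ⟨hI, hc⟩ := hrel q hq'
    rwa [show val (expand symI q.2.1) = eE b from
      eqW_sound (by simp [eqW, lets_inL cLet_lt hI, eW_inL hb16, he])] at hc
  obtain ⟨s, hs, hse⟩ := cent_E hqz fun i hi => by
    have h := List.all_eq_true.1 span_ok.1 i (List.mem_range.2 hi)
    rw [Bool.and_eq_true, beq_iff_eq] at h
    have key : ∀ (l : List ℕ) (x : ℕ), x < 16 → qP * z * eE x = eE x * (qP * z) → (∀ y ∈ l, y ∈ eBasis) →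
        qP * z * eE (l.foldl (fun u y => tb eMul u (eBasis.getD (eBasis.idxOf y) 0)) x) =
          eE (l.foldl (fun u y => tb eMul u (eBasis.getD (eBasis.idxOf y) 0)) x) * (qP * z) := by
      intro l
      induction l with
      | nil => exact fun x _ h _ => h
      | cons y l ih =>
        intro x hx hcx hl
        have hy := hl y List.mem_cons_self
        have ey : eBasis.getD (eBasis.idxOf y) 0 = y := by
          rw [List.getD_eq_getElem _ _ (List.idxOf_lt_length_iff.2 hy)]
          exact List.getElem_idxOf _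
        have hy16 : y < 16 := by
          have hy' := hy
          rw [span_ok.2] at hy'
          simp only [List.mem_cons, List.not_mem_nil, or_false] at hy'
          omega
        rw [List.foldl_cons, ey]
        refine ih _ (eMul_lt hx hy16) ?_ fun u hu => hl u (List.mem_cons_of_mem _ hu)
        rw [← eE_mul hx hy16, ← mul_assoc, hcx, mul_assoc, hb y hy, ← mul_assoc]
    have := key (eSpan.getD i []) 0 (by norm_num) (by rw [eE_zero, mul_one, one_mul]) fun y hy =>
      List.contains_iff_mem.1 (List.all_eq_true.1 h.2 y hy)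
    rw [show (eSpan.getD i []).foldl (fun u y => tb eMul u (eBasis.getD (eBasis.idxOf y) 0)) 0 = i from h.1] at this
    exact this
  refine ⟨s, ?_, ?_⟩
  · have h := List.all_eq_true.1 relV_cent s (List.mem_range.2 hs)
    rw [Bool.or_eq_true] at h
    rcases h with h | h
    · simpa using h
    · obtain ⟨q, hq', hn⟩ := List.any_eq_true.1 h
      obtain ⟨hI, hc⟩ := hrel q hq'
      rw [hse] at hc
      rw [(comW_iff (eW_inL hs) (lets_inL cLet_lt hI)).2 hc] at hn
      exact Bool.noConfusion hn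
  · rw [← hze, val_app, val_one, eE_eW, ← hse, qP, val_one, ← mul_assoc, lt_sq (by norm_num), one_mul]

/-- The relators that follow from the parameters hold. -/
theorem okRel_sound {a : G} {pv ex s : ℕ} (ha : a * a = 1)
    (hg : ∀ j < 3, a * c.f (val (gW j)) * a⁻¹ = c.f (val (iW j)))
    (hp : a * c.f (val [4]) * a⁻¹ = c.f (val ([4] ++ eW pv))) (hpv : pv < 16)
    (h3 : a * c.f (lt 0) * (a * c.f (lt 0)) * (a * c.f (lt 0)) = 1)
    (hx : a * c.f (lt 2) * (a * c.f (lt 2)) * (a * c.f (lt 2)) = c.ge ex)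
    (hx' : c.f (lt 2) * a * (c.f (lt 2) * a) * (c.f (lt 2) * a) = c.ge ex)
    (hq : a * c.f (lt 0) * c.f (lt 1) * c.f (lt 0) * a = c.f (val ([1] ++ eW s)))
    {r : List ℕ} (hr : okRel pv ex s r = true) : wval (c.X a) r = 1 := by
  have hai : a⁻¹ = a := inv_eq_of_mul_eq_one_left ha
  simp only [okRel, Bool.and_eq_true, Bool.or_eq_true, List.any_eq_true, beq_iff_eq] at hr
  rcases hr.2 with (⟨hl, he⟩ | rfl) | ⟨q, hq', ⟨⟨hpre, hrest⟩, hv⟩, he⟩
  · rw [c.wval_X a hl, eqW_sound he, val_nil, c.f_one]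
  · simpa [wval, X] using ha
  · have hsplit : r = q.1 ++ r.drop q.1.length := by
      conv_lhs => rw [← List.take_append_drop q.1.length r, hpre]
    have happ : ∀ u v : List ℕ, wval (c.X a) (u ++ v) = wval (c.X a) u * wval (c.X a) v := fun u v =>
      wval_append' u v
    rw [hsplit, happ, c.wval_X a hrest]
    suffices wval (c.X a) q.1 = c.f (val q.2) by
      rw [this, ← c.f_app hv hrest, eqW_sound he, val_nil, c.f_one]
    simp only [pairs, List.mem_append, List.mem_cons, List.mem_map, List.mem_range, List.not_mem_nil, or_false] at hq'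
    rcases hq' with (rfl | rfl | rfl | rfl | rfl) | ⟨j, hj, rfl⟩
    · simpa [wval, X, val_nil, c.f_one, mul_assoc] using h3
    · simpa [wval, X, mul_assoc, Ctx.ge, eE] using hx
    · simpa [wval, X, mul_assoc, Ctx.ge, eE] using hx'
    · simpa [wval, X, mul_assoc] using hq
    · show wval (c.X a) [3, 4, 3, 4] = c.f (val ([4] ++ eW pv ++ [4]))
      rw [c.f_app (lets_app rfl (eW_ok hpv).1) rfl, ← hp, hai, val_one]
      simp [wval, X, mul_assoc]
    · show wval (c.X a) ([3] ++ gW j ++ [3]) = c.f (val (iW j))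
      rw [happ, happ, c.wval_X a (gW_words (show j < 4 by omega)).1, ← hg j hj, hai]
      simp [wval, X]

/-- A certificate of index one puts the extra involution in the centraliser. -/
theorem collapse {a : G} (ha : a * a = 1) (hat : a * c.t ≠ c.t * a) {C : Cert} {R : List (List ℕ)} (hC : C.Valid R)
    (hm : C.m = 1) (hng : C.ng ≤ 5) (h3 : 3 < C.ng) (hsub : ∀ s ∈ C.subs, s ∈ cLet ∧ s < C.ng)
    (hR : ∀ r ∈ R, inL r = true ∧ wval (c.X a) r = 1) : False := by
  have hsq : ∀ l < 5, c.X a l * c.X a l = 1 := fun l hl => by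
    unfold X
    by_cases h : l = 3
    · rw [if_pos h]; exact ha
    · rw [if_neg h]
      exact c.f_sq (by simp only [cLet, List.mem_cons, List.not_mem_nil, or_false]; omega)
  let K' : Subgroup G := Subgroup.closure (c.X a '' {l | l ∈ C.subs})
  have hK : ∀ g ∈ K', g * c.t = c.t * g := by
    have hle : K' ≤ Subgroup.centralizer ({c.t} : Set G) := (Subgroup.closure_le _).2 (by
      rintro _ ⟨l, hl, rfl⟩
      have h' := (hsub l hl).1
      rw [SetLike.mem_coe, Subgroup.mem_centralizer_singleton_iff, X, if_neg (fun e => by subst e; exact absurd h' (by decide))]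
      exact c.f_cent (lt_centP h'))
    exact fun g hg => Subgroup.mem_centralizer_singleton_iff.1 (hle hg)
  set L := Subgroup.closure (c.X a '' Set.Iio C.ng) with hL
  obtain ⟨-, hcard⟩ := card_le C (c.X a) hC (fun l hl => hsq l (hl.trans_le hng)) (fun r hr => (hR r hr).2)
    (fun r hr l hl => hsq l (inL_lt (hR r hr).1 l hl)) (K := K')
    (fun s hs => Subgroup.subset_closure ⟨s, hs, rfl⟩) (L := L) le_rfl
  rw [Cfsg.Lib.McLRecog.fin_length, hm, one_mul] at hcard
  have hle : K' ≤ L := (Subgroup.closure_le _).2 (by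
    rintro _ ⟨l, hl, rfl⟩
    exact Subgroup.subset_closure ⟨l, (hsub l hl).2, rfl⟩)
  have := Subgroup.eq_of_le_of_card_ge hle hcard
  refine hat (hK a ?_)
  rw [this]
  exact Subgroup.subset_closure ⟨3, h3, by simp [X]⟩

/-- An extra involution with every relator of the two large certificates. -/
theorem exists_extra : ∃ a : G, a * a = 1 ∧ ∀ r ∈ CertT.rels ++ CertL.rels,
    inL r = true ∧ wval (c.X a) r = 1 := by
  obtain ⟨a, pv, hpv, ha, hact, hg, hp⟩ := c.exists_norm_a
  obtain ⟨e0, -, h3, -, he0⟩ := c.cube ha hact (Or.inl rfl)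
  obtain ⟨ex, -, hx, hx', hex⟩ := c.cube ha hact (Or.inr rfl)
  obtain ⟨s, hs, hq⟩ := c.exists_s ha hact hg
  have e00 : e0 = 0 := he0.resolve_right fun h => absurd h.1 (by norm_num)
  rw [e00, c.ge_zero] at h3
  have hpv16 : pv < 16 := by omega
  have hsound : ∀ R, okAll pv ex s R = true → ∀ r ∈ R, inL r = true ∧ wval (c.X a) r = 1 := fun R hR r hr => by
    have h := List.all_eq_true.1 hR r hr
    refine ⟨?_, c.okRel_sound ha hg hp hpv16 h3 hx hx' hq h⟩
    simp only [okRel, Bool.and_eq_true] at h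
    exact h.1
  have hat : a * c.t ≠ c.t * a := fun h => by
    have h1 := hact 1 (by norm_num)
    rw [c.ge_one, h, mul_inv_cancel_right, ← c.ge_one] at h1
    exact triv_ok.2 (c.ge_inj (sig_facts (by norm_num)).2.1 (by norm_num) h1.symm)
  have hc := case_ok
  simp only [List.all_eq_true] at hc
  have hc' := hc pv (by rcases hpv with rfl | rfl <;> simp) ex (by rcases hex with rfl | ⟨-, rfl⟩ <;> simp) s
    (by rcases hs with rfl | rfl | rfl | rfl <;> simp)
  simp only [Bool.or_eq_true, Bool.and_eq_true, beq_iff_eq] at hc'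
  rcases hc' with ((((((h | h) | h) | h) | h) | h) | h) | ⟨⟨rfl, rfl⟩, rfl⟩
  · exact (c.collapse ha hat CertV1.valid rfl (by decide) (by decide) (by decide) (hsound _ h)).elim
  · exact (c.collapse ha hat CertV7.valid rfl (by decide) (by decide) (by decide) (hsound _ h)).elim
  · exact (c.collapse ha hat CertX.valid rfl (by decide) (by decide) (by decide) (hsound _ h)).elim
  · exact (c.collapse ha hat CertXs.valid rfl (by decide) (by decide) (by decide) (hsound _ h)).elim
  · exact (c.collapse ha hat CertP.valid rfl (by decide) (by decide) (by decide) (hsound _ h)).elim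
  · exact (c.collapse ha hat CertPs.valid rfl (by decide) (by decide) (by decide) (hsound _ h)).elim
  · exact (c.collapse ha hat CertPsp.valid rfl (by decide) (by decide) (by decide) (hsound _ h)).elim
  · refine ⟨a, ha, fun r hr => ?_⟩
    have h := main_ok
    simp only [Bool.and_eq_true] at h
    rcases List.mem_append.1 hr with hr | hr
    · exact hsound _ h.1.1 r hr
    · exact hsound _ h.1.2 r hr

end Ctx

end Cfsg.Lib.CoThreeRecog
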