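import Cfsg.Agent.CoThreeRecog.JModel
import Cfsg.Agent.HSLocal.Count
import Cfsg.Agent.InvolCalc.StronglyEmbedded

/-!
A group containing the section of order 120, in which the centraliser of the first kind of involution is inside
the section and the two kinds do not fuse, is the section.
-/

set_option autoImplicit false
set_option maxRecDepth 20000
set_option linter.style.haveILetI false

namespace Cfsg.Lib.CoThreeRecog

open Cfsg.Lib.CosetCert Cfsg.Lib.PermCert Cfsg.Lib.CosetCert.OutCert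

/-- The involutions of the first kind. -/
def dList : List ℕ := (List.range 120).filter fun i => i != 0 && lm i i == 0 && lk i == 1

theorem dList_length : dList.length = 15 := by decide +kernel

attribute [local irreducible] lm lk

theorem sign_invol_eq {X : Type*} [Group X] [Finite X] (F : Subgroup X) {x : X} (hx : x * x = 1)
    (hodd : ∃ m, F.index = 2 * m ∧ Odd m) (hfree : ∀ g : X, g⁻¹ * x * g ∉ F) [DecidableEq (X ⧸ F)] [Fintype (X ⧸ F)] :
    Equiv.Perm.sign (MulAction.toPermHom X (X ⧸ F) x) = -1 := by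
  obtain ⟨m', hm', hsgn⟩ := HSLocal.sign_invol (MulAction.toPermHom X (X ⧸ F) x) (by rw [← map_mul, hx, map_one])
  have h0 : Nat.card {a : X ⧸ F // MulAction.toPermHom X (X ⧸ F) x a = a} = 0 := by
    haveI : IsEmpty {a : X ⧸ F // MulAction.toPermHom X (X ⧸ F) x a = a} := ⟨by
      rintro ⟨a, ha⟩
      obtain ⟨g, rfl⟩ := QuotientGroup.mk_surjective a
      refine hfree g ?_
      rw [MulAction.toPermHom_apply, MulAction.toPerm_apply, MulAction.Quotient.smul_mk, smul_eq_mul,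
        QuotientGroup.eq] at ha
      have := inv_mem ha
      rwa [mul_inv_rev, inv_inv, ← mul_assoc] at this⟩
    exact Nat.card_of_isEmpty
  rw [h0, zero_add, ← Nat.card_eq_fintype_card] at hm'
  obtain ⟨m, hm, hmodd⟩ := hodd
  have : m' = m := by
    have e : F.index = Nat.card (X ⧸ F) := rfl
    omega
  rw [hsgn, this, hmodd.neg_one_pow]

variable {Q : Type*} [Group Q]

/-- The hypotheses on the map. -/
structure Sect (e : ℕ → Q) : Prop where
  mul : ∀ i < 120, ∀ j < 120, e i * e j = e (lm i j)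
  inj : ∀ i < 120, ∀ j < 120, e i = e j → i = j
  cent : ∀ g, g * e dIdx = e dIdx * g → ∃ i < 120, g = e i
  nf : ∀ g, g * e dIdx * g⁻¹ ≠ e sIdx

namespace Sect

variable {e : ℕ → Q} (h : Sect e)
include h

theorem zero : e 0 = 1 := by
  have := h.mul 0 (by norm_num) 0 (by norm_num)
  rw [lm_zero (by norm_num)] at this
  exact mul_eq_left.1 this

theorem eq_one {i : ℕ} (hi : i < 120) : e i = 1 ↔ i = 0 :=
  ⟨fun he => h.inj i hi 0 (by norm_num) (he.trans h.zero.symm), fun he => by rw [he, h.zero]⟩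

theorem sq_one {i : ℕ} (hi : i < 120) : e i * e i = 1 ↔ lm i i = 0 := by
  rw [h.mul i hi i hi, h.eq_one (lm_lt hi hi)]

theorem pow_three {i : ℕ} (hi : i < 120) : powOne i 3 = true ↔ e i ^ 3 = 1 := by
  have e3 : powOne i 3 = (lm (lm (lm 0 i) i) i == 0) := rfl
  rw [e3, beq_iff_eq, ← h.eq_one (lm_lt (lm_lt (lm_lt (by norm_num) hi) hi) hi),
    ← h.mul _ (lm_lt (lm_lt (by norm_num) hi) hi) i hi, ← h.mul _ (lm_lt (by norm_num) hi) i hi,
    lm_zero hi, pow_succ, pow_succ, pow_one]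

theorem pow_five {i : ℕ} (hi : i < 120) : powOne i 5 = true ↔ e i ^ 5 = 1 := by
  have e5 : powOne i 5 = (lm (lm (lm (lm (lm 0 i) i) i) i) i == 0) := rfl
  have h1 : lm 0 i < 120 := lm_lt (by norm_num) hi
  rw [e5, beq_iff_eq, ← h.eq_one (lm_lt (lm_lt (lm_lt (lm_lt h1 hi) hi) hi) hi),
    ← h.mul _ (lm_lt (lm_lt (lm_lt h1 hi) hi) hi) i hi, ← h.mul _ (lm_lt (lm_lt h1 hi) hi) i hi,
    ← h.mul _ (lm_lt h1 hi) i hi, ← h.mul _ h1 i hi,
    lm_zero hi, pow_succ, pow_succ, pow_succ, pow_succ, pow_one]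

/-- The subgroup on a closed list of indices. -/
def sub [Finite Q] (S : List ℕ) (hlt : ∀ i ∈ S, i < 120) (h0 : 0 ∈ S) (hcl : ∀ i ∈ S, ∀ j ∈ S, lm i j ∈ S) :
    Subgroup Q where
  carrier := {g | ∃ i ∈ S, g = e i}
  one_mem' := ⟨0, h0, h.zero.symm⟩
  mul_mem' := by
    rintro a b ⟨i, hi, rfl⟩ ⟨j, hj, rfl⟩
    exact ⟨_, hcl i hi j hj, h.mul i (hlt i hi) j (hlt j hj)⟩
  inv_mem' := by
    rintro a ⟨i, hi, rfl⟩
    have hp : ∀ n : ℕ, ∃ j ∈ S, e i ^ n = e j := by
      intro n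
      induction n with
      | zero => exact ⟨0, h0, by rw [pow_zero, h.zero]⟩
      | succ n ih =>
        obtain ⟨j, hj, ej⟩ := ih
        exact ⟨_, hcl j hj i hi, by rw [pow_succ, ej, h.mul j (hlt j hj) i (hlt i hi)]⟩
    obtain ⟨j, hj, ej⟩ := hp (orderOf (e i) - 1)
    refine ⟨j, hj, ?_⟩
    rw [← ej]
    refine (eq_inv_of_mul_eq_one_left ?_).symm
    rw [← pow_succ, Nat.sub_add_cancel (orderOf_pos (e i)), pow_orderOf_eq_one]

theorem card_sub [Finite Q] (S : List ℕ) (hlt : ∀ i ∈ S, i < 120) (h0 : 0 ∈ S)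
    (hcl : ∀ i ∈ S, ∀ j ∈ S, lm i j ∈ S) (hS : S.Nodup) : Nat.card (h.sub S hlt h0 hcl) = S.length := by
  rw [← List.toFinset_card_of_nodup hS, ← Nat.card_eq_finsetCard]
  refine (Nat.card_eq_of_bijective (fun i : {x // x ∈ S.toFinset} =>
    (⟨e i, i.1, List.mem_toFinset.1 i.2, rfl⟩ : h.sub S hlt h0 hcl)) ⟨fun a b he => ?_, ?_⟩).symm
  · exact Subtype.ext (h.inj _ (hlt _ (List.mem_toFinset.1 a.2)) _ (hlt _ (List.mem_toFinset.1 b.2))
      (congrArg Subtype.val he))
  · rintro ⟨_, i, hi, rfl⟩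
    exact ⟨⟨i, List.mem_toFinset.2 hi⟩, rfl⟩

theorem top [Finite Q] : ∀ g, ∃ i < 120, g = e i := by
  classical
  haveI : Fact (Nat.Prime 2) := ⟨Nat.prime_two⟩
  have hsy := l_sylow
  simp only [Bool.and_eq_true, List.all_eq_true, beq_iff_eq, Bool.or_eq_true, decide_eq_true_eq,
    List.contains_iff_mem, List.any_eq_true, bne_iff_ne] at hsy
  obtain ⟨⟨⟨⟨⟨⟨⟨⟨⟨⟨⟨⟨⟨⟨⟨⟨⟨⟨hkd, hks⟩, hff⟩, hdd⟩, hss⟩, hp8⟩, hpn⟩, hplt⟩, hp0⟩, hpf⟩, hps⟩, hf4⟩, hfn⟩, hf0⟩, hff'⟩, hfd⟩,
    hflt⟩, hpc⟩, hfc⟩ := hsy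
  have hd : dIdx < 120 := by decide
  have hs : sIdx < 120 := by decide
  have hf : fIdx < 120 := by decide
  set K := h.sub (List.range 120) (fun i hi => List.mem_range.1 hi) (List.mem_range.2 (by norm_num))
    (fun i hi j hj => List.mem_range.2 (lm_lt (List.mem_range.1 hi) (List.mem_range.1 hj))) with hKdef
  have hK : ∀ g, g ∈ K ↔ ∃ i < 120, g = e i := fun g =>
    ⟨fun ⟨i, hi, hg⟩ => ⟨i, List.mem_range.1 hi, hg⟩, fun ⟨i, hi, hg⟩ => ⟨i, List.mem_range.2 hi, hg⟩⟩
  have hKc : Nat.card K = 120 := by rw [hKdef, h.card_sub _ _ _ _ List.nodup_range, List.length_range]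
  have hplt' : ∀ i ∈ pEight, i < 120 := fun i hi => Nat.le_of_ble_eq_true (hplt i hi)
  have hflt' : ∀ i ∈ fFour, i < 120 := fun i hi => Nat.le_of_ble_eq_true (hflt i hi)
  set P := h.sub pEight hplt' hp0 (fun i hi j hj => (hpc i hi).1 j hj) with hPdef
  set F := h.sub fFour hflt' hf0 (fun i hi j hj => (hfc i hi).1 j hj) with hFdef
  have hPc : Nat.card P = 8 := by rw [hPdef, h.card_sub _ _ _ _ hpn, hp8]
  have hFc : Nat.card F = 4 := by rw [hFdef, h.card_sub _ _ _ _ hfn, hf4]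
  have hPK : P ≤ K := fun g ⟨i, hi, hg⟩ => (hK g).2 ⟨i, hplt' i hi, hg⟩
  have hd1 : e dIdx ≠ 1 := fun he => absurd ((h.eq_one hd).1 he) (by decide)
  have hd2 : e dIdx * e dIdx = 1 := (h.sq_one hd).2 hdd
  have hfd2 : e fIdx * e fIdx = e dIdx := by rw [h.mul _ hf _ hf, hff]
  have hdP : e dIdx ∈ P := ⟨dIdx, hff ▸ (hpc fIdx hpf).1 fIdx hpf, rfl⟩
  -- the Sylow subgroup
  obtain ⟨S, hS⟩ := StrongEmb.sylow_of_normalizer_le (p := 2) (IsPGroup.of_card (n := 3) hPc) K hPK
    (fun Y hY hPY hYK => (Subgroup.eq_of_le_of_card_ge hPY (by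
      obtain ⟨k, hk⟩ := IsPGroup.iff_card.1 hY
      have hdvd := Subgroup.card_dvd_of_le hYK
      rw [hKc, hk] at hdvd
      rw [hPc, hk, show (8 : ℕ) = 2 ^ 3 by norm_num]
      refine Nat.pow_le_pow_right (by norm_num) (not_lt.1 fun hh => ?_)
      exact absurd ((pow_dvd_pow 2 (show 4 ≤ k by omega)).trans hdvd) (by norm_num))).symm)
    (fun n hn => (hK n).2 (h.cent n (by
      obtain ⟨i, hi, ei⟩ := (Subgroup.mem_normalizer_iff.1 hn (e dIdx)).1 hdP
      have hdc : ∀ y ∈ P, e dIdx * y = y * e dIdx := by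
        rintro _ ⟨j, hj, rfl⟩
        rw [h.mul _ hd _ (hplt' j hj), h.mul _ (hplt' j hj) _ hd]
        exact congrArg e (p_central j hj)
      rcases (hpc i hi).2 with (h0 | h0) | ⟨y, hy, hne⟩
      · rw [h0, h.zero, conj_eq_one_iff] at ei
        exact absurd ei hd1
      · rw [h0] at ei
        exact mul_inv_eq_iff_eq_mul.1 ei
      · exfalso
        have hnp := (Subgroup.mem_normalizer_iff.1 hn (n⁻¹ * e y * n)).2
          (by rw [show n * (n⁻¹ * e y * n) * n⁻¹ = e y by group]; exact ⟨y, hy, rfl⟩)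
        refine hne (h.inj _ (lm_lt (hplt' i hi) (hplt' y hy)) _ (lm_lt (hplt' y hy) (hplt' i hi)) ?_)
        rw [← h.mul _ (hplt' i hi) _ (hplt' y hy), ← h.mul _ (hplt' y hy) _ (hplt' i hi), ← ei]
        calc n * e dIdx * n⁻¹ * e y = n * (e dIdx * (n⁻¹ * e y * n)) * n⁻¹ := by group
          _ = n * ((n⁻¹ * e y * n) * e dIdx) * n⁻¹ := by rw [hdc _ hnp]
          _ = _ := by group)))
  have hidx : ∃ m, F.index = 2 * m ∧ Odd m := by
    refine ⟨P.index, ?_, ?_⟩
    · have e1 := F.card_mul_index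
      have e2 := P.card_mul_index
      rw [hFc] at e1
      rw [hPc] at e2
      omega
    · rw [← hS, ← Nat.not_even_iff_odd, even_iff_two_dvd]
      exact S.not_dvd_index
  haveI : Fintype (Q ⧸ F) := Fintype.ofFinite _
  set sg : Q →* ℤˣ := Equiv.Perm.sign.comp (MulAction.toPermHom Q (Q ⧸ F)) with hsg
  have hsgs : sg (e sIdx) = -1 := by
    refine sign_invol_eq F ((h.sq_one hs).2 hss) hidx ?_
    rintro g ⟨i, hi, ei⟩
    have hi2 : (g⁻¹ * e sIdx * g) * (g⁻¹ * e sIdx * g) = 1 := by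
      calc g⁻¹ * e sIdx * g * (g⁻¹ * e sIdx * g) = g⁻¹ * (e sIdx * e sIdx) * g := by group
        _ = 1 := by rw [(h.sq_one hs).2 hss, mul_one, inv_mul_cancel]
    rcases (hfc i hi).2 with (h0 | h0) | h0
    · rw [h0, h.zero] at ei
      have : e sIdx = 1 := by
        rw [show e sIdx = g * (g⁻¹ * e sIdx * g) * g⁻¹ by group, ei, mul_one, mul_inv_cancel]
      exact absurd ((h.eq_one hs).1 this) (by decide)
    · rw [h0] at ei
      exact h.nf g (by rw [← ei]; group)
    · rw [ei, h.sq_one (hflt' i hi)] at hi2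
      exact h0 hi2
  set M := sg.ker with hM
  have hMd : e dIdx ∈ M := by
    rw [hM, MonoidHom.mem_ker, ← hfd2, map_mul, Int.units_mul_self]
  have hsM : e sIdx ∉ M := fun hh => by
    rw [hM, MonoidHom.mem_ker, hsgs] at hh
    exact absurd hh (by decide)
  have hodd : ∀ x : Q, ∀ n : ℕ, Odd n → x ^ n = 1 → x ∈ M := fun x n hn hx => by
    rw [hM, MonoidHom.mem_ker]
    have e1 := congrArg sg hx
    rw [map_pow, map_one] at e1
    rcases Int.units_eq_one_or (sg x) with e2 | e2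
    · exact e2
    · rw [e2, hn.neg_one_pow] at e1
      exact absurd e1 (by decide)
  -- the involutions of the section in the kernel
  have hinv : ∀ t ∈ M, t ∈ K → t * t = 1 → t ≠ 1 →
      (∃ i ∈ dList, t = e i) ∧ ∃ k ∈ M, k ∈ K ∧ k * e dIdx * k⁻¹ = t := by
    intro t htM htK ht2 ht1
    obtain ⟨i, hi, rfl⟩ := (hK t).1 htK
    have hi0 : i ≠ 0 := fun h0 => ht1 (by rw [h0, h.zero])
    have hii : lm i i = 0 := (h.sq_one hi).1 ht2
    have hkind := List.all_eq_true.1 l_kinds i (List.mem_range.2 hi)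
    simp only [Bool.or_eq_true, beq_iff_eq, bne_iff_ne, Bool.and_eq_true, hi0, hii, ne_eq, not_true_eq_false,
      false_or] at hkind
    have hc := List.all_eq_true.1 l_conj i (List.mem_range.2 hi)
    simp only [Bool.and_eq_true, Bool.or_eq_true, Bool.not_eq_true', beq_eq_false_iff_ne, List.any_eq_true,
      List.mem_range, beq_iff_eq, cjL] at hc
    have conjE : ∀ k < 120, ∀ x < 120, lm k x = lm i k → e k * e x * (e k)⁻¹ = e i := fun k hk x hx he => by
      rw [h.mul k hk x hx, he, ← h.mul i hi k hk, mul_inv_cancel_right]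
    rcases hkind.1.1 with h1 | h2
    · refine ⟨⟨i, List.mem_filter.2 ⟨List.mem_range.2 hi, by simp [hi0, hii, h1]⟩, rfl⟩, ?_⟩
      obtain ⟨-, k, hk, hpow, he⟩ := hc.1.resolve_left (fun hh => hh h1)
      refine ⟨e k, ?_, (hK _).2 ⟨k, hk, rfl⟩, conjE k hk dIdx hd he⟩
      rcases hpow with hp | hp
      · exact hodd _ 3 (by decide) ((h.pow_three hk).1 hp)
      · exact hodd _ 5 (by decide) ((h.pow_five hk).1 hp)
    · obtain ⟨k, hk, he⟩ := hc.2.resolve_left (fun hh => hh h2)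
      exfalso
      have e1 := conjE k hk sIdx hs he
      refine hsM ?_
      rw [hM, MonoidHom.mem_ker] at htM ⊢
      rw [← e1, map_mul, map_mul, map_inv, mul_right_comm, mul_inv_cancel, one_mul] at htM
      exact htM
  -- the kernel is in the section
  suffices hMK : M ≤ K by
    intro g
    rw [← hK]
    by_cases hg : g ∈ M
    · exact hMK hg
    have hsK : e sIdx ∈ K := (hK _).2 ⟨sIdx, hs, rfl⟩
    have hg' : g * e sIdx ∈ M := by
      rw [hM, MonoidHom.mem_ker] at hg ⊢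
      rcases Int.units_eq_one_or (sg g) with e2 | e2
      · exact absurd e2 hg
      · rw [map_mul, e2, hsgs]; decide
    have := mul_mem (hMK hg') (inv_mem hsK)
    rwa [mul_inv_cancel_right] at this
  intro g hg
  by_contra hgK
  set M0 : Subgroup M := K.subgroupOf M with hM0
  have hord : ∀ t : M, orderOf t = 2 → (t : Q) * t = 1 ∧ (t : Q) ≠ 1 := fun t ht => by
    rw [← Subgroup.orderOf_coe] at ht
    exact ⟨by rw [← pow_two, ← ht, pow_orderOf_eq_one], fun h1 => by rw [h1, orderOf_one] at ht; exact absurd ht (by norm_num)⟩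
  have hdo : orderOf (⟨e dIdx, hMd⟩ : M) = 2 := by
    rw [Subgroup.orderOf_mk]
    exact orderOf_eq_prime (by rw [pow_two, hd2]) hd1
  have hse : Cfsg.IsStronglyEmbedded M0 := by
    refine StrongEmb.of_conditions ?_ ?_ ?_ ?_
    · intro htop
      exact hgK (Subgroup.mem_subgroupOf.1 (htop ▸ Subgroup.mem_top (⟨g, hg⟩ : M) : (⟨g, hg⟩ : M) ∈ M0))
    · rw [even_iff_two_dvd, ← hdo,
        ← Subgroup.orderOf_mk (⟨e dIdx, hMd⟩ : M) (show (⟨e dIdx, hMd⟩ : M) ∈ M0 from (hK _).2 ⟨dIdx, hd, rfl⟩)]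
      exact orderOf_dvd_natCard _
    · intro t ht ht2 c hc
      obtain ⟨-, k, -, hkK, hke⟩ := hinv t t.2 ht (hord t ht2).1 (hord t ht2).2
      have hc' : (c : Q) * t = t * c := congrArg Subtype.val (Subgroup.mem_centralizer_singleton_iff.1 hc)
      have hk' : k⁻¹ * c * k ∈ K := (hK _).2 (h.cent _ (by
        calc k⁻¹ * c * k * e dIdx = k⁻¹ * (c * (k * e dIdx * k⁻¹)) * k := by group
          _ = k⁻¹ * (k * e dIdx * k⁻¹ * c) * k := by rw [hke, hc']
          _ = _ := by group))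
      have := mul_mem (mul_mem hkK hk') (inv_mem hkK)
      rw [show k * (k⁻¹ * c * k) * k⁻¹ = c by group] at this
      exact this
    · intro t ht s' hs' ht2 hs2 _
      obtain ⟨-, k, hkM, hkK, hke⟩ := hinv t t.2 ht (hord t ht2).1 (hord t ht2).2
      obtain ⟨-, k', hkM', hkK', hke'⟩ := hinv s' s'.2 hs' (hord s' hs2).1 (hord s' hs2).2
      refine ⟨⟨k' * k⁻¹, mul_mem hkM' (inv_mem hkM)⟩, mul_mem hkK' (inv_mem hkK), Subtype.ext ?_⟩
      show k' * k⁻¹ * t * (k' * k⁻¹)⁻¹ = s'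
      rw [← hke, ← hke']
      group
  set g0 : M := ⟨g, hg⟩
  have hg0 : g0 ∉ M0 := fun hh => hgK hh
  set x : M ⧸ M0 := QuotientGroup.mk 1 with hx
  set y : M ⧸ M0 := QuotientGroup.mk g0 with hy
  have hxy : x ≠ y := fun he => hg0 (by simpa [hx, hy, QuotientGroup.eq] using he)
  have hfix : ∀ i : M, i • x = x ↔ i ∈ M0 := fun i => by
    simp [hx, MulAction.Quotient.smul_mk, QuotientGroup.eq]
  have hfy : ∀ i : M, i • y = y ↔ g0⁻¹ * i * g0 ∈ M0 := fun i => by
    rw [hy, MulAction.Quotient.smul_mk, smul_eq_mul, QuotientGroup.eq, ← inv_mem_iff]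
    simp [mul_assoc]
  let D : Subgroup M := M0 ⊓ M0.map (MulAut.conj g0).toMonoidHom
  have hD : ∀ d : M, d ∈ D ↔ d • x = x ∧ d • y = y := fun d => by
    rw [Subgroup.mem_inf, hfix, hfy, StrongEmb.mem_conj_iff]
  set s₀ : M := ⟨e dIdx, hMd⟩
  have hs₀x : s₀ • x = x := (hfix _).2 ((hK _).2 ⟨dIdx, hd, rfl⟩)
  set t₀ := g0 * s₀ * g0⁻¹ with ht₀
  have ht₀2 : orderOf t₀ = 2 := by rw [ht₀, ← MulAut.conj_apply, MulEquiv.orderOf_eq, hdo]
  have ht₀y : t₀ • y = y := (hfy _).2 (by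
    rw [show g0⁻¹ * t₀ * g0 = s₀ by rw [ht₀]; group]
    exact (hfix _).1 hs₀x)
  obtain ⟨v₀, hv₀, hv₀x, hv₀s, -⟩ := StrongEmb.exists_swap hse hxy hdo hs₀x ht₀2 ht₀y
  have hsq : ∀ v : M, orderOf v = 2 → v * v = 1 := fun v hv => by
    rw [← pow_two, ← hv, pow_orderOf_eq_one]
  have hswap : ∀ v : M, orderOf v = 2 → v • x = y → v • y = x := fun v hv he => by
    rw [← he, smul_smul, hsq v hv, one_smul]
  let D' : Subgroup (ConjAct M) := D.map ConjAct.toConjAct.toMonoidHom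
  have horb : MulAction.orbit D' s₀ = {i : M | orderOf i = 2 ∧ i ∈ M0} := by
    ext i
    constructor
    · rintro ⟨⟨_, d, hd', rfl⟩, rfl⟩
      show orderOf (ConjAct.toConjAct d • s₀) = 2 ∧ ConjAct.toConjAct d • s₀ ∈ M0
      rw [ConjAct.smul_def, ConjAct.ofConjAct_toConjAct]
      exact ⟨by rw [← MulAut.conj_apply, MulEquiv.orderOf_eq, hdo],
        mul_mem (mul_mem hd'.1 ((hfix _).1 hs₀x)) (inv_mem hd'.1)⟩
    · rintro ⟨hi2, hiH⟩
      obtain ⟨v, hv, hvx, hvs, -⟩ := StrongEmb.exists_swap hse hxy hi2 ((hfix _).2 hiH) ht₀2 ht₀y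
      have hd' : v * v₀ ∈ D := (hD _).2 ⟨by rw [← smul_smul, hv₀x, hswap v hv hvx],
        by rw [← smul_smul, hswap v₀ hv₀ hv₀x, hvx]⟩
      refine ⟨⟨_, v * v₀, hd', rfl⟩, ?_⟩
      show ConjAct.toConjAct (v * v₀) • s₀ = i
      rw [ConjAct.smul_def, ConjAct.ofConjAct_toConjAct, mul_inv_rev,
        inv_eq_of_mul_eq_one_left (hsq v₀ hv₀), inv_eq_of_mul_eq_one_left (hsq v hv)]
      calc v * v₀ * s₀ * (v₀ * v) = v * (v₀ * s₀ * v₀) * v := by group
        _ = v * (v * i * v) * v := by rw [hv₀s, hvs]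
        _ = (v * v) * i * (v * v) := by group
        _ = i := by rw [hsq v hv, one_mul, mul_one]
  have hN : Nat.card {i : M | orderOf i = 2 ∧ i ∈ M0} = 15 := by
    rw [Nat.card_coe_set_eq, ← Set.ncard_image_of_injective _ Subtype.val_injective]
    have hset : Subtype.val '' {i : M | orderOf i = 2 ∧ i ∈ M0} = e '' ↑dList.toFinset := by
      ext z
      constructor
      · rintro ⟨t, ⟨ht2, ht⟩, rfl⟩
        obtain ⟨⟨i, hi, he⟩, -⟩ := hinv t t.2 ht (hord t ht2).1 (hord t ht2).2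
        exact ⟨i, List.mem_toFinset.2 hi, he.symm⟩
      · rintro ⟨i, hi, rfl⟩
        obtain ⟨hi1, hi2⟩ := List.mem_filter.1 (List.mem_toFinset.1 hi)
        rw [List.mem_range] at hi1
        simp only [Bool.and_eq_true, bne_iff_ne, beq_iff_eq] at hi2
        obtain ⟨-, k, hk, hpow, he⟩ := by
          have hc := List.all_eq_true.1 l_conj i (List.mem_range.2 hi1)
          simp only [Bool.and_eq_true, Bool.or_eq_true, Bool.not_eq_true', beq_eq_false_iff_ne, List.any_eq_true,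
            List.mem_range, beq_iff_eq, cjL] at hc
          exact hc.1.resolve_left (fun hh => hh hi2.2)
        have hkM : e k ∈ M := by
          rcases hpow with hp | hp
          · exact hodd _ 3 (by decide) ((h.pow_three hk).1 hp)
          · exact hodd _ 5 (by decide) ((h.pow_five hk).1 hp)
        have hei : e k * e dIdx * (e k)⁻¹ = e i := by
          rw [h.mul k hk _ hd, he, ← h.mul i hi1 k hk, mul_inv_cancel_right]
        have hiM : e i ∈ M := hei ▸ mul_mem (mul_mem hkM hMd) (inv_mem hkM)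
        refine ⟨⟨e i, hiM⟩, ⟨?_, (hK _).2 ⟨i, hi1, rfl⟩⟩, rfl⟩
        rw [Subgroup.orderOf_mk]
        exact orderOf_eq_prime (by rw [pow_two, (h.sq_one hi1).2 hi2.1.2]) fun he1 => hi2.1.1 ((h.eq_one hi1).1 he1)
    have hlt : ∀ a ∈ dList.toFinset, a < 120 := fun a ha =>
      List.mem_range.1 (List.mem_filter.1 (List.mem_toFinset.1 ha)).1
    rw [hset, Set.InjOn.ncard_image (fun a ha b hb => h.inj a (hlt a ha) b (hlt b hb)),
      Set.ncard_coe_finset, List.toFinset_card_of_nodup (show dList.Nodup from List.nodup_range.filter _)]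
    exact dList_length
  have hdvd : 15 ∣ Nat.card D := by
    have he := Nat.card_congr (MulAction.orbitProdStabilizerEquivGroup D' s₀)
    rw [Nat.card_prod, horb, hN, Subgroup.card_map_of_injective ConjAct.toConjAct.injective] at he
    exact ⟨_, he.symm⟩
  have hDodd : Odd (Nat.card D) := hse.2.2 g0 hg0
  set D2 : Subgroup Q := D.map M.subtype with hD2
  have hD2K : D2 ≤ K := by
    rintro _ ⟨d, hd', rfl⟩
    exact hd'.1
  have hD2c : Nat.card D2 = 15 := by
    rw [hD2, Subgroup.card_map_of_injective M.subtype_injective]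
    have hdK : Nat.card D ∣ 120 := by
      rw [← hKc, ← Subgroup.card_map_of_injective (f := M.subtype) (K := D) M.subtype_injective]
      exact Subgroup.card_dvd_of_le hD2K
    obtain ⟨r, hr⟩ := hdvd
    have hr8 : r ∣ 8 := by
      rw [hr] at hdK
      exact Nat.dvd_of_mul_dvd_mul_left (by norm_num) (show 15 * r ∣ 15 * 8 from hdK)
    have hrle : r ≤ 8 := Nat.le_of_dvd (by norm_num) hr8
    rw [hr, Nat.odd_iff] at hDodd
    interval_cases r <;> omega
  haveI : Fact (Nat.Prime 3) := ⟨by norm_num⟩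
  haveI : Fact (Nat.Prime 5) := ⟨by norm_num⟩
  obtain ⟨a, ha⟩ := exists_prime_orderOf_dvd_card' (G := D2) 3 (by rw [hD2c]; norm_num)
  obtain ⟨b, hb⟩ := exists_prime_orderOf_dvd_card' (G := D2) 5 (by rw [hD2c]; norm_num)
  have hnor : (Subgroup.zpowers b).Normal := Subgroup.normal_of_index_eq_minFac_card (by
    have := (Subgroup.zpowers b).card_mul_index
    rw [Nat.card_zpowers, hb, hD2c] at this
    rw [hD2c, show Nat.minFac 15 = 3 by norm_num]
    omega)
  obtain ⟨r, hr⟩ : a * b * a⁻¹ ∈ Submonoid.powers b :=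
    mem_powers_iff_mem_zpowers.2 (hnor.conj_mem b (Subgroup.mem_zpowers b) a)
  have hr' : a * b * a⁻¹ = b ^ (r % 5) := by
    rw [← hr, ← hb]
    exact (pow_mod_orderOf b r).symm
  have hcomm : a * b = b * a := by
    have hc : ∀ n : ℕ, a * b ^ n * a⁻¹ = b ^ (r % 5 * n) := fun n => by
      rw [← conj_pow, hr', ← pow_mul]
    have h3 : a ^ 3 = 1 := ha ▸ pow_orderOf_eq_one a
    have e1 : b = b ^ (r % 5 * (r % 5 * (r % 5))) := by
      rw [← hc, ← hc, ← hr']
      calc b = a ^ 3 * b * (a ^ 3)⁻¹ := by rw [h3, inv_one, mul_one, one_mul]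
        _ = _ := by rw [pow_succ, pow_succ, pow_one]; group
    have e2 : r % 5 * (r % 5 * (r % 5)) % 5 = 1 := by
      have h1 : b ^ (r % 5 * (r % 5 * (r % 5))) = b ^ 1 := by rw [pow_one]; exact e1.symm
      rw [pow_inj_mod, hb] at h1
      exact h1
    have hrr : r % 5 = 1 := by
      have : r % 5 < 5 := Nat.mod_lt _ (by norm_num)
      generalize r % 5 = k at e2 this ⊢
      interval_cases k <;> omega
    rw [hrr, pow_one] at hr'
    exact mul_inv_eq_iff_eq_mul.1 hr'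
  obtain ⟨i, hi, hia⟩ := (hK _).1 (hD2K a.2)
  obtain ⟨j, hj, hjb⟩ := (hK _).1 (hD2K b.2)
  rw [← Subgroup.orderOf_coe, hia] at ha
  rw [← Subgroup.orderOf_coe, hjb] at hb
  have hi0 : i ≠ 0 := fun h0 => by rw [h0, h.zero, orderOf_one] at ha; exact absurd ha (by norm_num)
  have hj0 : j ≠ 0 := fun h0 => by rw [h0, h.zero, orderOf_one] at hb; exact absurd hb (by norm_num)
  have hl := List.all_eq_true.1 l_fifteen i (List.mem_range.2 hi)
  simp only [Bool.or_eq_true, Bool.not_eq_true', beq_iff_eq, hi0, or_false, List.all_eq_true, List.mem_range] at hl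
  have hl' := (hl.resolve_left (by rw [(h.pow_three hi).2 (ha ▸ pow_orderOf_eq_one _)]; decide)) j hj
  simp only [hj0, or_false, bne_iff_ne] at hl'
  refine hl'.resolve_left (by rw [(h.pow_five hj).2 (hb ▸ pow_orderOf_eq_one _)]; decide)
    (h.inj _ (lm_lt hi hj) _ (lm_lt hj hi) ?_)
  rw [← h.mul i hi j hj, ← h.mul j hj i hi, ← hia, ← hjb]
  exact congrArg Subtype.val hcomm
where
  p_central : ∀ j ∈ pEight, lm dIdx j = lm j dIdx := by
    decide +kernel

end Sect

end Cfsg.Lib.CoThreeRecog
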