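import Cfsg.Agent.CoThreeRecog.SylDefs

/-!
Kernel checks: the involutions that may lie in a conjugate of the elementary subgroup.
-/

set_option autoImplicit false
set_option maxRecDepth 20000
set_option maxHeartbeats 1000000
set_option Elab.async false

namespace Cfsg.Lib.CoThreeRecog

open Cfsg.Lib.CosetCert Cfsg.Lib.PermCert Cfsg.Lib.CosetCert.OutCert

theorem smallCodes_ok : smallIdx.map (fun u => code (key (sW u))) = smallCodes := by decide +kernel

theorem x0 : xPart 0 9 = true := by decide +kernel

theorem x1 : xPart 9 9 = true := by decide +kernel

theorem x2 : xPart 18 9 = true := by decide +kernel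

theorem x3 : xPart 27 9 = true := by decide +kernel

theorem x4 : xPart 36 9 = true := by decide +kernel

theorem x5 : xPart 45 9 = true := by decide +kernel

theorem xs_ok : (xs.length == 54 && xs.all (fun x => Nat.blt x 1024 && Nat.blt 1 x) && smallIdx.all (fun u =>
    smallIdx.contains (tb sStep u 0)) && sG 0 == 1) = true := by decide +kernel

theorem subs_ok : (subs.all fun q => lets cLet q.2.1 && q.1.length == 16 && decide q.1.Nodup &&
    q.1.all (fun e => smallIdx.contains e && q.2.2.contains e) && q.2.2.length == 16 &&
    (List.range 16).all fun e => q.1.contains (q.2.2.getD e 1024) &&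
      eqW (cjW q.2.1 (eW e)) (sW (q.2.2.getD e 1024))) = true ∧ subs ≠ [] := by decide +kernel

end Cfsg.Lib.CoThreeRecog
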