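import Cfsg.Agent.CoThreeRecog.SylDefs

/-!
Kernel checks: the classes in the Sylow subgroup.
-/

set_option autoImplicit false
set_option maxRecDepth 20000
set_option maxHeartbeats 1000000
set_option Elab.async false

namespace Cfsg.Lib.CoThreeRecog

open Cfsg.Lib.CosetCert Cfsg.Lib.PermCert Cfsg.Lib.CosetCert.OutCert

theorem s_sorted : (incr (sOrder.map fun i => code (key (sW i))) && sOrder.all (Nat.blt · 1024) &&
    sOrder.length == 1024) = true := by decide +kernel

theorem tags0 : ((List.range' 0 256).all tagOK) = true := by decide +kernel

theorem tags1 : ((List.range' 256 256).all tagOK) = true := by decide +kernel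

theorem tags2 : ((List.range' 512 256).all tagOK) = true := by decide +kernel

theorem tags3 : ((List.range' 768 256).all tagOK) = true := by decide +kernel

theorem fix_counts : (nFix tW == 36 && nFix (eW eX) == 36 && nFix [1] == 12) = true := by decide +kernel

theorem roots : (lets cLet rootX && eqW (rootX ++ rootX) tW && comW rootX (eW eX) &&
    lets cLet rootY && eqW (rootY ++ rootY) tW && comW rootY [1]) = true := by decide +kernel

end Cfsg.Lib.CoThreeRecog
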