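import Cfsg.Agent.CoThreeRecog.SylDefs

/-!
Kernel checks: three compatible involutions of the Sylow subgroup span a listed elementary subgroup.
-/

set_option autoImplicit false
set_option maxRecDepth 20000
set_option maxHeartbeats 1000000
set_option Elab.async false

namespace Cfsg.Lib.CoThreeRecog

/-- The sixteen products of three indices and the involution. -/
def span3 (x y z : ℕ) : List ℕ :=
  let xy := xmul x y
  [0, 1, x, tmul x, y, tmul y, xy, tmul xy, z, tmul z, xmul x z, tmul (xmul x z), xmul y z, tmul (xmul y z),
    xmul xy z, tmul (xmul xy z)]

/-- Three independent compatible involutions span a listed subgroup. -/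
def triPart (a k : ℕ) : Bool :=
  (List.range' a k).all fun i =>
    let x := xs.getD i 0
    xs.all fun y => y == x || y == tmul x || !xs.contains (xmul x y) ||
      let xy := xmul x y
      xs.all fun z => [x, tmul x, y, tmul y, xy, tmul xy].contains z ||
        !xs.contains (xmul x z) || !xs.contains (xmul y z) || !xs.contains (xmul xy z) ||
        subs.any fun q => let sp := span3 x y z; q.1.all fun e => sp.contains e

theorem tri0 : triPart 0 6 = true := by decide +kernel
theorem tri1 : triPart 6 6 = true := by decide +kernel
theorem tri2 : triPart 12 6 = true := by decide +kernel
theorem tri3 : triPart 18 6 = true := by decide +kernel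
theorem tri4 : triPart 24 6 = true := by decide +kernel
theorem tri5 : triPart 30 6 = true := by decide +kernel
theorem tri6 : triPart 36 6 = true := by decide +kernel
theorem tri7 : triPart 42 6 = true := by decide +kernel
theorem tri8 : triPart 48 6 = true := by decide +kernel

end Cfsg.Lib.CoThreeRecog
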