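import Cfsg.Agent.CoThreeRecog.SylSteps
import Cfsg.Agent.CoThreeRecog.SylTags
import Cfsg.Agent.CoThreeRecog.SylSmall
import Cfsg.Agent.CoThreeRecog.SylTri
import Cfsg.Agent.CoThreeRecog.Cent

/-!
A Sylow 2-subgroup of the centraliser of the involution in the model and the classes of its involutions.
-/

set_option autoImplicit false
set_option maxRecDepth 20000

namespace Cfsg.Lib.CoThreeRecog

open Cfsg Cfsg.Lib.CosetCert Cfsg.Lib.CosetCert.OutCert
open Cfsg.Lib.CoThreeModel (data valid_data grp_eq)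

/-- An element of the elementary subgroup. -/
def eE (i : ℕ) : Pm := val (eW i)

/-- An element of the Sylow subgroup. -/
def sE' (i : ℕ) : Pm := val (sW i)

/-- The involution of the second class. -/
def qP : Pm := val [1]

/-- A conjugate in the centraliser of the chosen involution of the elementary subgroup. -/
def IsX (z : Pm) : Prop := ∃ d ∈ centP, d * eE eX * d⁻¹ = z

/-- A conjugate in the centraliser of the involution of the second class. -/
def IsY (z : Pm) : Prop := ∃ d ∈ centP, d * qP * d⁻¹ = z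

theorem eW_ok {i : ℕ} (hi : i < 16) : lets cLet (eW i) = true ∧ tb eMul i i = 0 ∧ ∀ j < 16,
    tb eMul i j < 16 ∧ val (eW i) * val (eW j) = val (eW (tb eMul i j)) ∧ tb eMul i j = tb eMul j i ∧
      (i = j ∨ key (eW i) ≠ key (eW j)) := by
  have h := List.all_eq_true.1 e_ok.1 i (List.mem_range.2 hi)
  simp only [Bool.and_eq_true, beq_iff_eq, List.all_eq_true, List.mem_range, Bool.or_eq_true, bne_iff_ne] at h
  refine ⟨h.1.1, h.1.2, fun j hj => ?_⟩
  obtain ⟨⟨⟨h1, h2⟩, h3⟩, h4⟩ := h.2 j hj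
  exact ⟨Nat.le_of_ble_eq_true h1, by rw [← val_app]; exact eqW_sound h2, h3, h4⟩

theorem eW_inL {i : ℕ} (hi : i < 16) : inL (eW i) = true := lets_inL cLet_lt (eW_ok hi).1

theorem eE_centP {i : ℕ} (hi : i < 16) : eE i ∈ centP := val_centP (eW_ok hi).1

theorem eE_one : eE 1 = tP := by rw [eE, e_ok.2.2]; rfl

theorem eE_zero : eE 0 = 1 := by rw [eE, e_ok.2.1, val_nil]

theorem eE_mul {i j : ℕ} (hi : i < 16) (hj : j < 16) : eE i * eE j = eE (tb eMul i j) :=
  ((eW_ok hi).2.2 j hj).2.1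

theorem eMul_lt {i j : ℕ} (hi : i < 16) (hj : j < 16) : tb eMul i j < 16 := ((eW_ok hi).2.2 j hj).1

theorem eE_sq {i : ℕ} (hi : i < 16) : eE i * eE i = 1 := by
  rw [eE_mul hi hi, (eW_ok hi).2.1, eE_zero]

theorem eE_comm {i j : ℕ} (hi : i < 16) (hj : j < 16) : eE i * eE j = eE j * eE i := by
  rw [eE_mul hi hj, eE_mul hj hi, ((eW_ok hi).2.2 j hj).2.2.1]

theorem eE_inj {i j : ℕ} (hi : i < 16) (hj : j < 16) (h : eE i = eE j) : i = j :=
  (((eW_ok hi).2.2 j hj).2.2.2).resolve_right fun hne => hne (key_of_eq (eW_inL hi) (eW_inL hj) h)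

theorem eX_lt : eX < 16 := by decide

theorem qP_centP : qP ∈ centP := val_centP rfl

theorem qP_sq : qP * qP = 1 := by
  rw [qP, val_one]
  exact lt_sq (by norm_num)

theorem IsX.centP {z : Pm} (h : IsX z) : z ∈ centP := by
  obtain ⟨d, hd, rfl⟩ := h
  exact mul_mem (mul_mem hd (eE_centP eX_lt)) (inv_mem hd)

theorem IsX.conj {z d : Pm} (h : IsX z) (hd : d ∈ CoThreeRecog.centP) : IsX (d * z * d⁻¹) := by
  obtain ⟨e, he, rfl⟩ := h
  exact ⟨d * e, mul_mem hd he, by group⟩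

theorem IsY.conj {z d : Pm} (h : IsY z) (hd : d ∈ CoThreeRecog.centP) : IsY (d * z * d⁻¹) := by
  obtain ⟨e, he, rfl⟩ := h
  exact ⟨d * e, mul_mem hd he, by group⟩

/-- The number of fixed points of a permutation. -/
noncomputable def nfp (z : Pm) : ℕ := Nat.card {x : Fin data.n // z x = x}

theorem nfp_conj (d z : Pm) : nfp (d * z * d⁻¹) = nfp z :=
  Nat.card_congr (d.subtypeEquiv fun x => by simp [Equiv.Perm.mul_apply]).symm

theorem nfp_val {w : List ℕ} (h : inL w = true) : nfp (val w) = nFix w := by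
  classical
  rw [nfp, nFix, Nat.card_eq_fintype_card, Fintype.card_subtype, List.countP_eq_length_filter]
  rw [← List.toFinset_card_of_nodup (List.nodup_range.filter _)]
  refine Finset.card_bij (fun x _ => x.val) (fun x hx => ?_) (fun a _ b _ e => Fin.ext e) fun y hy => ?_
  · simp only [Finset.mem_filter, Finset.mem_univ, true_and] at hx
    rw [List.mem_toFinset, List.mem_filter, List.mem_range, fixW, beq_iff_eq, ← val_inv_apply h x]
    exact ⟨x.isLt, by rw [Equiv.Perm.inv_eq_iff_eq.2 hx.symm]⟩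
  · rw [List.mem_toFinset, List.mem_filter, List.mem_range, fixW, beq_iff_eq] at hy
    refine ⟨⟨y, hy.1⟩, ?_, rfl⟩
    have e : (val w)⁻¹ ⟨y, hy.1⟩ = ⟨y, hy.1⟩ := Fin.ext (by rw [val_inv_apply h]; exact hy.2)
    simp only [Finset.mem_filter, Finset.mem_univ, true_and]
    exact (Equiv.Perm.inv_eq_iff_eq.1 e).symm

theorem nfp_vals : nfp tP = 36 ∧ nfp (eE eX) = 36 ∧ nfp qP = 12 := by
  have h := fix_counts
  simp only [Bool.and_eq_true, beq_iff_eq] at h
  exact ⟨by rw [tP, nfp_val tW_inL, h.1.1], by rw [eE, nfp_val (eW_inL eX_lt), h.1.2],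
    by rw [qP, nfp_val rfl, h.2]⟩

theorem IsY.ne_tP {z : Pm} (h : IsY z) : z ≠ tP := by
  obtain ⟨d, -, rfl⟩ := h
  intro e
  have := congrArg nfp e
  rw [nfp_conj, nfp_vals.1, nfp_vals.2.2] at this
  exact absurd this (by norm_num)

theorem IsY.not_X {z : Pm} (h : IsY z) : ¬ IsX z := by
  obtain ⟨d, -, rfl⟩ := h
  rintro ⟨e, -, he⟩
  have := congrArg nfp he
  rw [nfp_conj, nfp_conj, nfp_vals.2.1, nfp_vals.2.2] at this
  exact absurd this (by norm_num)

theorem s_part {i : ℕ} (hi : i < 1024) : lets cLet (sW i) = true ∧ ∀ j < 5,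
    tb sStep i j < 1024 ∧ eqW (sW i ++ sW (sG j)) (sW (tb sStep i j)) = true := by
  have key : ∀ a, stepPart a 256 = true → a ≤ i → i < a + 256 → lets cLet (sW i) = true ∧ ∀ j < 5,
      tb sStep i j < 1024 ∧ eqW (sW i ++ sW (sG j)) (sW (tb sStep i j)) = true := by
    intro a h h1 h2
    have := List.all_eq_true.1 h i (List.mem_range'_1.2 ⟨h1, h2⟩)
    simp only [Bool.and_eq_true, List.all_eq_true, List.mem_range] at this
    exact ⟨this.1, fun j hj => ⟨Nat.le_of_ble_eq_true (this.2 j hj).1, (this.2 j hj).2⟩⟩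
  rcases (by omega : i < 256 ∨ (256 ≤ i ∧ i < 512) ∨ (512 ≤ i ∧ i < 768) ∨ 768 ≤ i) with h | h | h | h
  exacts [key 0 step0 (Nat.zero_le _) h, key 256 step1 h.1 h.2, key 512 step2 h.1 h.2, key 768 step3 h (by omega)]

theorem s_words {i : ℕ} (hi : i < 1024) : lets cLet (sW i) = true := (s_part hi).1

theorem s_inL {i : ℕ} (hi : i < 1024) : inL (sW i) = true := lets_inL cLet_lt (s_words hi)

theorem sE_centP {i : ℕ} (hi : i < 1024) : sE' i ∈ centP := val_centP (s_words hi)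

theorem s_facts : sE' 0 = 1 ∧ sE' 1 = tP ∧ sGens.length = 5 ∧ ∀ j < 5, sG j < 1024 := by
  have h := s_base
  simp only [Bool.and_eq_true, beq_iff_eq, List.all_eq_true] at h
  refine ⟨by rw [sE', h.1.1.1, val_nil], by rw [sE', eqW_sound h.1.1.2]; rfl, h.1.2, fun j hj => ?_⟩
  rw [sG, List.getD_eq_getElem _ _ (by rw [h.1.2]; exact hj)]
  exact Nat.le_of_ble_eq_true (h.2 _ (List.getElem_mem _))

theorem s_step {i j : ℕ} (hi : i < 1024) (hj : j < 5) :
    tb sStep i j < 1024 ∧ sE' i * sE' (sG j) = sE' (tb sStep i j) := by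
  obtain ⟨h1, h2⟩ := (s_part hi).2 j hj
  exact ⟨h1, by rw [sE', sE', sE', ← val_app]; exact eqW_sound h2⟩

/-- The Sylow subgroup of the centraliser. -/
def SM : Subgroup Pm := Subgroup.closure ((fun k => sE' (sG k)) '' Set.Iio 5)

theorem SM_mem : ∀ i < 1024, sE' i ∈ SM := by
  intro i
  induction i using Nat.strong_induction_on with
  | _ i ih =>
    intro hi
    rcases Nat.eq_zero_or_pos i with rfl | hpos
    · exact s_facts.1 ▸ one_mem _
    have h := List.all_eq_true.1 s_tree i (List.mem_range'_1.2 ⟨Nat.zero_le _, by omega⟩)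
    simp only [Bool.or_eq_true, Bool.and_eq_true, beq_iff_eq, hpos.ne', false_or] at h
    have hp : (sPar.getD i (0, 0)).1 < i := Nat.le_of_ble_eq_true h.2
    obtain ⟨-, e⟩ := s_step (lt_trans hp hi) (Nat.le_of_ble_eq_true h.1.1)
    rw [h.1.2] at e
    rw [← e]
    exact mul_mem (ih _ hp (lt_trans hp hi)) (Subgroup.subset_closure ⟨_, Nat.le_of_ble_eq_true h.1.1, rfl⟩)

theorem SM_exhaust {z : Pm} (hz : z ∈ SM) : ∃ i < 1024, z = sE' i := by
  have hfin : ((fun k => sE' (sG k)) '' Set.Iio 5).Finite := (Set.finite_Iio _).image _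
  rw [SM, ← Subgroup.mem_toSubmonoid, Subgroup.closure_toSubmonoid_of_finite] at hz
  induction hz using Submonoid.closure_induction_right with
  | one => exact ⟨0, by norm_num, s_facts.1.symm⟩
  | mul_right x _ y hy ih =>
    obtain ⟨k, hk, rfl⟩ := hy
    obtain ⟨i, hi, rfl⟩ := ih
    exact ⟨_, (s_step hi hk).1, (s_step hi hk).2⟩

theorem SM_le : SM ≤ centP := fun _ hz => by
  obtain ⟨i, hi, rfl⟩ := SM_exhaust hz
  exact sE_centP hi

theorem incr_pairwise : ∀ l : List ℕ, incr l = true → l.Pairwise (· < ·)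
  | [], _ => List.Pairwise.nil
  | [a], _ => List.pairwise_singleton _ _
  | a :: b :: r, h => by
    rw [incr, Bool.and_eq_true] at h
    have ih := incr_pairwise (b :: r) h.2
    have hab : a < b := Nat.le_of_ble_eq_true h.1
    refine List.pairwise_cons.2 ⟨fun x hx => ?_, ih⟩
    rcases List.mem_cons.1 hx with rfl | hx
    · exact hab
    · exact lt_trans hab ((List.pairwise_cons.1 ih).1 x hx)

theorem sE_inj {i j : ℕ} (hi : i < 1024) (hj : j < 1024) (h : sE' i = sE' j) : i = j := by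
  classical
  have hs := s_sorted
  simp only [Bool.and_eq_true, beq_iff_eq, List.all_eq_true] at hs
  have hnd := (incr_pairwise _ hs.1.1).imp (fun h => ne_of_lt h)
  have hnd' : (sOrder.map fun i => code (key (sW i))).Nodup := hnd
  have hord : sOrder.Nodup := hnd'.of_map _
  have hall : sOrder.toFinset = Finset.range 1024 := Finset.eq_of_subset_of_card_le
    (fun x hx => Finset.mem_range.2 (Nat.le_of_ble_eq_true (hs.1.2 x (List.mem_toFinset.1 hx))))
    (by rw [Finset.card_range, List.toFinset_card_of_nodup hord, hs.2])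
  have mem : ∀ k < 1024, k ∈ sOrder := fun k hk => List.mem_toFinset.1 (hall ▸ Finset.mem_range.2 hk)
  exact List.inj_on_of_nodup_map hnd' (mem i hi) (mem j hj)
    (congrArg code (key_of_eq (s_inL hi) (s_inL hj) h))

theorem SM_card : Nat.card SM = 1024 := by
  rw [← Nat.card_fin 1024]
  refine (Nat.card_eq_of_bijective (fun i : Fin 1024 => (⟨sE' i, SM_mem i i.2⟩ : SM)) ⟨?_, ?_⟩).symm
  · intro a b h
    exact Fin.ext (sE_inj a.2 b.2 (congrArg Subtype.val h))
  · rintro ⟨z, hz⟩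
    obtain ⟨i, hi, rfl⟩ := SM_exhaust hz
    exact ⟨⟨i, hi⟩, rfl⟩

theorem tag_ok {i : ℕ} (hi : i < 1024) : tagOK i = true := by
  have key : ∀ a, ((List.range' a 256).all tagOK) = true → a ≤ i → i < a + 256 → tagOK i = true :=
    fun a h h1 h2 => List.all_eq_true.1 h i (List.mem_range'_1.2 ⟨h1, h2⟩)
  rcases (by omega : i < 256 ∨ (256 ≤ i ∧ i < 512) ∨ (512 ≤ i ∧ i < 768) ∨ 768 ≤ i) with h | h | h | h
  exacts [key 0 tags0 (Nat.zero_le _) h, key 256 tags1 h.1 h.2, key 512 tags2 h.1 h.2, key 768 tags3 h (by omega)]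

/-- The five kinds of elements of the Sylow subgroup. -/
theorem s_kind {i : ℕ} (hi : i < 1024) :
    (∃ j < 1024, sE' i * sE' i = sE' j ∧ sE' j ≠ 1 ∧ (tags.getD j (5, [], 0)).1 ≠ 3) ∨
    ((tags.getD i (5, [], 0)).1 ≠ 3 ∧ sE' i = tP) ∨ (i ∈ xs ∧ IsX (sE' i)) ∨
    ((tags.getD i (5, [], 0)).1 = 3 ∧ IsY (sE' i)) ∨ sE' i = 1 := by
  have h := tag_ok hi
  unfold tagOK at h
  generalize hT : tags.getD i (5, [], 0) = T at h
  rcases T with ⟨k, w, j⟩
  rcases k with _ | _ | _ | _ | _ | k <;> simp only [Bool.and_eq_true, bne_iff_ne] at h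
  · have hj : j < 1024 := Nat.le_of_ble_eq_true h.1.1.1
    exact Or.inl ⟨j, hj, by rw [sE', sE', ← val_app, eqW_sound h.1.1.2],
      fun e => h.1.2 (key_of_eq (s_inL hj) rfl (e.trans val_nil.symm)), h.2⟩
  · exact Or.inr (Or.inl ⟨Nat.one_ne_zero ∘ fun e => by simp at e, eqW_sound h⟩)
  · refine Or.inr (Or.inr (Or.inl ⟨List.contains_iff_mem.1 h.2, val w, val_centP h.1.1, ?_⟩))
    rw [sE', eqW_sound h.1.2, val_cj (lets_inL cLet_lt h.1.1)]
    rfl
  · refine Or.inr (Or.inr (Or.inr (Or.inl ⟨rfl, val w, val_centP h.1, ?_⟩)))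
    rw [sE', eqW_sound h.2, val_cj (lets_inL cLet_lt h.1)]
    rfl
  · exact Or.inr (Or.inr (Or.inr (Or.inr (by rw [sE', eqW_sound h, val_nil]))))
  · exact Bool.noConfusion h

/-- The involutions of the Sylow subgroup. -/
theorem invol_SM {z : Pm} (hz : z ∈ SM) (h : z * z = 1) (h1 : z ≠ 1) :
    z = tP ∨ IsX z ∨ IsY z := by
  obtain ⟨i, hi, rfl⟩ := SM_exhaust hz
  rcases s_kind hi with ⟨j, -, e, hne, -⟩ | ⟨-, e⟩ | ⟨-, e⟩ | ⟨-, e⟩ | e
  · exact absurd (e ▸ h) hne
  · exact Or.inl e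
  · exact Or.inr (Or.inl e)
  · exact Or.inr (Or.inr e)
  · exact absurd e h1

/-- An element of the Sylow subgroup of the first class has a listed index. -/
theorem idx_small {z : Pm} (hz : z ∈ SM) (h : z = 1 ∨ z = tP ∨ IsX z) : ∃ u ∈ smallIdx, z = sE' u := by
  rcases h with rfl | rfl | hX
  · exact ⟨0, by simp [smallIdx], s_facts.1.symm⟩
  · exact ⟨1, by simp [smallIdx], s_facts.2.1.symm⟩
  obtain ⟨i, hi, rfl⟩ := SM_exhaust hz
  obtain ⟨d, hd, hde⟩ := hX
  have hsq : sE' i * sE' i = 1 := by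
    rw [← hde, show d * eE eX * d⁻¹ * (d * eE eX * d⁻¹) = d * (eE eX * eE eX) * d⁻¹ by group, eE_sq eX_lt,
      mul_one, mul_inv_cancel]
  rcases s_kind hi with ⟨j, -, e, hne, -⟩ | ⟨-, e⟩ | ⟨hm, -⟩ | ⟨-, e⟩ | e
  · exact absurd (e ▸ hsq) hne
  · exact ⟨1, by simp [smallIdx], e.trans s_facts.2.1.symm⟩
  · exact ⟨i, by simp [smallIdx, hm], rfl⟩
  · exact absurd ⟨d, hd, hde⟩ e.not_X
  · exact ⟨0, by simp [smallIdx], e.trans s_facts.1.symm⟩

/-- No element of the Sylow subgroup squares to an involution of the second class. -/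
theorem no_root_Y {z : Pm} (hz : z ∈ SM) (h : IsY (z * z)) : False := by
  obtain ⟨i, hi, rfl⟩ := SM_exhaust hz
  obtain ⟨d, hd, hde⟩ := h
  have hy2 : sE' i * sE' i * (sE' i * sE' i) = 1 := by
    rw [← hde, show d * qP * d⁻¹ * (d * qP * d⁻¹) = d * (qP * qP) * d⁻¹ by group, qP_sq, mul_one, mul_inv_cancel]
  have hy1 : sE' i * sE' i ≠ 1 := fun e => by
    rw [← hde, conj_eq_one_iff] at e
    have := nfp_vals.2.2
    rw [e, nfp] at this
    rw [Nat.card_congr (Equiv.subtypeUnivEquiv fun x => by simp), Nat.card_fin] at this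
    exact absurd this (show (276 : ℕ) ≠ 12 by norm_num)
  rcases s_kind hi with ⟨j, hj, e, -, htag⟩ | ⟨-, e⟩ | ⟨-, e, -, he⟩ | ⟨-, e, -, he⟩ | e
  · rcases s_kind hj with ⟨k, -, e2, hne, -⟩ | ⟨-, e2⟩ | ⟨-, e2⟩ | ⟨h3, -⟩ | e2
    · exact hne (e2 ▸ (e ▸ hy2))
    · exact (show IsY (sE' i * sE' i) from ⟨d, hd, hde⟩).ne_tP (e.trans e2)
    · exact (show IsY (sE' i * sE' i) from ⟨d, hd, hde⟩).not_X (e ▸ e2)
    · exact htag h3
    · exact hy1 (e.trans e2)
  · exact hy1 (by rw [e, tP_sq])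
  · exact hy1 (by
      rw [← he, show e * eE eX * e⁻¹ * (e * eE eX * e⁻¹) = e * (eE eX * eE eX) * e⁻¹ by group, eE_sq eX_lt,
        mul_one, mul_inv_cancel])
  · exact hy1 (by
      rw [← he, show e * qP * e⁻¹ * (e * qP * e⁻¹) = e * (qP * qP) * e⁻¹ by group, qP_sq, mul_one, mul_inv_cancel])
  · exact hy1 (by rw [e, one_mul])

/-- The square roots of the central involution. -/
theorem exists_roots : (∃ r ∈ centP, r * r = tP ∧ r * eE eX = eE eX * r) ∧
    ∃ r ∈ centP, r * r = tP ∧ r * qP = qP * r := by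
  have h := roots
  simp only [Bool.and_eq_true] at h
  exact ⟨⟨val rootX, val_centP h.1.1.1.1.1, by rw [← val_app, eqW_sound h.1.1.1.1.2]; rfl, comW_sound h.1.1.1.2⟩,
    ⟨val rootY, val_centP h.1.1.2, by rw [← val_app, eqW_sound h.1.2]; rfl, comW_sound h.2⟩⟩

theorem small_lt {u : ℕ} (hu : u ∈ smallIdx) : u < 1024 := by
  have h := xs_ok
  simp only [Bool.and_eq_true, List.all_eq_true] at h
  simp only [smallIdx, List.mem_cons] at hu
  rcases hu with rfl | rfl | hu
  · norm_num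
  · norm_num
  · exact Nat.le_of_ble_eq_true (h.1.1.2 u hu).1

/-- Every element of the elementary subgroup is in the first class. -/
theorem eE_kind {i : ℕ} (hi : i < 16) : eE i = 1 ∨ eE i = tP ∨ IsX (eE i) := by
  obtain ⟨q, hq⟩ := List.exists_mem_of_ne_nil _ subs_ok.2
  have h := List.all_eq_true.1 subs_ok.1 q hq
  simp only [Bool.and_eq_true, List.all_eq_true, List.mem_range] at h
  obtain ⟨hmem, heq⟩ := h.2 i hi
  have hw : lets cLet q.2.1 = true := h.1.1.1.1.1
  have hu : q.2.2.getD i 1024 ∈ smallIdx :=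
    List.contains_iff_mem.1 (h.1.1.2 _ (List.contains_iff_mem.1 hmem)).1
  have hlt := small_lt hu
  have hdi : val q.2.1 * eE i * (val q.2.1)⁻¹ = sE' (q.2.2.getD i 1024) := by
    rw [eE, ← val_cj (lets_inL cLet_lt hw)]
    exact eqW_sound heq
  have hd := val_centP hw
  have back : eE i = (val q.2.1)⁻¹ * sE' (q.2.2.getD i 1024) * val q.2.1 := by rw [← hdi]; group
  rcases s_kind hlt with ⟨j, hj, e, hne, -⟩ | ⟨-, e⟩ | ⟨-, e⟩ | ⟨h3, -⟩ | e
  · refine absurd ?_ hne
    rw [← e, ← hdi, show val q.2.1 * eE i * (val q.2.1)⁻¹ * (val q.2.1 * eE i * (val q.2.1)⁻¹) =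
      val q.2.1 * (eE i * eE i) * (val q.2.1)⁻¹ by group, eE_sq hi, mul_one, mul_inv_cancel]
  · refine Or.inr (Or.inl ?_)
    rw [back, e, mul_assoc, ← tP_comm hd, inv_mul_cancel_left]
  · refine Or.inr (Or.inr ?_)
    have := e.conj (inv_mem hd)
    rwa [inv_inv, ← back] at this
  · exfalso
    simp only [smallIdx, List.mem_cons] at hu
    revert h3 hu hlt
    generalize q.2.2.getD i 1024 = u
    intro hlt h3 hu
    rcases hu with rfl | rfl | hu
    · exact absurd h3 (by decide +kernel)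
    · exact absurd h3 (by decide +kernel)
    · have : ∀ v ∈ xs, (tags.getD v (5, [], 0)).1 = 2 := by decide +kernel
      rw [this u hu] at h3
      exact absurd h3 (by norm_num)
  · exact Or.inl (by rw [back, e]; group)

end Cfsg.Lib.CoThreeRecog
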