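import Cfsg.Agent.CoThreeRecog.SylDefs

/-!
Kernel checks: the table of the Sylow subgroup.
-/

set_option autoImplicit false
set_option maxRecDepth 20000
set_option maxHeartbeats 1000000
set_option Elab.async false

namespace Cfsg.Lib.CoThreeRecog

open Cfsg.Lib.CosetCert Cfsg.Lib.PermCert Cfsg.Lib.CosetCert.OutCert

theorem step0 : stepPart 0 256 = true := by decide +kernel

theorem step1 : stepPart 256 256 = true := by decide +kernel

theorem step2 : stepPart 512 256 = true := by decide +kernel

theorem step3 : stepPart 768 256 = true := by decide +kernel

theorem s_base : (sW 0 == [] && eqW (sW 1) tW && sGens.length == 5 && sGens.all (Nat.blt · 1024)) = true := by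
  decide +kernel

theorem s_tree : treePart 0 1024 = true := by decide +kernel

end Cfsg.Lib.CoThreeRecog
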